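import Cfsg.Agent.Lib.Perm.Prim
import Cfsg.Agent.Lib.Perm.Affine
import Cfsg.Agent.Lib.Char.Burnside
import Cfsg.Agent.Lib.PF.Main

/-!
# The simple factors of a non-abelian minimal normal subgroup
-/

set_option autoImplicit false

namespace Cfsg.Lib.Perm

open Subgroup Cfsg.Lib.Core Cfsg.Lib.Transfer

variable {G : Type*} [Group G]

/-- `T` is a minimal normal subgroup of `N`. -/
structure Fac (N T : Subgroup G) : Prop where
  le : T ≤ N
  norm : ∀ n ∈ N, ∀ t ∈ T, n * t * n⁻¹ ∈ T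
  ne : T ≠ ⊥
  min : ∀ K ≤ T, (∀ n ∈ N, ∀ t ∈ K, n * t * n⁻¹ ∈ K) → K = ⊥ ∨ K = T

/-- The products `t * m` with `t ∈ P` and `m ∈ N` centralising `T`. -/
def facMul (N : Subgroup G) {T P : Subgroup G} (h : P ≤ T) : Subgroup G where
  carrier := {x | ∃ t ∈ P, ∃ m ∈ N ⊓ centralizer (T : Set G), x = t * m}
  one_mem' := ⟨1, one_mem _, 1, one_mem _, (mul_one 1).symm⟩
  mul_mem' := by
    rintro _ _ ⟨t, ht, m, hm, rfl⟩ ⟨s, hs, k, hk, rfl⟩
    exact ⟨t * s, mul_mem ht hs, m * k, mul_mem hm hk, by rw [mul_assoc, ← mul_assoc m, ← hm.2 s (h hs)]; group⟩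
  inv_mem' := by
    rintro _ ⟨t, ht, m, hm, rfl⟩
    exact ⟨t⁻¹, inv_mem ht, m⁻¹, inv_mem hm, by rw [hm.2 t (h ht), mul_inv_rev]⟩

theorem exists_fac [Finite G] {N : Subgroup G} (h : N ≠ ⊥) : ∃ T, Fac N T := by
  obtain ⟨T, h1, h2, h3, h4⟩ := exists_minimal_invariant_le (le_normalizer (H := N)) h
  exact ⟨T, h1, fun n hn t ht => (mem_normalizer_iff.1 (h2 hn) t).1 ht, h3, fun K hK h =>
    h4 K (fun n hn => mem_normalizer_fintype (h n hn)) hK⟩

namespace Fac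

variable {N T U : Subgroup G} (hT : Fac N T)
include hT

theorem conj [hN : N.Normal] (g : G) : Fac N (g ⋆ T) where
  le x hx := by simpa [mul_assoc] using hN.conj_mem _ (hT.le (mem_conj.1 hx)) g
  norm n hn t ht := mem_conj.2 (by simpa [mul_assoc] using hT.norm _ (hN.conj_mem' n hn g) _ (mem_conj.1 ht))
  ne h := hT.ne (conj_eq_bot_iff.1 h)
  min K hK h := (hT.min (g⁻¹ ⋆ K) (le_conj_iff_inv_conj_le.1 hK) fun n hn t ht => mem_conj.2 (by
    simpa [mul_assoc] using h _ (hN.conj_mem n hn g) _ (mem_conj.1 ht))).imp conj_eq_bot_iff.1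
      fun e => by rw [← e, conj_inv_conj]

theorem comm (hU : Fac N U) (h : T ≠ U) : T ≤ centralizer (U : Set G) := fun t ht u hu => by
  rcases hT.min (T ⊓ U) inf_le_left (fun n hn x hx => ⟨hT.norm n hn x hx.1, hU.norm n hn x hx.2⟩) with e | e
  · have : u * t * u⁻¹ * t⁻¹ ∈ T ⊓ U := mem_inf.2 ⟨mul_mem (hT.norm u (hU.le hu) t ht) (inv_mem ht), by
      simpa only [mul_assoc] using mul_mem hu (hU.norm t (hT.le ht) _ (inv_mem (show u ∈ U from hu)))⟩
    rwa [e, mem_bot, mul_inv_eq_one, mul_inv_eq_iff_eq_mul] at this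
  · exact absurd ((hU.min T (inf_eq_left.1 e) hT.norm).resolve_left hT.ne) h

theorem le_of_conj (hN : IsMinNormal N) {X : Subgroup G} (h : ∀ g, g ⋆ T ≤ X) : N ≤ X := by
  have := hN.normal
  rw [← hN.eq_of_le (K := normalClosure T) inferInstance (fun e => hT.ne (eq_bot_iff.2 (le_normalClosure.trans e.le)))
    (normalClosure_le_normal hT.le)]
  refine (closure_le _).2 fun x hx => ?_
  obtain ⟨t, ht, e⟩ := Group.mem_conjugatesOfSet_iff.1 hx
  obtain ⟨g, rfl⟩ := isConj_iff.1 e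
  exact h g (conj_mem_conj.2 ht)

theorem decomp (hN : IsMinNormal N) {n : G} (hn : n ∈ N) : ∃ t ∈ T, ∃ m ∈ N ⊓ centralizer (T : Set G), n = t * m :=
  have := hN.normal
  hT.le_of_conj hN (X := facMul N le_rfl) (fun g x hx => by
    by_cases e : g ⋆ T = T
    · exact ⟨x, e ▸ hx, 1, one_mem _, (mul_one x).symm⟩
    · exact ⟨1, one_mem _, x, ⟨(hT.conj g).le hx, (hT.conj g).comm hT e hx⟩, (one_mul x).symm⟩) hn

theorem eq_of_norm (hN : IsMinNormal N) {K : Subgroup G} (h1 : K ≤ T) (h2 : ∀ t ∈ T, ∀ x ∈ K, t * x * t⁻¹ ∈ K) :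
    K = ⊥ ∨ K = T := hT.min K h1 fun n hn x hx => by
  obtain ⟨t, ht, m, hm, rfl⟩ := hT.decomp hN hn
  rw [mul_inv_rev, mul_assoc t, ← hm.2 x (h1 hx), mul_assoc, mul_assoc, mul_inv_cancel_left, ← mul_assoc]
  exact h2 t ht x hx

theorem simple (hN : IsMinNormal N) : IsSimpleGroup T :=
  have := (nontrivial_iff_ne_bot T).2 hT.ne
  ⟨fun K hK => (hT.eq_of_norm hN (map_subtype_le K) (by
    rintro t ht _ ⟨x, hx, rfl⟩
    exact ⟨_, hK.conj_mem x hx ⟨t, ht⟩, rfl⟩)).imp (map_eq_bot_iff_of_injective _ T.subtype_injective).1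
      fun e => map_injective T.subtype_injective (e.trans (by rw [← MonoidHom.range_eq_map, range_subtype]))⟩

variable (hN : IsMinNormal N) (hc : ¬ IsMulCommutative N)
include hN hc

theorem eq_one {t : G} (ht : t ∈ T) (h : t ∈ centralizer (T : Set G)) : t = 1 := by
  have := hN.normal
  rcases hT.eq_of_norm hN (K := T ⊓ centralizer T) inf_le_left (fun s hs x hx => by
    rwa [hx.2 s hs, mul_inv_cancel_right]) with e | e
  · exact mem_bot.1 (e.le ⟨ht, h⟩)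
  · refine absurd (le_centralizer_iff_isMulCommutative.1 (hT.le_of_conj hN fun g => ?_)) hc
    rw [← conj_eq_self_of_normal g (centralizer (N : Set G))]
    refine conj_mono g fun s hs n hn => ?_
    obtain ⟨u, hu, m, hm, rfl⟩ := hT.decomp hN hn
    rw [mul_assoc, ← hm.2 s hs, ← mul_assoc, (e.ge hs).2 u hu, mul_assoc]

theorem not_comm : ¬ IsMulCommutative T := fun h =>
  hT.ne (eq_bot_iff.2 fun _ ht => hT.eq_one hN hc ht (le_centralizer_iff_isMulCommutative.2 h ht))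

theorem not_solvable : ¬ Group.IsSolvable T := fun h =>
  have := hT.simple hN
  hT.not_comm hN hc ⟨⟨IsSimpleGroup.comm_iff_isSolvable.2 h⟩⟩

theorem trans (hU : Fac N U) : ∃ g, g ⋆ T = U := by
  have := hN.normal
  by_contra h
  push Not at h
  exact hU.ne (eq_bot_iff.2 fun u hu => hU.eq_one hN hc hu
    (hT.le_of_conj hN (fun g => (hT.conj g).comm hU (h g)) (hU.le hu)))

theorem unique {s t m k : G} (hs : s ∈ T) (ht : t ∈ T) (hm : m ∈ centralizer (T : Set G))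
    (hk : k ∈ centralizer (T : Set G)) (e : s * m = t * k) : s = t :=
  (inv_mul_eq_one.1 (hT.eq_one hN hc (mul_mem (inv_mem ht) hs) (by
    rw [show t⁻¹ * s = k * m⁻¹ by rw [eq_mul_inv_iff_mul_eq, mul_assoc, e, inv_mul_cancel_left]]
    exact mul_mem hk (inv_mem hm)))).symm

theorem exists_inv [Finite G] : ∃ t ∈ T, t ≠ 1 ∧ t * t = 1 := by
  obtain ⟨t, ht, h⟩ := exists_mem_orderOf_eq_prime (H := T) Nat.prime_two (by
    by_contra h
    exact hT.not_solvable hN hc (PF.isSolvable_of_odd T (Nat.odd_iff.2 (by omega))))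
  exact ⟨t, ht, fun e => by simp [e] at h, by rw [← sq, ← h, pow_orderOf_eq_one]⟩

theorem exists_three [Finite G] : ∃ x ∈ T, ∃ y ∈ T, ∃ z ∈ T, x ≠ 1 ∧ y ≠ 1 ∧ z ≠ 1 ∧ orderOf x ≠ orderOf y ∧
    orderOf x ≠ orderOf z ∧ orderOf y ≠ orderOf z := by
  obtain ⟨p, q, r, hp, hq, hr, h1, h2, h3⟩ := Finset.two_lt_card_iff.1 (not_le.1 fun h =>
    hT.not_solvable hN hc (Char.isSolvable_of_card_primeFactors_le_two T h))
  have key : ∀ p ∈ (Nat.card T).primeFactors, ∃ x ∈ T, x ≠ 1 ∧ orderOf x = p := fun p hp =>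
    (exists_mem_orderOf_eq_prime (Nat.prime_of_mem_primeFactors hp) (Nat.dvd_of_mem_primeFactors hp)).imp fun x h =>
      ⟨h.1, fun e => (Nat.prime_of_mem_primeFactors hp).one_lt.ne (by rw [← h.2, e, orderOf_one]), h.2⟩
  obtain ⟨x, x1, x2, rfl⟩ := key p hp
  obtain ⟨y, y1, y2, rfl⟩ := key q hq
  obtain ⟨z, z1, z2, rfl⟩ := key r hr
  exact ⟨x, x1, y, y1, z, z1, x2, y2, z2, h1, h2, h3⟩

omit hT in
theorem dichotomy [Finite G] {K : Subgroup G} (hK : IsCoatom K) (P : Subgroup G → Subgroup G) (h1 : ∀ U, P U ≤ U)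
    (h2 : ∀ k ∈ K, ∀ U, ∀ t ∈ P U, k * t * k⁻¹ ∈ P (k ⋆ U))
    (h3 : ∀ U : Subgroup G, ∀ t ∈ U, ∀ m ∈ N ⊓ centralizer (U : Set G), t * m ∈ K → t ∈ P U) :
    (∀ U, Fac N U → P U ≤ K) ∨ ∀ U, Fac N U → U ≤ P U := by
  have := hN.normal
  rw [or_iff_not_imp_left]
  intro h U hU t ht
  let X := closure {t | ∃ U, Fac N U ∧ t ∈ P U}
  have hX : K ≤ normalizer (X : Set G) := fun k hk => mem_normalizer_of_conj_le (by
    rw [MonoidHom.map_closure, closure_le]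
    rintro _ ⟨x, ⟨V, hV, hx⟩, rfl⟩
    exact subset_closure ⟨_, hV.conj k, h2 k hk V x hx⟩)
  obtain ⟨x, hx, k, hk, rfl⟩ := exists_mul_of_mem_sup hX ((sup_eq_top_of_isCoatom hK fun e : X ≤ K =>
    h fun V hV s hs => e (subset_closure ⟨V, hV, hs⟩)).ge (mem_top t))
  have hx' : x ∈ facMul N (h1 U) := (closure_le _).2 (by
    rintro s ⟨V, hV, hs⟩
    by_cases e : V = U
    · exact ⟨s, e ▸ hs, 1, one_mem _, (mul_one s).symm⟩
    · exact ⟨1, one_mem _, s, ⟨hV.le (h1 V hs), hV.comm hU e (h1 V hs)⟩, (one_mul s).symm⟩) hx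
  obtain ⟨s, hs, m, hm, rfl⟩ := hx'
  obtain ⟨u, hu, l, hl, rfl⟩ := hU.decomp hN ((mul_mem_cancel_left (mul_mem (hU.le (h1 U hs)) hm.1)).1 (hU.le ht))
  rw [show s * m * (u * l) = s * u * (m * l) by rw [mul_assoc, ← mul_assoc m, ← hm.2 u hu]; group] at ht ⊢
  rw [← hU.unique hN hc (mul_mem (h1 U hs) hu) ht (mul_mem hm.2 hl.2) (one_mem _) (mul_one _).symm]
  exact mul_mem hs (h3 U u hu l hl hk)

theorem proj_mem [Finite G] {K : Subgroup G} (hK : IsCoatom K) (h1 : T ⊓ K ≠ ⊥) (h2 : ¬ T ≤ K) {t m : G} (ht : t ∈ T)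
    (hm : m ∈ N ⊓ centralizer (T : Set G)) (h : t * m ∈ K) : t ∈ K := by
  have := hN.normal
  let P : Subgroup G → Subgroup G := fun U =>
    { carrier := {t | t ∈ U ∧ ∃ m ∈ N ⊓ centralizer (U : Set G), t * m ∈ K}
      one_mem' := ⟨one_mem _, 1, one_mem _, by simpa using one_mem K⟩
      mul_mem' := by
        rintro s t ⟨hs, m, hm, h1⟩ ⟨ht, k, hk, h2⟩
        refine ⟨mul_mem hs ht, m * k, mul_mem hm hk, ?_⟩
        rw [mul_assoc, ← mul_assoc t, hm.2 t ht, mul_assoc, ← mul_assoc]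
        exact mul_mem h1 h2
      inv_mem' := by
        rintro s ⟨hs, m, hm, h1⟩
        refine ⟨inv_mem hs, m⁻¹, inv_mem hm, ?_⟩
        rw [← mul_inv_rev, ← hm.2 s hs]
        exact inv_mem h1 }
  rcases dichotomy hN hc hK P (fun U t ht => ht.1) (fun k hk U t ⟨ht, m, hm, h⟩ => ⟨conj_mem_conj.2 ht, k * m * k⁻¹,
    ⟨this.conj_mem m hm.1 k, by rw [← conj_centralizer]; exact conj_mem_conj.2 hm.2⟩, by
      simpa [mul_assoc] using mul_mem (mul_mem hk h) (inv_mem hk)⟩) (fun U t ht m hm h => ⟨ht, m, hm, h⟩) with e | e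
  · exact e T hT ⟨ht, m, hm, h⟩
  refine absurd ((hT.eq_of_norm hN inf_le_left fun s hs x hx => ⟨hT.norm s (hT.le hs) x hx.1, ?_⟩).resolve_left h1)
    fun e => h2 (inf_eq_left.1 e)
  obtain ⟨-, k, hk, h3⟩ := e T hT hs
  have := mul_mem (mul_mem h3 hx.2) (inv_mem h3)
  rwa [mul_inv_rev, mul_assoc s, ← hk.2 x hx.1, mul_assoc, mul_assoc, mul_inv_cancel_left, ← mul_assoc] at this

end Fac

end Cfsg.Lib.Perm
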