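import Cfsg.Agent.Lib.Perm.Witt

/-!
# Finite projective planes with a collineation group: perspectivities, elations, involutions
-/

set_option autoImplicit false

namespace Cfsg.Lib.Perm

open MulAction Subgroup

/-- A finite projective plane of order `n` with a faithful collineation group `G`. -/
structure Pl (G P L : Type*) [Group G] [MulAction G P] [MulAction G L] where
  I : P → L → Prop
  n : ℕ
  two : 2 ≤ n
  join : ∀ p q, p ≠ q → ∃ l, I p l ∧ I q l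
  meet : ∀ l m, l ≠ m → ∃ p, I p l ∧ I p m
  uniq : ∀ {p q l m}, I p l → I q l → I p m → I q m → p = q ∨ l = m
  cardL : ∀ l, {p | I p l}.ncard = n + 1
  cardP : ∀ p, {l | I p l}.ncard = n + 1
  cardA : Nat.card P = n ^ 2 + n + 1
  cardB : Nat.card L = n ^ 2 + n + 1
  inv : ∀ (g : G) p l, I (g • p) (g • l) ↔ I p l
  faith : ∀ g : G, (∀ p : P, g • p = p) → g = 1
  faith' : ∀ g : G, (∀ l : L, g • l = l) → g = 1

namespace Pl

variable {G P L : Type*} [Group G] [MulAction G P] [MulAction G L] (D : Pl G P L)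

/-- The dual plane. -/
def dual : Pl G L P where
  I l p := D.I p l
  n := D.n
  two := D.two
  join := D.meet
  meet := D.join
  uniq h1 h2 h3 h4 := (D.uniq h1 h3 h2 h4).symm
  cardL := D.cardP
  cardP := D.cardL
  cardA := D.cardB
  cardB := D.cardA
  inv g l p := D.inv g p l
  faith := D.faith'
  faith' := D.faith

include D in
theorem finite : Finite P := Nat.finite_of_card_ne_zero (by rw [D.cardA]; omega)

theorem inv' (g : G) (p : P) (l : L) : D.I p (g • l) ↔ D.I (g⁻¹ • p) l := by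
  rw [← D.inv g (g⁻¹ • p), smul_inv_smul]

theorem smul_mem {g : G} {p : P} {l : L} (h : D.I p l) (e : g • l = l) : D.I (g • p) l := by
  rw [← e]; exact (D.inv _ _ _).2 h

theorem smul_mem' {g : G} {p : P} {l : L} (h : D.I p l) (e : g • p = p) : D.I p (g • l) := by
  rw [← e]; exact (D.inv _ _ _).2 h

theorem smul_not_mem {g : G} {p : P} {l : L} (h : ¬ D.I p l) (e : g • l = l) : ¬ D.I (g • p) l := by
  rwa [← e, D.inv]

theorem line_eq {p q : P} {l m : L} (h : p ≠ q) (h1 : D.I p l) (h2 : D.I q l) (h3 : D.I p m) (h4 : D.I q m) : l = m :=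
  (D.uniq h1 h2 h3 h4).resolve_left h

theorem pt_eq {p q : P} {l m : L} (h : l ≠ m) (h1 : D.I p l) (h2 : D.I q l) (h3 : D.I p m) (h4 : D.I q m) : p = q :=
  (D.uniq h1 h2 h3 h4).resolve_right h

theorem fix_line {g : G} {p q : P} {l : L} (h : p ≠ q) (h1 : D.I p l) (h2 : D.I q l) (e1 : g • p = p)
    (e2 : g • q = q) : g • l = l := D.line_eq h (D.smul_mem' h1 e1) (D.smul_mem' h2 e2) h1 h2

theorem fix_pt {g : G} {p : P} {l m : L} (h : l ≠ m) (h1 : D.I p l) (h2 : D.I p m) (e1 : g • l = l)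
    (e2 : g • m = m) : g • p = p := D.dual.fix_line h h1 h2 e1 e2

theorem exists_third (l : L) (a b : P) : ∃ p, D.I p l ∧ p ≠ a ∧ p ≠ b := by
  by_contra h
  push Not at h
  have h1 := Set.ncard_le_ncard (s := {p | D.I p l}) (t := {a, b}) fun p hp => by_contra fun e =>
    e (Or.inr (h p hp fun e' => e (Or.inl e')))
  have := Set.ncard_insert_le a {b}
  have := D.two
  rw [D.cardL] at h1
  rw [Set.ncard_singleton] at *
  omega

theorem join' (p q : P) : ∃ l, D.I p l ∧ D.I q l := by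
  by_cases h : p = q
  · obtain ⟨l, hl⟩ := Set.nonempty_of_ncard_ne_zero (s := {l | D.I p l}) (by rw [D.cardP]; omega)
    exact ⟨l, hl, h ▸ hl⟩
  · exact D.join p q h

theorem meet' (l m : L) : ∃ p, D.I p l ∧ D.I p m := D.dual.join' l m

theorem card_off (l : L) : {p | ¬ D.I p l}.ncard = D.n ^ 2 := by
  haveI := D.finite
  have := Set.ncard_add_ncard_compl {p | D.I p l}
  rw [D.cardL, D.cardA] at this
  change _ + {p | ¬ D.I p l}.ncard = _ at this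
  omega

theorem card_diff {l : L} {c : P} (h : D.I c l) : {p | D.I p l ∧ p ≠ c}.ncard = D.n := by
  have := Set.ncard_diff_singleton_of_mem (s := {p | D.I p l}) h
  rw [D.cardL] at this
  exact this

theorem exists_off (l : L) : ∃ p, ¬ D.I p l :=
  Set.nonempty_of_ncard_ne_zero (s := {p | ¬ D.I p l}) (by rw [D.card_off]; have := D.two; positivity)

/-- `g` fixes every point of `l`. -/
def Ax (g : G) (l : L) : Prop := ∀ p, D.I p l → g • p = p

/-- `g` fixes every line through `c`. -/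
def Ce (g : G) (c : P) : Prop := ∀ l, D.I c l → g • l = l

variable {D}

theorem Ax.fix {g : G} {l : L} (h : D.Ax g l) : g • l = l := by
  obtain ⟨p, hp⟩ := D.meet' l l
  obtain ⟨q, hq, hne, -⟩ := D.exists_third l p p
  exact D.fix_line hne hq hp.1 (h q hq) (h p hp.1)

theorem Ce.fix {g : G} {c : P} (h : D.Ce g c) : g • c = c := Ax.fix (D := D.dual) h

theorem Ax.mul {g h : G} {l : L} (h1 : D.Ax g l) (h2 : D.Ax h l) : D.Ax (g * h) l := fun p hp => by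
  rw [mul_smul, h2 p hp, h1 p hp]

theorem Ax.inv {g : G} {l : L} (h1 : D.Ax g l) : D.Ax g⁻¹ l := fun p hp => inv_smul_eq_iff.2 (h1 p hp).symm

theorem Ax.conj {g : G} {l : L} (h1 : D.Ax g l) (k : G) : D.Ax (k * g * k⁻¹) (k • l) := fun p hp => by
  rw [mul_smul, mul_smul, h1 _ ((D.inv' _ _ _).1 hp), smul_inv_smul]

theorem Ce.mul {g h : G} {c : P} (h1 : D.Ce g c) (h2 : D.Ce h c) : D.Ce (g * h) c := Ax.mul (D := D.dual) h1 h2

theorem Ce.inv {g : G} {c : P} (h1 : D.Ce g c) : D.Ce g⁻¹ c := Ax.inv (D := D.dual) h1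

theorem Ce.conj {g : G} {c : P} (h1 : D.Ce g c) (k : G) : D.Ce (k * g * k⁻¹) (k • c) := Ax.conj (D := D.dual) h1 k

theorem Ax.ce {g : G} {l : L} (h : D.Ax g l) {p : P} (hp : ¬ D.I p l) (e : g • p = p) : D.Ce g p := fun m hm => by
  obtain ⟨q, h1, h2⟩ := D.meet' l m
  exact D.fix_line (fun e : p = q => hp (e ▸ h1)) hm h2 e (h q h1)

theorem Ce.eq_one {g : G} {c c' : P} (h : D.Ce g c) (h' : D.Ce g c') (hne : c ≠ c') : g = 1 := by
  obtain ⟨l, h1, h2⟩ := D.join c c' hne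
  have key : ∀ p, ¬ D.I p l → g • p = p := fun p hp => by
    obtain ⟨m, h3, h4⟩ := D.join' c p
    obtain ⟨m', h5, h6⟩ := D.join' c' p
    exact D.fix_pt (fun e : m = m' => hp (D.line_eq hne h3 (e ▸ h5) h1 h2 ▸ h4)) h4 h6 (h m h3) (h' m' h5)
  refine D.faith g fun p => ?_
  by_cases hp : D.I p l
  · obtain ⟨m, h3, h4, -⟩ := D.dual.exists_third p l l
    obtain ⟨q, h5, h6, -⟩ := D.exists_third m p p
    obtain ⟨r, h7, h8, h9⟩ := D.exists_third m p q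
    exact D.fix_pt h4 h3 hp (D.fix_line h9 h7 h5 (key r fun e => h8 (D.pt_eq h4 h7 h3 e hp))
      (key q fun e => h6 (D.pt_eq h4 h5 h3 e hp))) (h l h1)
  · exact key p hp

theorem Ax.eq_one {g : G} {l l' : L} (h : D.Ax g l) (h' : D.Ax g l') (hne : l ≠ l') : g = 1 :=
  Ce.eq_one (D := D.dual) h h' hne

theorem Ax.fixed {g : G} {l : L} {c p : P} (h : D.Ax g l) (h' : D.Ce g c) (h1 : g ≠ 1) (e : g • p = p) :
    D.I p l ∨ p = c := by
  by_contra hne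
  push Not at hne
  exact h1 ((h.ce hne.1 e).eq_one h' hne.2)

theorem Ax.fixed' {g : G} {l m : L} {c : P} (h : D.Ax g l) (h' : D.Ce g c) (h1 : g ≠ 1) (e : g • m = m) :
    D.I c m ∨ m = l := Ax.fixed (D := D.dual) h' h h1 e

theorem Ax.exists_ce {g : G} {l : L} (h : D.Ax g l) : ∃ c, D.Ce g c := by
  by_cases h1 : ∃ p, ¬ D.I p l ∧ g • p = p
  · obtain ⟨p, hp, e⟩ := h1
    exact ⟨p, h.ce hp e⟩
  push Not at h1
  have key : ∀ d, ¬ D.I d l → ∃ m, D.I d m ∧ g • m = m := fun d hd => by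
    obtain ⟨m, h2, h3⟩ := D.join' d (g • d)
    obtain ⟨c, h4, h5⟩ := D.meet' l m
    exact ⟨m, h2, D.line_eq (fun e : c = g • d => D.smul_not_mem hd h.fix (e ▸ h4)) (D.smul_mem' h5 (h c h4))
      ((D.inv _ _ _).2 h2) h5 h3⟩
  obtain ⟨d, hd⟩ := D.exists_off l
  obtain ⟨m, h2, h3⟩ := key d hd
  obtain ⟨c, h4, h5⟩ := D.meet' l m
  refine ⟨c, fun k hk => ?_⟩
  by_cases e : k = l
  · exact e ▸ h.fix
  obtain ⟨d', h6, h7, -⟩ := D.exists_third k c c
  have h8 : ¬ D.I d' l := fun h8 => h7 (D.pt_eq e h6 hk h8 h4)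
  obtain ⟨m', h9, h10⟩ := key d' h8
  obtain ⟨c', h11, h12⟩ := D.meet' m m'
  by_cases e' : m = m'
  · rwa [D.line_eq h7 h6 hk h9 (e' ▸ h5)]
  have h13 : D.I c' l := by_contra fun h13 => h1 c' h13 (D.fix_pt e' h11 h12 h3 h10)
  rwa [D.line_eq h7 h6 hk h9 (D.pt_eq (fun e : l = m => hd (e ▸ h2)) h13 h4 h11 h5 ▸ h12)]

theorem Ce.exists_ax {g : G} {c : P} (h : D.Ce g c) : ∃ l, D.Ax g l := Ax.exists_ce (D := D.dual) h

variable (D) in
/-- The group of elations with axis `l`. -/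
def El (l : L) : Subgroup G where
  carrier := {g | D.Ax g l ∧ ∃ c, D.I c l ∧ D.Ce g c}
  one_mem' := ⟨fun _ _ => one_smul _ _, (D.meet' l l).imp fun _ h => ⟨h.1, fun _ _ => one_smul _ _⟩⟩
  inv_mem' := fun ⟨h, c, h1, h2⟩ => ⟨h.inv, c, h1, h2.inv⟩
  mul_mem' := by
    rintro a b ⟨ha, c, h1, h2⟩ ⟨hb, d, h3, h4⟩
    refine ⟨ha.mul hb, ?_⟩
    by_cases e : c = d
    · exact ⟨c, h1, h2.mul (e ▸ h4)⟩
    obtain ⟨p, hp⟩ := (ha.mul hb).exists_ce
    by_cases h5 : D.I p l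
    · exact ⟨p, h5, hp⟩
    obtain ⟨m, h6, h7⟩ := D.join' c p
    obtain ⟨m', h8, h9⟩ := D.join' d p
    have h10 : b • p = a⁻¹ • p := by rw [eq_inv_smul_iff, ← mul_smul, hp.fix]
    have h11 : b • p = p := D.pt_eq (fun e' : m = m' => h5 (D.line_eq e h6 (e' ▸ h8) h1 h3 ▸ h7))
      (h10 ▸ D.smul_mem h7 (h2.inv m h6)) h7 (D.smul_mem h9 (h4 m' h8)) h9
    rw [(hb.ce h5 h11).eq_one h4 fun e => h5 (e ▸ h3), mul_one]
    exact ⟨c, h1, h2⟩

theorem El_free {g : G} {l : L} (h : g ∈ D.El l) {p : P} (hp : ¬ D.I p l) (e : g • p = p) : g = 1 := by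
  obtain ⟨h1, c, h2, h3⟩ := h
  exact (h1.ce hp e).eq_one h3 fun e => hp (e ▸ h2)

theorem Ce.pow {g : G} {c : P} (h : D.Ce g c) (k : ℕ) : D.Ce (g ^ k) c := fun l hl =>
  pow_mem (show g ∈ stabilizer G l from h l hl) k

theorem isPGroup_zpowers_of_pow {G : Type*} [Group G] {g : G} {p : ℕ} (h : g ^ p = 1) : IsPGroup p (zpowers g) :=
  by
  rintro ⟨_, k, rfl⟩
  refine ⟨1, Subtype.ext ?_⟩
  change (g ^ k) ^ p ^ 1 = 1
  rw [pow_one, ← zpow_natCast, ← zpow_mul, mul_comm, zpow_mul, zpow_natCast, h, one_zpow]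

theorem exists_fixed_of_pow {G α : Type*} [Group G] [MulAction G α] {g : G} {p : ℕ} (hp : p.Prime) (h : g ^ p = 1)
    [Finite G] {s : Set α} (hs : ∀ x ∈ s, g • x ∈ s) (hnd : ¬ p ∣ s.ncard) : ∃ x ∈ s, g • x = x := by
  haveI := Fact.mk hp
  obtain ⟨x, hx, e⟩ := exists_fixed_of_not_dvd (isPGroup_zpowers_of_pow h) (s := s) (fun u hu => by
    obtain ⟨k, rfl⟩ := mem_powers_iff_mem_zpowers.2 hu
    induction k with
    | zero => simp
    | succ k ih => exact fun x hx => by simpa only [pow_succ', mul_smul] using hs _ (ih (pow_mem (mem_zpowers g) k) x hx)) hnd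
  exact ⟨x, hx, e g (mem_zpowers g)⟩

variable [Finite G]

theorem El_dvd {g : G} {l : L} (h : g ∈ D.El l) (h1 : g ≠ 1) {p : ℕ} (hp : p.Prime) (e : g ^ p = 1) : p ∣ D.n := by
  by_contra hnd
  obtain ⟨c, h2, h3⟩ := h.2
  obtain ⟨m, h4, h5, -⟩ := D.dual.exists_third c l l
  obtain ⟨x, hx, e'⟩ := exists_fixed_of_pow hp e (s := {x | D.I x m ∧ x ≠ c})
    (fun x hx => ⟨D.smul_mem hx.1 (h3 m h4), fun e => hx.2 (MulAction.injective g (e.trans h3.fix.symm))⟩)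
    (by rwa [D.card_diff h4])
  exact h1 (El_free h (fun h6 => hx.2 (D.pt_eq h5 hx.1 h4 h6 h2)) e')

theorem El_odd (hn : Odd D.n) {g : G} {l : L} (h : g ∈ D.El l) : Odd (orderOf g) := by
  by_contra h1
  have h2 := even_iff_two_dvd.1 (Nat.not_odd_iff_even.1 h1)
  have h3 := orderOf_pow_orderOf_div (orderOf_pos g).ne' h2
  exact hn.not_two_dvd_nat (El_dvd (pow_mem h _) (fun e => by simp [e] at h3) Nat.prime_two
    (orderOf_dvd_iff_pow_eq_one.1 h3.dvd))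

theorem El_pgroup {l : L} {s t : G} {c d : P} (hs : D.Ax s l) (hc : D.Ce s c) (hcl : D.I c l) (hs1 : s ≠ 1)
    (ht : D.Ax t l) (hd : D.Ce t d) (hdl : D.I d l) (ht1 : t ≠ 1) (hne : c ≠ d) : ∃ p, p.Prime ∧ IsPGroup p (D.El l) := by
  have key : ∀ (p : ℕ) (s t : G) (c d : P), D.Ax s l → D.Ce s c → D.I c l → s ≠ 1 → D.Ax t l → D.Ce t d → D.I d l →
      c ≠ d → s ^ p = 1 → t ^ p = 1 := by
    intro p s t c d hs hc hcl hs1 ht hd hdl hne e
    have h1 : s * t * s⁻¹ * t⁻¹ = 1 := Ce.eq_one (c := c) (c' := d)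
      (by
        have := hc.inv.conj t
        rw [ht c hcl] at this
        simpa only [mul_assoc] using hc.mul this)
      (Ce.mul (hs d hdl ▸ hd.conj s) hd.inv) hne
    rw [mul_inv_eq_one, mul_inv_eq_iff_eq_mul] at h1
    obtain ⟨-, c', -, h2⟩ := mul_mem (show s ∈ D.El l from ⟨hs, c, hcl, hc⟩) (show t ∈ D.El l from ⟨ht, d, hdl, hd⟩)
    refine (hd.pow p).eq_one (c' := c') (by simpa only [Commute.mul_pow h1, e, one_mul] using h2.pow p) ?_
    rintro rfl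
    exact hs1 (hc.eq_one (by simpa using h2.mul hd.inv) hne)
  obtain ⟨p, hp, h1⟩ := Nat.exists_prime_and_dvd (fun e => hs1 (orderOf_eq_one_iff.1 e) : orderOf s ≠ 1)
  have h2 := orderOf_pow_orderOf_div (orderOf_pos s).ne' h1
  have h3 := fun t d => key p _ t c d (fun x hx => pow_mem (show s ∈ stabilizer G x from hs x hx) (orderOf s / p))
    (hc.pow _) hcl (fun e => hp.one_lt.ne' (by rw [← h2, e, orderOf_one]))
  refine ⟨p, hp, fun ⟨u, hu, e, h4, h5⟩ => ⟨1, Subtype.ext ?_⟩⟩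
  rw [pow_one]
  by_cases h6 : c = e
  · exact key p t u d e ht hd hdl ht1 hu h5 h4 (h6 ▸ hne.symm)
      (h3 t d ht hd hdl hne (orderOf_dvd_iff_pow_eq_one.1 h2.dvd))
  · exact h3 u e hu h5 h4 h6 (orderOf_dvd_iff_pow_eq_one.1 h2.dvd)

omit [Finite G] in
theorem baer {s : G} (h1 : s ≠ 1) (h2 : s * s = 1) :
    ∃ l : L, s • l = l ∧ {p | s • p = p ∧ ¬ D.I p l}.ncard = D.n := by
  have hs : ∀ x : P, s • s • x = x := fun x => by rw [← mul_smul, h2, one_smul]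
  have hs' : ∀ x : L, s • s • x = x := fun x => by rw [← mul_smul, h2, one_smul]
  obtain ⟨w, hw⟩ : ∃ w : P, s • w ≠ w := by
    by_contra h
    push Not at h
    exact h1 (D.faith s h)
  obtain ⟨l, h3, h4⟩ := D.join' w (s • w)
  have h5 : s • l = l := D.line_eq hw ((D.inv _ _ _).2 h3) (by rw [← hs w]; exact (D.inv _ _ _).2 h4) h4 h3
  refine ⟨l, h5, ?_⟩
  rw [← show {m | D.I w m ∧ m ≠ l}.ncard = D.n from D.dual.card_diff h3]
  choose f hf hf' using D.join' w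
  have key : ∀ m, D.I w m → m ≠ l → s • m ≠ m := fun m hm hne e => hw (D.fix_pt hne hm h3 e h5)
  refine Set.ncard_congr (fun p _ => f p) (fun p hp => ⟨hf p, fun e => hp.2 (e ▸ hf' p)⟩) (fun p q hp hq e => ?_)
    fun m hm => ?_
  · by_contra hne
    exact key _ (hf p) (fun e => hp.2 (e ▸ hf' p)) (D.fix_line hne (hf' p) (e ▸ hf' q) hp.1 hq.1)
  · obtain ⟨p, h6, h7⟩ := D.meet' m (s • m)
    have h8 : s • p = p := D.pt_eq (key m hm.1 hm.2) ((D.inv _ _ _).2 h6) h7 (by rw [← hs' m]; exact (D.inv _ _ _).2 h7) h6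
    have h9 : p ≠ w := fun e => hw (e ▸ h8)
    exact ⟨p, ⟨h8, fun h => h9 (D.pt_eq hm.2 h6 hm.1 h h3)⟩, D.line_eq h9 (hf' p) (hf p) h6 hm.1⟩

/-- The points in `A` and the lines in `B` contain a frame. -/
def Cfg (D : Pl G P L) (A : P → Prop) (B : L → Prop) : Prop :=
  ∃ p₁ p₂ p₃ l₁ l₂ l₃, A p₁ ∧ A p₂ ∧ A p₃ ∧ B l₁ ∧ B l₂ ∧ B l₃ ∧ ¬ D.I p₁ l₂ ∧ ¬ D.I p₁ l₃ ∧ ¬ D.I p₂ l₁ ∧
    D.I p₂ l₂ ∧ D.I p₂ l₃ ∧ ¬ D.I p₃ l₁ ∧ D.I p₃ l₂ ∧ ¬ D.I p₃ l₃

omit [Finite G] in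
theorem cfg_or {s : G} {l : L} (hl : s • l = l) {a b : P} (hab : a ≠ b) (ha : s • a = a) (hb : s • b = b)
    (ha' : ¬ D.I a l) (hb' : ¬ D.I b l) {m : L} (h1 : D.I a m) (h2 : D.I b m) :
    D.Cfg (fun x => s • x = x) (fun x => s • x = x) ∨ ∀ p, s • p = p → ¬ D.I p l → D.I p m := by
  rw [or_iff_not_imp_right]
  intro h
  push Not at h
  obtain ⟨c, hc, hc', h3⟩ := h
  obtain ⟨k, h4, h5⟩ := D.join' a c
  obtain ⟨k', h6, h7⟩ := D.join' b c
  obtain ⟨e, h8, h9⟩ := D.meet' l k'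
  have hac : a ≠ c := fun e => h3 (e ▸ h1)
  have hbc : b ≠ c := fun e => h3 (e ▸ h2)
  have hk' := D.fix_line hbc h6 h7 hb hc
  have hbk : ¬ D.I b k := fun h => h3 (D.line_eq hab h4 h h1 h2 ▸ h5)
  refine ⟨e, a, b, l, m, k, D.fix_pt (fun e : l = k' => hb' (e ▸ h6)) h8 h9 hl hk', ha, hb, hl,
    D.fix_line hab h1 h2 ha hb, D.fix_line hac h4 h5 ha hc, fun h => ?_, fun h => ?_, ha', h1, h4, hb', h2, hbk⟩
  · exact h3 (D.line_eq (fun e' : e = b => hb' (e' ▸ h8)) h9 h6 h h2 ▸ h7)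
  · exact hbk (D.line_eq (fun e' : e = c => hc' (e' ▸ h8)) h9 h7 h h5 ▸ h6)

omit [Finite G] in
theorem cfg_or_ax {s : G} (h1 : s ≠ 1) (h2 : s * s = 1) : D.Cfg (fun x => s • x = x) (fun x => s • x = x) ∨ ∃ m, D.Ax s m := by
  haveI := D.finite
  obtain ⟨l, hl, h⟩ := baer (D := D) h1 h2
  obtain ⟨a, ha, b, hb, hab⟩ := (Set.one_lt_ncard (Set.toFinite _)).1 (h ▸ D.two)
  obtain ⟨m, h3, h4⟩ := D.join' a b
  refine (cfg_or hl hab ha.1 hb.1 ha.2 hb.2 h3 h4).imp_right fun h5 => ⟨m, fun p hp => ?_⟩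
  obtain ⟨c, h6, h7⟩ := D.meet' l m
  by_cases e : p = c
  · exact e ▸ D.fix_pt (fun e : l = m => ha.2 (e ▸ h3)) h6 h7 hl (D.fix_line hab h3 h4 ha.1 hb.1)
  · exact ((Set.eq_of_subset_of_ncard_le (s := {p | s • p = p ∧ ¬ D.I p l}) (t := {p | D.I p m ∧ p ≠ c})
      (fun p hp => ⟨h5 p hp.1 hp.2, fun e => hp.2 (e ▸ h6)⟩) (by rw [h, D.card_diff h7])).ge ⟨hp, e⟩).1

end Pl

end Cfsg.Lib.Perm
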