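import Cfsg.Agent.Lib.Perm.TW
import Cfsg.Agent.Lib.Perm.Half

/-!
# Small facts on primitive groups; extremely primitive groups
-/

set_option autoImplicit false

namespace Cfsg.Lib.Perm

open MulAction Function Subgroup Cfsg.Lib.Core Cfsg.Lib.Transfer
open scoped Pointwise

variable {G Ω : Type*} [Group G] [MulAction G Ω]

theorem isCoatom_stabilizer [IsPreprimitive G Ω] {a b : Ω} (hab : a ≠ b) :
    IsCoatom (stabilizer G a) :=
  have : Nontrivial Ω := ⟨a, b, hab⟩
  IsPreprimitive.isCoatom_stabilizer_of_isPreprimitive G a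

theorem not_stabilizer_le [FaithfulSMul G Ω] [IsPreprimitive G Ω] {a b : Ω}
    (h : stabilizer G a ≠ ⊥) (hab : a ≠ b) : ¬ stabilizer G a ≤ stabilizer G b := fun hle => by
  have e := (isCoatom_stabilizer (G := G) hab).le_iff_eq (isCoatom_stabilizer (G := G) hab.symm).1 |>.1 hle
  obtain ⟨g, rfl⟩ := exists_smul_eq G a b
  refine hab (Eq.symm (isPrimSub_stabilizer a _ h le_rfl le_normalizer (?_ : g ∈ _)))
  rw [stabilizer_smul_eq_conj] at e
  exact map_conj_eq_iff.1 e

theorem stabilizer_sup_eq_top [FaithfulSMul G Ω] [IsPreprimitive G Ω] {a b : Ω}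
    (h : stabilizer G b ≠ ⊥) (hab : a ≠ b) : stabilizer G a ⊔ stabilizer G b = ⊤ :=
  (isCoatom_stabilizer (G := G) hab).2 _ (left_lt_sup.2 (not_stabilizer_le h hab.symm))

theorem stabilizer_ne_bot [IsPretransitive G Ω] {a : Ω} (h : stabilizer G a ≠ ⊥) (b : Ω) :
    stabilizer G b ≠ ⊥ := by
  obtain ⟨g, rfl⟩ := exists_smul_eq G a b
  rw [stabilizer_smul_eq_stabilizer_map_conj]
  exact fun e => h ((map_eq_bot_iff_of_injective _ (MulAut.conj g).injective).1 e)

theorem card_stabilizer_eq [IsPretransitive G Ω] (a b : Ω) :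
    Nat.card (stabilizer G a) = Nat.card (stabilizer G b) := by
  obtain ⟨g, rfl⟩ := exists_smul_eq G a b
  rw [stabilizer_smul_eq_stabilizer_map_conj, card_map_conj]

/-- a primitive regular group has prime order -/
theorem card_prime_of_stabilizer_eq_bot [Finite G] [IsPreprimitive G Ω] {a b : Ω} (hab : a ≠ b)
    (h : stabilizer G a = ⊥) : (Nat.card G).Prime := by
  have hc := h ▸ isCoatom_stabilizer (G := G) hab
  obtain ⟨p, hp, hd⟩ := exists_prime_dvd_card (H := (⊤ : Subgroup G)) hc.1.symm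
  obtain ⟨x, -, rfl⟩ := exists_mem_orderOf_eq_prime hp hd
  have hx : x ≠ 1 := by rintro rfl; exact hp.one_lt.ne' orderOf_one
  rwa [← card_top, ← hc.2 (zpowers x) (bot_lt_iff_ne_bot.2 (zpowers_ne_bot.2 hx)), Nat.card_zpowers]

/-- the Fitting subgroup of a primitive group, if non-trivial, is a regular minimal normal subgroup -/
theorem fitting_of_primitive [Finite G] [FaithfulSMul G Ω] [IsPreprimitive G Ω] [Nonempty Ω]
    (h : fittingSubgroup G ≠ ⊥) : IsMinNormal (fittingSubgroup G) ∧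
      IsMulCommutative (fittingSubgroup G) ∧
      centralizer (fittingSubgroup G : Set G) = fittingSubgroup G := by
  obtain ⟨N, hN, hle⟩ := exists_isMinNormal_le (fittingSubgroup_normal G) h
  have := hN.normal
  have h1 := hN.le_centralizer_fittingSubgroup
  have h2 : N ≤ centralizer (N : Set G) := h1.trans (centralizer_le hle)
  have ht := isPretransitive_of_normal (α := Ω) N hN.ne_bot
  have h3 := centralizer_eq_of_transitive ht ht h2
  have e : fittingSubgroup G = N := (h3 ▸ le_centralizer_iff.1 h1).antisymm hle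
  exact e ▸ ⟨hN, le_centralizer_iff_isMulCommutative.1 h2, h3⟩

/-- a normal subgroup of `H` moving a point of an orbit on which `H` is primitive is transitive on
that orbit -/
theorem orbit_eq_of_primitive {H K : Subgroup G} (hK : K ≤ H) (hn : H ≤ normalizer (K : Set G))
    {w : Ω} (hp : IsPreprimitive H (orbit H w)) (hm : ∃ k ∈ K, ∃ x ∈ orbit H w, k • x ≠ x) :
    orbit K w = orbit H w := by
  have := (normal_subgroupOf_iff_le_normalizer hK).2 hn
  obtain ⟨k, hk, x, hx, hkx⟩ := hm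
  have ht : IsPretransitive (K.subgroupOf H) (orbit H w) :=
    IsQuasiPreprimitive.isPretransitive_of_normal fun e => hkx (congrArg Subtype.val
      ((e ▸ Set.mem_univ _ : (⟨x, hx⟩ : orbit H w) ∈ MulAction.fixedPoints (K.subgroupOf H) _) ⟨⟨k, hK hk⟩, hk⟩))
  refine Set.Subset.antisymm (fun y ⟨g, hg⟩ => ⟨⟨g, hK g.2⟩, hg⟩) fun y hy => ?_
  obtain ⟨g, hg⟩ := ht.exists_smul_eq ⟨w, mem_orbit_self w⟩ ⟨y, hy⟩
  exact ⟨⟨g.1.1, g.2⟩, congrArg Subtype.val hg⟩

variable [Finite G] [FaithfulSMul G Ω] [IsPreprimitive G Ω]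
  (hep : ∀ a w : Ω, IsPreprimitive (stabilizer G a) (orbit (stabilizer G a) w))
include hep

/-- in an extremely primitive group the point stabiliser is faithful on its orbits -/
theorem extPrim_faithful {a w : Ω} (hw : w ≠ a) {k : G} (hk : k • a = a)
    (hfix : ∀ x ∈ orbit (stabilizer G a) w, k • x = x) : k = 1 := by
  by_contra hk1
  set K := coreIn (stabilizer G a) (stabilizer G w)
  have hkK : k ∈ K := mem_coreIn_stabilizer.2 ⟨hk, hfix⟩
  have h0 : ∀ b, stabilizer G b ≠ ⊥ := stabilizer_ne_bot (a := a) fun e => hk1 (mem_bot.1 (e ▸ hk))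
  obtain ⟨g, hg⟩ := exists_smul_eq G a w
  obtain ⟨l, hl, c, hc, hlc⟩ : ∃ l ∈ K, ∃ c ∈ orbit (stabilizer G w) (g • w), l • c ≠ c := by
    by_contra hc
    push Not at hc
    have e : K = coreIn (stabilizer G w) (stabilizer G (g • w)) :=
      eq_of_le_of_card_eq (fun l hl => mem_coreIn_stabilizer.2 ⟨coreIn_le_right _ _ hl, hc l hl⟩) (by
        conv_rhs => rw [← hg, stabilizer_smul_eq_conj g a, hg, stabilizer_smul_eq_conj, ← conj_coreIn,
          card_map_conj])
    have hb : K = ⊥ := (isPrimSub_stabilizer a).eq_bot (isPrimSub_stabilizer w)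
      (fun e => not_stabilizer_le (h0 a) hw.symm e.le) (coreIn_le_left _ _) (coreIn_le_right _ _)
      (le_normalizer_coreIn _ _) (by rw [e]; exact le_normalizer_coreIn _ _)
    exact hk1 (mem_bot.1 (hb ▸ hkK))
  have hca : a ≠ c := by rintro rfl; exact hlc (coreIn_le_left _ _ hl)
  have e1 := orbit_eq_of_primitive (coreIn_le_left _ (stabilizer G w)) (le_normalizer_coreIn _ _)
    (hep a c) ⟨l, hl, c, mem_orbit_self c, hlc⟩
  obtain ⟨⟨u, hu⟩, rfl⟩ := hc
  replace hu : u • w = w := hu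
  simp only [mk_smul] at hlc hca e1
  have e2 : orbit (stabilizer G a) w ⊆ orbit (stabilizer G (u • g • w)) w := by
    rintro _ ⟨⟨m, hm⟩, rfl⟩
    obtain ⟨⟨x, hx⟩, hx'⟩ := e1.ge ⟨⟨m, hm⟩⁻¹, rfl⟩
    refine ⟨⟨m * x, ?_⟩, ?_⟩
    · rw [mem_stabilizer_iff, mul_smul, show x • u • g • w = m⁻¹ • u • g • w from hx', smul_inv_smul]
    · simp only [mk_smul, mul_smul, show x • w = w from coreIn_le_right _ _ hx]
  have e3 : orbit (stabilizer G a) w = orbit (stabilizer G (u • g • w)) w := by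
    refine Set.eq_of_subset_of_ncard_le e2 (le_of_eq ?_) (Set.finite_range _)
    rw [ncard_orbit_subgroup, ncard_orbit_subgroup, relIndex_comm_of_card_eq (card_stabilizer_eq _ _),
      ← mul_smul, relIndex_comm_of_card_eq (card_stabilizer_eq w a)]
    conv_lhs => rw [show stabilizer G w = stabilizer G ((u * g) • a) by rw [mul_smul, hg, hu],
      stabilizer_smul_eq_stabilizer_map_conj, stabilizer_smul_eq_stabilizer_map_conj]
    rw [relIndex_map_map_of_injective _ _ (MulAut.conj (u * g)).injective,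
      relIndex_comm_of_card_eq (card_stabilizer_eq w a)]
  have e4 : stabilizer G a ⊔ stabilizer G (u • g • w) ≤
      stabilizer G (orbit (stabilizer G a) w) :=
    sup_le (fun y hy => smul_orbit (⟨y, hy⟩ : stabilizer G a) w) fun y hy => by
      rw [e3]; exact smul_orbit (⟨y, hy⟩ : stabilizer G (u • g • w)) w
  rw [stabilizer_sup_eq_top (h0 _) hca] at e4
  obtain ⟨⟨m, hm⟩, e⟩ := (show g⁻¹ • _ = _ from e4 (mem_top g⁻¹)).le ⟨w, mem_orbit_self w, rfl⟩
  exact hw (by rw [← smul_left_cancel_iff m, show m • a = a from hm, show m • w = g⁻¹ • w from e,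
    inv_smul_eq_iff, hg])

theorem extPrim_faithfulSMul {a w : Ω} (hw : w ≠ a) :
    FaithfulSMul (stabilizer G a) (orbit (stabilizer G a) w) :=
  ⟨fun {g k} e => Subtype.ext (inv_mul_eq_one.1 (extPrim_faithful hep hw (g⁻¹ * k).2 fun x hx => by
    rw [mul_smul, inv_smul_eq_iff]; exact (congrArg Subtype.val (e ⟨x, hx⟩)).symm))⟩

theorem extPrim_orbit_eq {a : Ω} {M : Subgroup G} (h0 : M ≠ ⊥) (hM : M ≤ stabilizer G a)
    (hn : stabilizer G a ≤ normalizer (M : Set G)) (w : Ω) :
    orbit M w = orbit (stabilizer G a) w := by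
  by_cases hw : w = a
  · subst hw
    exact Set.Subset.antisymm (fun y ⟨g, hg⟩ => ⟨⟨g, hM g.2⟩, hg⟩) fun y ⟨g, hg⟩ =>
      ⟨1, (one_smul _ _).trans (g.2.symm.trans hg)⟩
  obtain ⟨k, hk, hk1⟩ := M.bot_or_exists_ne_one.resolve_left h0
  refine orbit_eq_of_primitive hM hn (hep a w) ⟨k, hk, by_contra fun hc => hk1 ?_⟩
  push Not at hc
  exact extPrim_faithful hep hw (hM hk) hc

theorem extPrim_irreducible {N : Subgroup G} [hN : N.Normal] (hr : ∀ w : Ω, stabilizer N w = ⊥)
    {a : Ω} {M : Subgroup G} (h0 : M ≠ ⊥) (hM : M ≤ stabilizer G a)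
    (hn : stabilizer G a ≤ normalizer (M : Set G)) {L : Subgroup G} (hL : L ≤ N)
    (hML : M ≤ normalizer (L : Set G)) : L = ⊥ ∨ L = N := by
  refine L.bot_or_exists_ne_one.imp_right fun ⟨l, hl, hl1⟩ => ?_
  have h1 : stabilizer G a ≤ normalizer (L : Set G) := fun g hg => mem_normalizer_fintype fun x hx => by
    obtain ⟨⟨m, hm⟩, e⟩ := (extPrim_orbit_eq hep h0 hM hn (x • a)).ge ⟨⟨g, hg⟩, rfl⟩
    have h2 := (mem_normalizer_iff.1 (hML hm) x).1 hx
    rwa [conj_eq_of_regular hr hg (hL hx) (hL h2) (by rw [← smul_smul_of_fix (hM hm)]; exact e.symm)]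
  have hla : l • a ≠ a := fun e => hl1 (eq_one_of_regular hr (hL hl) e)
  have h2 := (isCoatom_stabilizer (G := G) hla.symm).2 (L ⊔ stabilizer G a)
    (right_lt_sup.2 fun h => hla (h hl))
  refine hL.antisymm fun n hn => ?_
  obtain ⟨y, hy, z, hz, rfl⟩ := (mem_sup_of_le_normalizer_left h1).1 (h2 ▸ mem_top n)
  rwa [eq_of_smul_eq_of_regular hr hn (hL hy) (a := a) (by rw [mul_smul, hz])]

end Cfsg.Lib.Perm
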