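import Cfsg.Agent.Lib.Perm.CycZ3

/-! Involutions fix at most two points. -/

set_option autoImplicit false
set_option linter.unusedSectionVars false

namespace Cfsg.Lib.Perm.CycZ

open Subgroup MulAction Cfsg.Lib.BG Cfsg.Lib.Transfer

section Gen
variable {G : Type*} [Group G] [Finite G] {A B K C X Y S : Subgroup G} {p : ℕ}

theorem relIndex_of_mul (hB : B ≤ K) (h : ∀ g ∈ K, ∃ b ∈ B, ∃ a ∈ A, g = b * a) :
    A.relIndex K = A.relIndex B := by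
  refine (Nat.card_eq_of_bijective (quotientSubgroupOfEmbeddingOfLE A hB)
    ⟨(quotientSubgroupOfEmbeddingOfLE A hB).injective, fun c => ?_⟩).symm
  obtain ⟨g, rfl⟩ := QuotientGroup.mk_surjective c
  obtain ⟨b, hb, a, ha, e⟩ := h g g.2
  exact ⟨(⟨b, hb⟩ : B), QuotientGroup.eq.2 (by simpa [mem_subgroupOf, e] using ha)⟩

theorem mul_of_relIndex (hB : B ≤ K) (h : A.relIndex K ≤ A.relIndex B) {g : G} (hg : g ∈ K) :
    ∃ b ∈ B, ∃ a ∈ A, g = b * a := by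
  obtain ⟨c, hc⟩ := ((quotientSubgroupOfEmbeddingOfLE A hB).injective.bijective_of_nat_card_le h).2
    (⟨g, hg⟩ : K)
  obtain ⟨b, rfl⟩ := QuotientGroup.mk_surjective c
  rw [quotientSubgroupOfEmbeddingOfLE_apply_mk, QuotientGroup.eq] at hc
  exact ⟨b, b.2, (b : G)⁻¹ * g, hc, by rw [mul_inv_cancel_left]⟩

/-- Sylow subgroups of a product. -/
theorem syl_mul [Fact p.Prime] (hA : A ≤ C) (hK : K ≤ C) (h : ∀ g ∈ C, ∃ b ∈ A, ∃ a ∈ K, g = b * a)
    (hX : Syl p X A) (hY : Syl p Y K) (hS : Syl p S C) (h1 : X ≤ S) (h2 : Y ≤ S) {s : G}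
    (hs : s ∈ S) : ∃ a ∈ X, ∃ b ∈ Y, s = a * b := by
  refine mul_of_relIndex h1 (Nat.le_of_dvd (Nat.pos_of_ne_zero index_ne_zero_of_finite) ?_) hs
  obtain ⟨n, hn⟩ := hS.pgroup.exists_card_eq
  obtain ⟨k, -, hk⟩ := (Nat.dvd_prime_pow Fact.out).1 (hn ▸ Subgroup.relIndex_dvd_card Y S)
  have h3 : ∀ m : ℕ, ¬ p ∣ m → (Y.relIndex S).Coprime m := fun m hm =>
    hk ▸ ((Nat.Prime.coprime_iff_not_dvd Fact.out).2 hm).pow_left k
  have h4 : Y = S ⊓ K := hY.eq_of_le_pgroup (le_inf h2 hY.le) inf_le_right hS.pgroup.to_inf_left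
  have h5 : Y.relIndex X = (K ⊓ X).relIndex X := by
    rw [← inf_relIndex_right Y, h4, inf_right_comm, inf_eq_right.2 h1, inf_comm]
  refine (h3 _ hX.not_dvd').dvd_of_dvd_mul_right ?_
  rw [h5, relIndex_mul_relIndex _ _ _ inf_le_right hX.le]
  refine Dvd.dvd.trans ?_ (relIndex_dvd_of_le_left A (inf_le_left : K ⊓ X ≤ K))
  rw [← relIndex_of_mul hA h]
  refine (h3 _ hY.not_dvd').dvd_of_dvd_mul_left ?_
  rw [relIndex_mul_relIndex _ _ _ hY.le hK, ← relIndex_mul_relIndex _ _ _ h2 hS.le]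
  exact dvd_mul_right _ _

theorem pgroup_zpowers [Fact p.Prime] {s : G} {k : ℕ} (hk : s ^ p ^ k = 1) :
    IsPGroup p (zpowers s) := by
  obtain ⟨i, -, hi⟩ := (Nat.dvd_prime_pow Fact.out).1 (orderOf_dvd_of_pow_eq_one hk)
  exact IsPGroup.of_card (by rw [Nat.card_zpowers, hi])

theorem comm_of_cyclic (hK : IsCyclic K) {s t : G} (hs : s ∈ K) (ht : t ∈ K) : s * t = t * s := by
  obtain ⟨k, rfl⟩ := (Subgroup.isCyclic_iff_exists_zpowers_eq_top K).1 hK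
  obtain ⟨i, rfl⟩ := mem_zpowers_iff.1 hs
  obtain ⟨j, rfl⟩ := mem_zpowers_iff.1 ht
  exact zpow_mul_comm k i j

theorem mem_syl [Fact p.Prime] (hK : IsCyclic K) (hX : Syl p X A) (h : X ≤ K) {s : G} (hs : s ∈ K)
    (hA : s ∈ A) {k : ℕ} (hk : s ^ p ^ k = 1) : s ∈ X :=
  hX.ge_of_norm_p' (zpowers_le.2 hA) (pgroup_zpowers hk) (zpowers_le.2 (centralizer_le_normalizer _
    (mem_centralizer_iff.2 fun _ ht => comm_of_cyclic hK (h ht) hs))) (mem_zpowers s)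

theorem exists_odd_pow (w : G) : ∃ m k : ℕ, Odd m ∧ (w ^ m) ^ 2 ^ k = 1 := by
  obtain ⟨k, m, hm, e⟩ := Nat.exists_eq_two_pow_mul_odd (orderOf_pos w).ne'
  exact ⟨m, k, hm, by rw [← pow_mul, mul_comm, ← e, pow_orderOf_eq_one]⟩

theorem third {Ω : Type*} {P : Ω → Prop} {a b c : Ω} (ha : P a) (hb : P b) (hc : P c) (hab : a ≠ b)
    (hca : c ≠ a) (hcb : c ≠ b) (α β : Ω) : ∃ γ, P γ ∧ γ ≠ α ∧ γ ≠ β := by
  by_contra h
  have key : ∀ γ, P γ → γ = α ∨ γ = β := fun γ h1 => by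
    by_contra h2
    exact h ⟨γ, h1, fun e => h2 (Or.inl e), fun e => h2 (Or.inr e)⟩
  rcases key a ha with h1 | h1 <;> rcases key b hb with h2 | h2 <;> rcases key c hc with h3 | h3 <;>
    simp_all

end Gen

universe u
variable {G Ω : Type u} [Group G] [MulAction G Ω] [Finite G] [Finite Ω] {x u v : G} {a b c : Ω}

theorem conj_stab (g : G) (a : Ω) : g ⋆ stabilizer G a = stabilizer G (g • a) :=
  (stabilizer_smul_eq_stabilizer_map_conj g a).symm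

theorem Hyp.exists_u (h : Hyp G Ω x) (hab : a ≠ b) : ∃ u ∈ zpowers x, u * u = 1 ∧ u ≠ 1 := by
  classical
  have := Fintype.ofFinite Ω
  refine exists_inv_pow ?_
  by_contra h3
  have := congrArg (Equiv.Perm.sign.comp (toPermHom G Ω)) (pow_orderOf_eq_one x)
  rw [map_pow, MonoidHom.comp_apply, h.sign_gen hab, (Nat.not_even_iff_odd.1 h3).neg_one_pow,
    map_one] at this
  exact absurd this (by decide)

theorem Hyp.aux (h : Hyp G Ω x) (e1 : v * v = 1) (e2 : v ≠ 1) (hu : u ∈ zpowers x) (u1 : u * u = 1)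
    (u2 : u ≠ 1) (ha : v • a = a) (hb : v • u • a = u • a) (hc : v • c = c) (hca : c ≠ a)
    (hcb : c ≠ u • a) (ih : TwoFix (barHom Ω v).range {a : Ω // v • a = a}) : False := by
  obtain ⟨d, hd, tr⟩ := h.exists_gen e1 e2 hu u1 u2 ha hb
  obtain ⟨d', hH⟩ := h.hyp_bar e1 e2 hu u1 u2 ha hb
  have uC := h.u_mem e1 e2 hu u1 u2 ha hb
  have dC : zpowers d ≤ centralizer {v} := hd.le.trans inf_le_right
  have dc : IsCyclic (zpowers d) := inferInstance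
  obtain ⟨X, hX⟩ := Syl.exists 2 (zpowers d)
  obtain ⟨x₁, rfl⟩ := (Subgroup.isCyclic_iff_exists_zpowers_eq_top X).1 (isCyclic_of_le hX.le)
  obtain ⟨S, hS, xS⟩ := Syl.exists_ge hX.pgroup (hX.le.trans dC)
  have v2 : v ^ 2 ^ 1 = 1 := by rw [pow_one, pow_two, e1]
  obtain ⟨Y₀, hY₀, vY⟩ := Syl.exists_ge (pgroup_zpowers v2)
    (zpowers_le.2 (show v ∈ stabilizer G a from ha))
  replace vY := vY (mem_zpowers v)
  obtain ⟨g, gC, hg⟩ := hS.exists_conj_le hY₀.pgroup fun t ht => mem_centralizer_singleton_iff.2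
    (comm_of_cyclic (h.cyc_pgroup hY₀.pgroup hY₀.le) ht vY)
  have hY := hY₀.conj g
  rw [conj_stab] at hY
  have vα := fix_smul gC ha
  replace vY : v ∈ g ⋆ Y₀ := by
    rw [mem_conj, mul_assoc, ← mem_centralizer_singleton_iff.1 gC, inv_mul_cancel_left]
    exact vY
  generalize g • a = α at hY vα
  obtain ⟨y, hy⟩ := (Subgroup.isCyclic_iff_exists_zpowers_eq_top _).1
    (h.cyc_pgroup (Syl.pgroup hY) hY.le)
  rw [← hy] at hY vY hg
  obtain ⟨β, ab, yb⟩ := h.exists_fix (Syl.pgroup hY) hY.le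
  have vβ : v • β = β := yb vY
  obtain ⟨γ, vγ, ac, bc⟩ := third (P := fun c => v • c = c) ha hb hc
    (fun e => u2 (h.semi hu e.symm)) hca hcb α β
  have ab' : (⟨α, vα⟩ : {a : Ω // v • a = a}) ≠ ⟨β, vβ⟩ := fun e => ab (congrArg Subtype.val e)
  obtain ⟨⟨_, ⟨w, wC⟩, rfl⟩, w1, w2, w3, w4⟩ := hH.exists_inv (c := ⟨γ, vγ⟩) ab'
    (fun e => ac (congrArg Subtype.val e).symm) fun e => bc (congrArg Subtype.val e).symm
  obtain ⟨m, k, hm, hk⟩ := exists_odd_pow w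
  have w5 : bar Ω v w * bar Ω v w = 1 := by rw [bar_eq wC]; exact congrArg Subtype.val w1
  have w6 : bar Ω v (w ^ m) = barHom Ω v ⟨w, wC⟩ := by
    obtain ⟨m, rfl⟩ := hm
    rw [← zpow_natCast, bar_zpow wC, zpow_natCast, pow_succ, pow_mul, pow_two, w5, one_pow, one_mul,
      bar_eq wC]
  have w7 : w ∈ stabilizer G α ⊓ stabilizer G β := ⟨congrArg Subtype.val w3, congrArg Subtype.val w4⟩
  have w8 := pow_mem wC m
  refine Cfg.false (Ω := Ω) (x := x) (u := u) (v := v) (x₁ := x₁) (y := y) (y₁ := w ^ m) (S := S)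
    (α := α) (β := β) (γ := γ) ⟨h, e1, e2, u1, u2, h.even_fix e1 e2 hu u1 u2 ha hb, hS,
      xS (mem_zpowers _), (hd.le (hX.le (mem_zpowers _))).1,
      mem_syl dc hX hX.le (hd.ge ⟨hu, uC⟩) (hd.ge ⟨hu, uC⟩) (k := 1) (by rw [pow_one, pow_two, u1]),
      hg (mem_zpowers y), fun s hs => ?_, hY, yb (mem_zpowers y), ab, ac, bc, vγ, vY,
      mem_syl (h.cyc2 ab) hY (le_inf hY.le yb) (pow_mem w7 m) (pow_mem w7 m).1 hk,
      by rw [w6, ← bar_eq wC, w5], by rw [w6]; exact fun e => w2 (Subtype.ext e), fun c h1 h2 => ?_,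
      fun t ht h1 h2 h3 h4 => ?_, ?_⟩
  · obtain ⟨_, ⟨i, rfl⟩, _, ⟨j, rfl⟩, e⟩ := syl_mul dC
      (inf_le_right : stabilizer G α ⊓ centralizer {v} ≤ _) (fun r hr => by
        obtain ⟨i, hi⟩ := tr α (r • α) vα (fix_smul hr vα)
        exact ⟨d ^ i, zpow_mem_zpowers d i, (d ^ i)⁻¹ * r, mem_inf.2 ⟨by
          rw [mem_stabilizer_iff, mul_smul, ← hi, inv_smul_smul],
          mul_mem (inv_mem (dC (zpow_mem_zpowers d i))) hr⟩, by rw [mul_inv_cancel_left]⟩) hX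
      (hY.of_le (le_inf hY.le (hg.trans hS.le)) inf_le_left) hS xS hg hs
    exact ⟨i, j, e⟩
  · refine (ih _ w1 w2 _ _ ⟨c, h1⟩ w3 w4 (Subtype.ext ?_) ab').imp (congrArg Subtype.val)
      (congrArg Subtype.val)
    change (barHom Ω v ⟨w, wC⟩ ⟨c, h1⟩ : Ω) = c
    rw [← w6, bar_apply w8, h2]
  · rw [bar_eq ht] at h1 h2 ⊢
    rw [w6]
    exact congrArg Subtype.val (hH.inv_eq (s := ⟨_, ⟨t, ht⟩, rfl⟩) ab' (Subtype.ext h3)
      (Subtype.ext h4) w3 w4 (Subtype.ext h1) w1 (fun e => h2 (congrArg Subtype.val e)) w2)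
  · obtain ⟨⟨_, ⟨r, hr⟩, rfl⟩, h1, h2⟩ := hH.exists_comm_conj ab' w1 w2 w3 w4
    refine ⟨r, hr, ?_⟩
    rw [bar_mul (mul_mem hr w8) (inv_mem hr), bar_mul hr w8, bar_inv hr, w6, bar_eq hr]
    exact ⟨fun e => h1 (Subtype.ext e), congrArg Subtype.val h2⟩

theorem Hyp.twoFix (h : Hyp G Ω x) : TwoFix G Ω := by
  induction hn : Nat.card Ω using Nat.strong_induction_on generalizing G Ω with
  | _ n ih =>
  intro v e1 e2 a b c ha hb hc hab
  by_contra hcon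
  obtain ⟨u, hu, u1, u2⟩ := h.exists_u hab
  obtain ⟨g, h1, h2⟩ := h.two hab (c := a) (d := u • a) fun e => u2 (h.semi hu e.symm)
  have f2 : g * v * g⁻¹ ≠ 1 := by simpa using e2
  have ha' : (g * v * g⁻¹) • a = a := by simpa only [h1] using conj_smul (g := g) ha
  have hb' : (g * v * g⁻¹) • u • a = u • a := h2 ▸ conj_smul hb
  obtain ⟨d, hd⟩ := h.hyp_bar (conj_sq e1) f2 hu u1 u2 ha' hb'
  refine h.aux (conj_sq e1) f2 hu u1 u2 ha' hb' (conj_smul hc)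
    (fun e => hcon (Or.inl (smul_left_cancel g (e.trans h1.symm))))
    (fun e => hcon (Or.inr (smul_left_cancel g (e.trans h2.symm)))) (ih _ ?_ hd rfl)
  obtain ⟨e, he⟩ : ∃ e : Ω, ¬ (g * v * g⁻¹) • e = e := not_forall.1 fun h3 => f2 (h.faith _ h3)
  rw [← hn]
  exact Finite.card_subtype_lt he

end Cfsg.Lib.Perm.CycZ
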