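import Cfsg.Agent.Lib.BG.Hall

/-! Doubly transitive groups of even degree with a transitive cyclic subgroup whose point
stabilizers are Z-groups: basic facts. -/

set_option autoImplicit false
set_option linter.unusedSectionVars false

namespace Cfsg.Lib.Perm.CycZ

open Subgroup MulAction

section Cyc
variable {G : Type*} [Group G] {s t k u y : G}

theorem inv_eq_of_zpowers (hs : s ∈ zpowers k) (ht : t ∈ zpowers k) (h1 : s * s = 1)
    (h2 : t * t = 1) (h3 : s ≠ 1) (h4 : t ≠ 1) : s = t := by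
  obtain ⟨i, rfl⟩ := mem_zpowers_iff.1 hs
  obtain ⟨j, rfl⟩ := mem_zpowers_iff.1 ht
  rw [← zpow_add, ← orderOf_dvd_iff_zpow_eq_one] at h1 h2
  rw [Ne, ← orderOf_dvd_iff_zpow_eq_one] at h3 h4
  rw [zpow_eq_zpow_iff_modEq, Int.modEq_iff_dvd]
  obtain ⟨a, ha⟩ := h1
  obtain ⟨b, hb⟩ := h2
  rcases Int.even_or_odd' a with ⟨a, rfl | rfl⟩
  · exact absurd ⟨a, by linarith⟩ h3
  rcases Int.even_or_odd' b with ⟨b, rfl | rfl⟩
  · exact absurd ⟨b, by linarith⟩ h4
  exact ⟨b - a, by linarith⟩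

theorem inv_eq_of_cyclic {K : Subgroup G} (hK : IsCyclic K) (hs : s ∈ K) (ht : t ∈ K)
    (h1 : s * s = 1) (h2 : t * t = 1) (h3 : s ≠ 1) (h4 : t ≠ 1) : s = t := by
  obtain ⟨k, rfl⟩ := (Subgroup.isCyclic_iff_exists_zpowers_eq_top K).1 hK
  exact inv_eq_of_zpowers hs ht h1 h2 h3 h4

theorem exists_inv_pow [Finite G] (h : Even (orderOf s)) :
    ∃ w ∈ zpowers s, w * w = 1 ∧ w ≠ 1 := by
  obtain ⟨m, hm⟩ := h
  have h0 := orderOf_pos s
  refine ⟨s ^ m, npow_mem_zpowers s m, by rw [← pow_add, ← hm, pow_orderOf_eq_one], ?_⟩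
  exact pow_ne_one_of_lt_orderOf (by omega) (by omega)

theorem even_orderOf {j : ℕ} (h : s ^ 2 ^ j = 1) (h1 : s ≠ 1) : Even (orderOf s) := by
  obtain ⟨i, -, hi⟩ := (Nat.dvd_prime_pow Nat.prime_two).1 (orderOf_dvd_of_pow_eq_one h)
  rcases i with _ | i
  · exact absurd (orderOf_eq_one_iff.1 hi) h1
  · rw [hi, pow_succ]; exact Even.mul_left even_two _

theorem odd_coprime {c : ℤ} (hc : Odd c) (b : ℕ) : IsCoprime ((2 : ℤ) ^ b) c :=
  (Int.isCoprime_two_left.2 hc).pow_left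

/-- A 2-group with a cyclic subgroup of index 2 having outside it two non-conjugate involutions and
a non-involution is abelian. -/
theorem index_two {b : ℕ} (hy : orderOf y = 2 ^ b) (hu : u * u = 1) {m j l : ℤ}
    (hm : u * y * u⁻¹ = y ^ m) (hj : (u * y ^ j) * (u * y ^ j) = 1)
    (hn : ¬ IsConj u (u * y ^ j)) (hl : (u * y ^ l) * (u * y ^ l) ≠ 1) :
    u * y = y * u ∧ y ^ j * y ^ j = 1 ∧ y ^ j ≠ 1 := by
  have hu' : u⁻¹ = u := inv_eq_of_mul_eq_one_right hu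
  have hc : ∀ i : ℤ, u * y ^ i * u = y ^ (m * i) := fun i => by
    rw [zpow_mul, ← hm, conj_zpow, hu']
  have hd : ∀ i : ℤ, y ^ i = 1 ↔ (2 : ℤ) ^ b ∣ i := fun i => by
    rw [← orderOf_dvd_iff_zpow_eq_one, hy]; push_cast; rfl
  have hsq : ∀ i : ℤ, (u * y ^ i) * (u * y ^ i) = 1 ↔ (2 : ℤ) ^ b ∣ (m + 1) * i := fun i => by
    rw [← hd, add_mul, one_mul, zpow_add, ← hc]; simp only [mul_assoc]
  have hcj : ∀ i : ℤ, ¬ (2 : ℤ) ^ b ∣ i * (1 - m) - j := fun i h => hn (isConj_iff.2 ⟨(y ^ i)⁻¹, by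
    rw [← hd, zpow_sub, mul_inv_eq_one] at h
    rw [← h, inv_inv, show i * (1 - m) = m * (-i) + i by ring, zpow_add, ← hc, zpow_neg]
    simp only [← mul_assoc, hu, one_mul]⟩)
  rw [hsq] at hj
  rw [Ne, hsq] at hl
  have h1 : ¬ (2 : ℤ) ^ b ∣ m + 1 := fun h => hl (h.mul_right _)
  have h2 : (2 : ℤ) ^ b ∣ m * m - 1 := by
    rw [← hd, zpow_sub, zpow_one, ← hc, ← hm, hu', mul_inv_eq_one]
    simp only [← mul_assoc, hu, one_mul]
    rw [mul_assoc, hu, mul_one]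
  have hb : b ≠ 0 := by rintro rfl; exact h1 (by simp)
  have h3 : Odd m := by
    have := (dvd_pow_self (2 : ℤ) hb).trans h2
    by_contra h
    obtain ⟨c, rfl⟩ := Int.not_odd_iff_even.1 h
    obtain ⟨e, he⟩ := this
    have : (c + c) * (c + c) = 2 * (c * (c + c)) := by ring
    omega
  obtain ⟨c, rfl⟩ := h3
  rcases Int.even_or_odd c with hc2 | hc2
  · have h4 : Odd (c + 1) := hc2.add_one
    have h5 : (2 : ℤ) ^ b ∣ j + j :=
      (odd_coprime h4 b).dvd_of_dvd_mul_left (by rw [show (c + 1) * (j + j) = (2 * c + 1 + 1) * j by ring]; exact hj)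
    have h6 : (2 : ℤ) ^ b ∣ 2 * c + 2 * c :=
      (odd_coprime h4 b).dvd_of_dvd_mul_left (by
        rw [show (c + 1) * (2 * c + 2 * c) = (2 * c + 1) * (2 * c + 1) - 1 by ring]; exact h2)
    have h7 : y ^ j ≠ 1 := fun h => hcj 0 (by simpa using (hd j).1 h)
    have h8 : y ^ j * y ^ j = 1 := by rw [← zpow_add, hd]; exact h5
    refine ⟨?_, h8, h7⟩
    by_contra h9
    have h10 : y ^ (2 * c) ≠ 1 := fun h => h9 (by
      rw [← mul_inv_eq_iff_eq_mul, hm, zpow_add, h, one_mul, zpow_one])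
    have h11 := inv_eq_of_zpowers (zpow_mem_zpowers y _) (zpow_mem_zpowers y _)
      (by rw [← zpow_add, hd]; exact h6) h8 h10 h7
    refine hcj (-1) ?_
    rw [← hd, zpow_sub, mul_inv_eq_one, ← h11]
    congr 1
    ring
  · exfalso
    rcases Int.even_or_odd' j with ⟨j, rfl | rfl⟩
    · obtain ⟨p, q, hpq⟩ := odd_coprime hc2 b
      exact hcj (-q * j) ⟨-2 * p * j, by linear_combination (2 * j) * hpq⟩
    · exact h1 ((odd_coprime (odd_two_mul_add_one j) b).dvd_of_dvd_mul_right hj)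

end Cyc

/-- The standing hypothesis. -/
structure Hyp (G Ω : Type*) [Group G] [MulAction G Ω] (x : G) : Prop where
  faith : ∀ g : G, (∀ a : Ω, g • a = a) → g = 1
  two : ∀ {a b c d : Ω}, a ≠ b → c ≠ d → ∃ g : G, g • a = c ∧ g • b = d
  even : Even (Nat.card Ω)
  tr : ∀ a b : Ω, ∃ i : ℤ, x ^ i • a = b
  zg : ∀ a : Ω, IsZGroup (stabilizer G a)

variable {G Ω : Type*} [Group G] [MulAction G Ω] [Finite G] [Finite Ω] {x g s t v : G}
  {a b c : Ω}

theorem trans_of_normal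
    (two : ∀ {a b c d : Ω}, a ≠ b → c ≠ d → ∃ g : G, g • a = c ∧ g • b = d) (N : Subgroup G)
    [hN : N.Normal] (hg : g ∈ N) (ha : g • a ≠ a) (c : Ω) : ∃ n ∈ N, n • a = c := by
  by_cases hc : c = a
  · exact ⟨1, one_mem _, by rw [one_smul, hc]⟩
  obtain ⟨h, h1, h2⟩ := two ha.symm (Ne.symm hc)
  refine ⟨h * g * h⁻¹, hN.conj_mem g hg h, ?_⟩
  rw [mul_smul, mul_smul, inv_smul_eq_iff.2 h1.symm, h2]

theorem fix_of_odd_normal
    (two : ∀ {a b c d : Ω}, a ≠ b → c ≠ d → ∃ g : G, g • a = c ∧ g • b = d)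
    (he : Even (Nat.card Ω)) (N : Subgroup G) [N.Normal] (ho : Odd (Nat.card N)) (hg : g ∈ N)
    (a : Ω) : g • a = a := by
  by_contra ha
  have h1 : orbit N a = Set.univ := Set.eq_univ_of_forall fun c => by
    obtain ⟨n, hn, e⟩ := trans_of_normal two N hg ha c
    exact ⟨⟨n, hn⟩, e⟩
  have h2 := (stabilizer N a).index_dvd_card
  rw [index_stabilizer, h1, Set.ncard_univ] at h2
  exact (Nat.not_even_iff_odd.2 ho) (he.trans_dvd h2)

namespace Hyp
variable (h : Hyp G Ω x)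
include h

theorem semi (hs : s ∈ zpowers x) (ha : s • a = a) : s = 1 := h.faith _ fun b => by
  obtain ⟨i, rfl⟩ := mem_zpowers_iff.1 hs
  obtain ⟨j, rfl⟩ := h.tr a b
  rw [← mul_smul, zpow_mul_comm, mul_smul, ha]

theorem comm_cyc (a : Ω) : ∃ k : G, ⁅stabilizer G a, stabilizer G a⁆ = zpowers k := by
  have := h.zg a
  obtain ⟨k, hk⟩ := (Subgroup.isCyclic_iff_exists_zpowers_eq_top _).1
    (IsZGroup.isCyclic_commutator (G := stabilizer G a))
  refine ⟨k, ?_⟩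
  rw [← map_subtype_commutator, ← hk, MonoidHom.map_zpowers]
  rfl

theorem comm_fix (hg : g ∈ ⁅stabilizer G a, stabilizer G a⁆) (hab : a ≠ b) (hb : g • b = b) :
    g = 1 := h.faith _ fun c => by
  by_cases hc : a = c
  · exact hc ▸ commutator_le_self _ hg
  obtain ⟨r, h1, h2⟩ := h.two hc hab
  obtain ⟨k, hk⟩ := h.comm_cyc a
  have h3 : r ∈ normalizer ((⁅stabilizer G a, stabilizer G a⁆ : Subgroup G) : Set G) :=
    normalizer_commutator_ge_left _ _ h1
  rw [hk] at hg h3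
  obtain ⟨i, rfl⟩ := mem_zpowers_iff.1 hg
  obtain ⟨j, hj⟩ := mem_zpowers_iff.1 ((mem_normalizer_iff.1 h3 k).1 (mem_zpowers k))
  have h4 : r * k ^ i * r⁻¹ ∈ stabilizer G b := by
    rw [← conj_zpow, ← hj, ← zpow_mul, mul_comm, zpow_mul]
    exact zpow_mem (show k ^ i ∈ stabilizer G b from hb) j
  rw [mem_stabilizer_iff, mul_smul, mul_smul, inv_smul_eq_iff.2 h2.symm, ← h2] at h4
  exact smul_left_cancel r h4

theorem cyc2 (hab : a ≠ b) : IsCyclic (stabilizer G a ⊓ stabilizer G b : Subgroup G) := by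
  have := h.zg a
  refine isCyclic_of_injective (Abelianization.of.comp
    (inclusion (inf_le_left : stabilizer G a ⊓ stabilizer G b ≤ _))) ?_
  rw [injective_iff_map_eq_one]
  intro r hr
  refine Subtype.ext (h.comm_fix ?_ hab r.2.2)
  rw [← map_subtype_commutator]
  exact ⟨_, (Abelianization.ker_of (stabilizer G a)).le hr, rfl⟩

theorem inv_eq (hab : a ≠ b) (h1 : s • a = a) (h2 : s • b = b) (h3 : t • a = a) (h4 : t • b = b)
    (e1 : s * s = 1) (e2 : t * t = 1) (e3 : s ≠ 1) (e4 : t ≠ 1) : s = t :=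
  inv_eq_of_cyclic (h.cyc2 hab) ⟨h1, h2⟩ ⟨h3, h4⟩ e1 e2 e3 e4

theorem cyc_pgroup {Q : Subgroup G} (hQ : IsPGroup 2 Q) (hle : Q ≤ stabilizer G a) :
    IsCyclic Q := by
  have := h.zg a
  have : IsCyclic (Q.subgroupOf (stabilizer G a)) :=
    (hQ.comap_subtype (K := stabilizer G a)).isCyclic_of_isZGroup
  exact isCyclic_of_surjective _ (subgroupOfEquivOfLe hle).surjective

theorem inv_eq_of_comm (h1 : s • a = a) (h3 : t • a = a) (hc : s * t = t * s)
    (e1 : s * s = 1) (e2 : t * t = 1) (e3 : s ≠ 1) (e4 : t ≠ 1) : s = t := by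
  have key : ∀ w : G, w * w = 1 → IsPGroup 2 (zpowers w) := fun w hw r => by
    obtain ⟨_, i, rfl⟩ := r
    refine ⟨1, Subtype.ext ?_⟩
    change (w ^ i) ^ 2 ^ 1 = 1
    rw [pow_one, pow_two, ← (Commute.refl w).mul_zpow, hw, one_zpow]
  refine inv_eq_of_cyclic (h.cyc_pgroup (a := a) ((key s e1).to_sup_of_normal_right' (key t e2) ?_)
    (sup_le (zpowers_le.2 h1) (zpowers_le.2 h3))) (mem_sup_left (mem_zpowers s))
    (mem_sup_right (mem_zpowers t)) e1 e2 e3 e4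
  refine zpowers_le.2 (centralizer_le_normalizer _ (mem_centralizer_iff.2 ?_))
  rintro _ ⟨i, rfl⟩
  exact (Commute.zpow_left hc.symm i).eq

theorem exists_fix {Q : Subgroup G} (hQ : IsPGroup 2 Q) (hle : Q ≤ stabilizer G a) :
    ∃ b, a ≠ b ∧ Q ≤ stabilizer G b := by
  obtain ⟨b, h1, h2⟩ := hQ.exists_fixed_point_of_prime_dvd_card_of_fixed_point Ω h.even.two_dvd
    (a := a) fun r => hle r.2
  exact ⟨b, h2, fun r hr => h1 ⟨r, hr⟩⟩

open Classical in
theorem sign_gen [Fintype Ω] (hab : a ≠ b) : Equiv.Perm.sign (toPermHom G Ω x) = -1 := by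
  have h1 : ∀ c : Ω, x • c ≠ c := fun c hc => by
    obtain ⟨i, hi⟩ := h.tr a b
    rw [h.semi (mem_zpowers x) hc, one_zpow, one_smul] at hi
    exact hab hi
  have h2 : (toPermHom G Ω x).IsCycle := ⟨a, h1 a, fun c _ => by
    obtain ⟨i, hi⟩ := h.tr a c
    exact ⟨i, by rw [← map_zpow]; exact hi⟩⟩
  have h3 : (toPermHom G Ω x).support = Finset.univ :=
    Finset.eq_univ_of_forall fun c => Equiv.Perm.mem_support.2 (h1 c)
  rw [h2.sign, h3, Finset.card_univ, ← Nat.card_eq_fintype_card, h.even.neg_one_pow]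

theorem exists_inv (hab : a ≠ b) (hac : a ≠ c) (hbc : b ≠ c) :
    ∃ v : G, v * v = 1 ∧ v ≠ 1 ∧ v • a = a ∧ v • b = b := by
  classical
  have := Fintype.ofFinite Ω
  let ε := Equiv.Perm.sign.comp (toPermHom G Ω)
  have hx : ε x = -1 := h.sign_gen hab
  obtain ⟨r, h1, h2⟩ : ∃ r : G, r • a = a ∧ ε r = -1 := by
    obtain ⟨g, h1, h2⟩ := h.two hab hac
    rcases Int.units_eq_one_or (ε g) with e | e
    · obtain ⟨n, hn, e⟩ := trans_of_normal h.two ε.ker e (a := b) (by rw [h2]; exact hbc.symm)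
        (x • b)
      obtain ⟨w, h3, -⟩ := h.two hab.symm hab
      refine ⟨w * (n⁻¹ * x) * w⁻¹, ?_, ?_⟩
      · rw [mul_smul, mul_smul, inv_smul_eq_iff.2 h3.symm, mul_smul, ← e, inv_smul_smul, h3]
      · rw [map_mul, map_mul, map_mul, map_inv, map_inv, hx, MonoidHom.mem_ker.1 hn]
        simp
    · exact ⟨g, h1, e⟩
  have h3 : Even (orderOf r) := by
    by_contra h3
    have := congrArg ε (pow_orderOf_eq_one r)
    rw [map_pow, h2, (Nat.not_even_iff_odd.1 h3).neg_one_pow, map_one] at this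
    exact absurd this (by decide)
  obtain ⟨w, hw, e1, e2⟩ := exists_inv_pow h3
  have h4 : zpowers w ≤ stabilizer G a := zpowers_le.2 (zpowers_le.2 h1 hw)
  obtain ⟨b', h5, h6⟩ := h.exists_fix (IsPGroup.of_card (n := 1) (by
    rw [Nat.card_zpowers, pow_one]; exact orderOf_eq_prime (by rw [pow_two, e1]) e2)) h4
  obtain ⟨g, h7, h8⟩ := h.two h5 hab
  refine ⟨g * w * g⁻¹, by rw [conj_mul, e1, mul_one, mul_inv_cancel], by simpa using e2, ?_, ?_⟩
  · rw [mul_smul, mul_smul, inv_smul_eq_iff.2 h7.symm, h4 (mem_zpowers w), h7]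
  · rw [mul_smul, mul_smul, inv_smul_eq_iff.2 h8.symm, h6 (mem_zpowers w), h8]

theorem conj_eq (hab : a ≠ b) (e1 : v * v = 1) (e2 : v ≠ 1) (h1 : v • a = a) (h2 : v • b = b)
    (h3 : v • g⁻¹ • a = g⁻¹ • a) (h4 : v • g⁻¹ • b = g⁻¹ • b) : g * v = v * g := by
  rw [← mul_inv_eq_iff_eq_mul]
  refine h.inv_eq hab ?_ ?_ h1 h2 (by rw [conj_mul, e1, mul_one, mul_inv_cancel]) e1
    (by simpa using e2) e2
  · rw [mul_smul, mul_smul, h3, smul_inv_smul]
  · rw [mul_smul, mul_smul, h4, smul_inv_smul]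

theorem exists_comm_conj (hab : a ≠ b) (e1 : v * v = 1) (e2 : v ≠ 1) (h1 : v • a = a)
    (h2 : v • b = b) : ∃ g : G, g * v * g⁻¹ ≠ v ∧ v * (g * v * g⁻¹) = (g * v * g⁻¹) * v := by
  obtain ⟨c, hc⟩ : ∃ c : Ω, v • c ≠ c := by
    by_contra hcon
    exact e2 (h.faith v fun c => not_not.1 fun hc => hcon ⟨c, hc⟩)
  obtain ⟨g, h3, h4⟩ := h.two hab hc.symm
  have h5 : (g * v * g⁻¹) • c = c := by
    rw [mul_smul, mul_smul, inv_smul_eq_iff.2 h3.symm, h1, h3]
  have h6 : (g * v * g⁻¹) • v • c = v • c := by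
    rw [mul_smul, mul_smul, inv_smul_eq_iff.2 h4.symm, h2, h4]
  have hv : v⁻¹ = v := inv_eq_of_mul_eq_one_right e1
  refine ⟨g, fun e => hc (e ▸ h5), h.conj_eq hc.symm (by rw [conj_mul, e1, mul_one, mul_inv_cancel])
    (by simpa using e2) h5 h6 (by rw [hv, h6]) (by rw [inv_smul_smul, h5])⟩

end Hyp

end Cfsg.Lib.Perm.CycZ
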