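import Cfsg.Agent.Lib.Perm.CycZ1

/-! The action of the centralizer of an involution on its fixed points. -/

set_option autoImplicit false
set_option linter.unusedSectionVars false

namespace Cfsg.Lib.Perm.CycZ

open Subgroup MulAction

section Two
variable {P : Type*} [Group P] {X Y U t : P} {R : Subgroup P}

theorem zpow_inv_cases (h : Y * Y = 1) (j : ℤ) : Y ^ j = 1 ∨ Y ^ j = Y := by
  rcases Int.even_or_odd' j with ⟨j, rfl | rfl⟩
  · exact Or.inl (by rw [zpow_mul, zpow_two, h, one_zpow])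
  · exact Or.inr (by rw [zpow_add, zpow_mul, zpow_two, h, one_zpow, one_mul, zpow_one])

theorem gen_cases (hg : ∀ t ∈ R, ∃ i j : ℤ, t = X ^ i * Y ^ j) (h : Y * Y = 1) (ht : t ∈ R) :
    t ∈ zpowers X ∨ ∃ i : ℤ, t = X ^ i * Y := by
  obtain ⟨i, j, rfl⟩ := hg t ht
  rcases zpow_inv_cases h j with e | e <;> rw [e]
  · exact Or.inl (by rw [mul_one]; exact zpow_mem_zpowers X i)
  · exact Or.inr ⟨i, rfl⟩

theorem exists_conj_zpow (hg : ∀ t ∈ R, ∃ i j : ℤ, t = X ^ i * Y ^ j) (hX : X ∈ R) (hY : Y ∈ R)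
    (h : Y * Y = 1) (hn : Y ∉ zpowers X) : ∃ m : ℤ, Y * X * Y⁻¹ = X ^ m := by
  rcases gen_cases hg h (mul_mem (mul_mem hY hX) (inv_mem hY)) with e | ⟨i, e⟩
  · obtain ⟨m, hm⟩ := mem_zpowers_iff.1 e
    exact ⟨m, hm.symm⟩
  · rw [inv_eq_of_mul_eq_one_right h, mul_left_inj, ← eq_mul_inv_iff_mul_eq] at e
    exact absurd (e ▸ mul_mem (zpow_mem_zpowers X i) (inv_mem (mem_zpowers X))) hn

theorem inv_comm {m : ℤ} (hm : Y * X * Y⁻¹ = X ^ m) (hU : U ∈ zpowers X) (h : U * U = 1) :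
    U * Y = Y * U := by
  by_cases h1 : U = 1
  · rw [h1, one_mul, mul_one]
  obtain ⟨i, rfl⟩ := mem_zpowers_iff.1 hU
  rw [← mul_inv_eq_iff_eq_mul.1 (inv_eq_of_zpowers (s := Y * X ^ i * Y⁻¹) (k := X) ?_ hU
    (by rw [conj_mul, h, mul_one, mul_inv_cancel]) h (by simpa using h1) h1)]
  rw [← conj_zpow, hm, ← zpow_mul]
  exact zpow_mem_zpowers X _

theorem inv_cases {f : ℕ} {m i j : ℤ} (hX : X ^ 2 ^ f = 1) (hX2 : X * X ≠ 1) (h : Y * Y = 1)
    (hm : Y * X * Y⁻¹ = X ^ m) (hc : ∀ t ∈ zpowers X, t * Y = Y * t → t * t = 1)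
    (hi : (X ^ i * Y) * (X ^ i * Y) ≠ 1) (hj : (X ^ j * Y) * (X ^ j * Y) = 1) :
    ∃ l : ℤ, X ^ j * Y = X ^ l * Y * (X ^ l)⁻¹ := by
  obtain ⟨b, -, hb⟩ := (Nat.dvd_prime_pow Nat.prime_two).1 (orderOf_dvd_of_pow_eq_one hX)
  have hY : Y⁻¹ = Y := inv_eq_of_mul_eq_one_right h
  have h1 : ∀ i : ℤ, Y * X ^ i * Y⁻¹ = X ^ (m * i) := fun i => by rw [zpow_mul, ← hm, conj_zpow]
  have hd : ∀ i : ℤ, X ^ i = 1 ↔ (2 : ℤ) ^ b ∣ i := fun i => by
    rw [← orderOf_dvd_iff_zpow_eq_one, hb]; push_cast; rfl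
  have hsq : ∀ i : ℤ, (X ^ i * Y) * (X ^ i * Y) = 1 ↔ (2 : ℤ) ^ b ∣ (m + 1) * i := fun i => by
    rw [← hd, add_mul, one_mul, add_comm, zpow_add, ← h1, hY]; simp only [mul_assoc]
  have hb2 : 2 ≤ b := by
    by_contra hlt
    refine hX2 ?_
    rw [← zpow_two, hd]
    have : b = 0 ∨ b = 1 := by omega
    rcases this with rfl | rfl <;> simp
  obtain ⟨e, rfl⟩ := Nat.exists_eq_add_of_le hb2
  have h2 : ¬ (4 : ℤ) ∣ m - 1 := by
    rintro ⟨c, hc'⟩
    have h3 := hc (X ^ ((2 : ℤ) ^ e)) (zpow_mem_zpowers X _) (by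
      rw [eq_comm, ← mul_inv_eq_iff_eq_mul, h1, ← mul_inv_eq_one, ← zpow_sub, hd]
      exact ⟨c, by rw [pow_add]; linear_combination (2 ^ e) * hc'⟩)
    rw [← zpow_add, hd, pow_add, ← two_mul] at h3
    have := Int.le_of_dvd (by positivity) h3
    have : (0 : ℤ) < 2 ^ e := by positivity
    nlinarith
  have h3 : Odd m := by
    have h4 : X ^ (m * m - 1) = 1 := by
      rw [zpow_sub, zpow_one, ← h1, ← hm, hY, mul_inv_eq_one]
      simp only [← mul_assoc, h, one_mul]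
      rw [mul_assoc, h, mul_one]
    have := (dvd_pow_self (2 : ℤ) (by omega)).trans ((hd _).1 h4)
    by_contra h
    obtain ⟨c, rfl⟩ := Int.not_odd_iff_even.1 h
    obtain ⟨e, he⟩ := this
    have : (c + c) * (c + c) = 2 * (c * (c + c)) := by ring
    omega
  obtain ⟨c, rfl⟩ := h3
  have h4 : Odd c := by
    by_contra h
    obtain ⟨c, rfl⟩ := Int.not_odd_iff_even.1 h
    exact h2 ⟨c, by ring⟩
  rw [Ne, hsq] at hi
  rw [hsq] at hj
  rcases Int.even_or_odd' j with ⟨j, rfl | rfl⟩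
  · obtain ⟨p, q, hpq⟩ := odd_coprime h4 (2 + e)
    refine ⟨-q * j, ?_⟩
    rw [← zpow_neg, mul_assoc, mul_inv_eq_iff_eq_mul.1 (h1 _), ← mul_assoc, ← zpow_add,
      mul_left_inj, ← mul_inv_eq_one, ← zpow_sub, hd]
    exact ⟨2 * p * j, by linear_combination (-2 * j) * hpq⟩
  · exact absurd (((odd_coprime (odd_two_mul_add_one j) _).dvd_of_dvd_mul_right hj).mul_right _) hi

end Two

universe u
variable {G Ω : Type u} [Group G] [MulAction G Ω] [Finite G] [Finite Ω] {x g s t u v : G}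
  {a b c d : Ω}

theorem fix_smul (hg : g ∈ centralizer {v}) (ha : v • a = a) : v • g • a = g • a := by
  rw [← mul_smul, ← mem_centralizer_singleton_iff.1 hg, mul_smul, ha]

variable (Ω) in
/-- The action of `C(v)` on the fixed points of `v`. -/
def barHom (v : G) : centralizer ({v} : Set G) →* Equiv.Perm {a : Ω // v • a = a} :=
  MonoidHom.mk' (fun g => (toPerm (g : G)).subtypePerm fun a =>
      ⟨fun h => by simpa using fix_smul (inv_mem g.2) h, fix_smul g.2⟩)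
    fun g h => Equiv.ext fun a => Subtype.ext (mul_smul (g : G) (h : G) (a : Ω))

variable (Ω) in
open Classical in
/-- `barHom` as a function on `G`. -/
noncomputable def bar (v g : G) : Equiv.Perm {a : Ω // v • a = a} :=
  if h : g ∈ centralizer {v} then barHom Ω v ⟨g, h⟩ else 1

theorem bar_eq (hg : g ∈ centralizer {v}) : bar Ω v g = barHom Ω v ⟨g, hg⟩ := dif_pos hg

theorem bar_apply (hg : g ∈ centralizer {v}) (a : {a : Ω // v • a = a}) :
    (bar Ω v g a : Ω) = g • (a : Ω) := by rw [bar_eq hg]; rfl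

theorem bar_mul (hs : s ∈ centralizer {v}) (ht : t ∈ centralizer {v}) :
    bar Ω v (s * t) = bar Ω v s * bar Ω v t := by
  rw [bar_eq hs, bar_eq ht, bar_eq (mul_mem hs ht), ← map_mul]; rfl

theorem bar_zpow (hs : s ∈ centralizer {v}) (i : ℤ) : bar Ω v (s ^ i) = bar Ω v s ^ i := by
  rw [bar_eq hs, bar_eq (zpow_mem hs i), ← map_zpow]; rfl

theorem bar_inv (hs : s ∈ centralizer {v}) : bar Ω v s⁻¹ = (bar Ω v s)⁻¹ := by
  rw [← zpow_neg_one, bar_zpow hs, zpow_neg_one]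

theorem bar_one : bar Ω v 1 = 1 := by rw [bar_eq (one_mem _)]; exact map_one _

theorem smul_eq_of_bar (hs : s ∈ centralizer {v}) (ht : t ∈ centralizer {v})
    (h : bar Ω v s = bar Ω v t) (ha : v • a = a) : s • a = t • a := by
  rw [← bar_apply hs ⟨a, ha⟩, h, bar_apply ht]

theorem fix_of_bar (hs : s ∈ centralizer {v}) (h : bar Ω v s = 1) (ha : v • a = a) : s • a = a := by
  rw [← bar_apply hs ⟨a, ha⟩, h]; rfl

/-- Involutions fix at most two points. -/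
def TwoFix (G Ω : Type u) [Group G] [MulAction G Ω] : Prop :=
  ∀ v : G, v * v = 1 → v ≠ 1 → ∀ a b c : Ω, v • a = a → v • b = b → v • c = c → a ≠ b →
    c = a ∨ c = b

namespace Hyp
variable (h : Hyp G Ω x) (e1 : v * v = 1) (e2 : v ≠ 1)
include h e1 e2

theorem mem_cent (hab : a ≠ b) (h1 : v • a = a) (h2 : v • b = b)
    (h3 : v • g⁻¹ • a = g⁻¹ • a) (h4 : v • g⁻¹ • b = g⁻¹ • b) : g ∈ centralizer {v} :=
  mem_centralizer_singleton_iff.2 (h.conj_eq hab e1 e2 h1 h2 h3 h4)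

theorem two_cent (hab : a ≠ b) (hcd : c ≠ d) (h1 : v • a = a) (h2 : v • b = b) (h3 : v • c = c)
    (h4 : v • d = d) : ∃ g ∈ centralizer {v}, g • a = c ∧ g • b = d := by
  obtain ⟨g, h5, h6⟩ := h.two hab hcd
  exact ⟨g, h.mem_cent e1 e2 hcd h3 h4 (by rw [inv_smul_eq_iff.2 h5.symm, h1])
    (by rw [inv_smul_eq_iff.2 h6.symm, h2]), h5, h6⟩

variable (hu : u ∈ zpowers x) (u1 : u * u = 1) (u2 : u ≠ 1) (ha : v • a = a)
  (hb : v • u • a = u • a)
include hu u1 u2 ha hb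

theorem u_mem : u ∈ centralizer {v} :=
  h.mem_cent e1 e2 (fun e => u2 (h.semi hu e.symm)) ha hb
    (by rw [inv_eq_of_mul_eq_one_right u1, hb]) (by rw [inv_smul_smul, ha])

theorem exists_gen : ∃ d : G, zpowers d = zpowers x ⊓ centralizer {v} ∧
    ∀ b c : Ω, v • b = b → v • c = c → ∃ i : ℤ, d ^ i • b = c := by
  have : IsCyclic (zpowers x ⊓ centralizer {v} : Subgroup G) := isCyclic_of_le inf_le_left
  obtain ⟨d, hd⟩ := (Subgroup.isCyclic_iff_exists_zpowers_eq_top _).1 this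
  have key : ∀ b : Ω, v • b = b → ∃ r ∈ zpowers d, r • a = b := fun b h1 => by
    obtain ⟨i, rfl⟩ := h.tr a b
    refine ⟨x ^ i, hd ▸ ⟨zpow_mem_zpowers x i, h.mem_cent e1 e2
      (fun e => u2 (h.semi hu e.symm)) h1 (fix_smul (h.u_mem e1 e2 hu u1 u2 ha hb) h1)
      (by rw [inv_smul_smul, ha]) ?_⟩, rfl⟩
    obtain ⟨j, rfl⟩ := mem_zpowers_iff.1 hu
    rw [← mul_smul (x ^ j), zpow_mul_comm, mul_smul, inv_smul_smul, hb]
  refine ⟨d, hd, fun b c h1 h2 => ?_⟩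
  obtain ⟨r, hr, rfl⟩ := key b h1
  obtain ⟨r', hr', rfl⟩ := key c h2
  obtain ⟨i, hi⟩ := mem_zpowers_iff.1 (mul_mem hr' (inv_mem hr))
  exact ⟨i, by rw [hi, mul_smul, inv_smul_smul]⟩

theorem even_fix : Even (Nat.card {a : Ω // v • a = a}) := by
  have hc := h.u_mem e1 e2 hu u1 u2 ha hb
  by_contra ho
  have h1 : IsPGroup 2 (zpowers (bar Ω v u)) := fun r => by
    obtain ⟨_, i, rfl⟩ := r
    refine ⟨1, Subtype.ext ?_⟩
    change (bar Ω v u ^ i) ^ 2 ^ 1 = 1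
    rw [pow_one, pow_two, ← (Commute.refl _).mul_zpow, ← bar_mul hc hc, u1, bar_one, one_zpow]
  obtain ⟨b, hb⟩ := h1.nonempty_fixed_point_of_prime_not_dvd_card {a : Ω // v • a = a}
    fun h2 => ho (even_iff_two_dvd.2 h2)
  have h2 : bar Ω v u b = b := hb ⟨_, mem_zpowers _⟩
  exact u2 (h.semi hu (a := (b : Ω)) (by rw [← bar_apply hc, h2]))

theorem hyp_bar : ∃ d, Hyp (barHom Ω v).range {a : Ω // v • a = a} d := by
  obtain ⟨d, hd, h1⟩ := h.exists_gen e1 e2 hu u1 u2 ha hb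
  have h2 : d ∈ centralizer {v} := (hd.le (mem_zpowers d)).2
  refine ⟨⟨_, ⟨d, h2⟩, rfl⟩, fun g hg => Subtype.ext (Equiv.ext hg), fun {a b c d} hab hcd => ?_,
    h.even_fix e1 e2 hu u1 u2 ha hb, fun b c => ?_, fun b => ?_⟩
  · obtain ⟨g, h3, h4, h5⟩ := h.two_cent e1 e2 (fun e => hab (Subtype.ext e))
      (fun e => hcd (Subtype.ext e)) a.2 b.2 c.2 d.2
    exact ⟨⟨_, ⟨g, h3⟩, rfl⟩, Subtype.ext h4, Subtype.ext h5⟩
  · obtain ⟨i, hi⟩ := h1 b c b.2 c.2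
    refine ⟨i, Subtype.ext ?_⟩
    change ((barHom Ω v ⟨d, h2⟩ ^ i) b : Ω) = c
    rw [← bar_eq h2, ← bar_zpow h2, bar_apply (zpow_mem h2 i), hi]
  · have := h.zg b
    have : IsZGroup (stabilizer (centralizer ({v} : Set G)) (b : Ω)) :=
      IsZGroup.of_injective (f := ((centralizer ({v} : Set G)).subtype.comp
        (stabilizer (centralizer ({v} : Set G)) (b : Ω)).subtype).codRestrict (stabilizer G (b : Ω))
        fun r => r.2) fun r r' e => Subtype.ext (Subtype.ext (congrArg (fun z : stabilizer G (b : Ω) => (z : G)) e))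
    refine IsZGroup.of_surjective (f := ((barHom Ω v).rangeRestrict.comp
      (stabilizer (centralizer ({v} : Set G)) (b : Ω)).subtype).codRestrict _
        fun r => Subtype.ext r.2) ?_
    rintro ⟨⟨_, g, rfl⟩, hg⟩
    exact ⟨⟨g, congrArg Subtype.val hg⟩, rfl⟩

end Hyp

end Cfsg.Lib.Perm.CycZ
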