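import Cfsg.Agent.Lib.Perm.CycZ2
import Cfsg.Agent.S0215

/-! Involutions fix at most two points: the local analysis. -/

set_option autoImplicit false
set_option linter.unusedSectionVars false

namespace Cfsg.Lib.Perm.CycZ

open Subgroup MulAction Cfsg.Lib.BG Cfsg.Lib.Transfer

universe u
variable {G Ω : Type u} [Group G] [MulAction G Ω] [Finite G] [Finite Ω]

/-- The stabilizer of the set `{a, b}`. -/
def pair (G : Type u) [Group G] [MulAction G Ω] (a b : Ω) : Subgroup G where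
  carrier := {g | (g • a = a ∧ g • b = b) ∨ (g • a = b ∧ g • b = a)}
  one_mem' := Or.inl ⟨one_smul _ _, one_smul _ _⟩
  mul_mem' := by
    rintro g h (⟨h1, h2⟩ | ⟨h1, h2⟩) (⟨h3, h4⟩ | ⟨h3, h4⟩) <;>
      simp only [Set.mem_setOf_eq, mul_smul, h1, h2, h3, h4, and_self, true_or, or_true]
  inv_mem' := by
    rintro g (⟨h1, h2⟩ | ⟨h1, h2⟩)
    · exact Or.inl ⟨inv_smul_eq_iff.2 h1.symm, inv_smul_eq_iff.2 h2.symm⟩
    · exact Or.inr ⟨inv_smul_eq_iff.2 h2.symm, inv_smul_eq_iff.2 h1.symm⟩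

theorem pair_sq {a b : Ω} {g : G} (h : g ∈ pair G a b) : (g * g) • a = a ∧ (g * g) • b = b := by
  rcases h with ⟨h1, h2⟩ | ⟨h1, h2⟩ <;> simp only [mul_smul, h1, h2, and_self]

theorem pair_swap {a b : Ω} {g : G} (h : g ∈ pair G a b) (h1 : g • a ≠ a) :
    g • a = b ∧ g • b = a := h.resolve_left fun h => h1 h.1

theorem mem_pair {a b : Ω} {g : G} (hab : a ≠ b) (h1 : g • a = a ∨ g • a = b)
    (h2 : g • b = a ∨ g • b = b) : g ∈ pair G a b := by
  rcases h1 with h1 | h1 <;> rcases h2 with h2 | h2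
  · exact absurd (smul_left_cancel g (h1.trans h2.symm)) hab
  · exact Or.inl ⟨h1, h2⟩
  · exact Or.inr ⟨h1, h2⟩
  · exact absurd (smul_left_cancel g (h1.trans h2.symm)) hab

theorem conj_sq {g t : G} (h : t * t = 1) : (g * t * g⁻¹) * (g * t * g⁻¹) = 1 := by
  rw [conj_mul, h, mul_one, mul_inv_cancel]

theorem conj_smul {g t : G} {a : Ω} (h : t • a = a) : (g * t * g⁻¹) • g • a = g • a := by
  rw [mul_smul, mul_smul, inv_smul_smul, h]

/-- The configuration of a minimal counterexample. -/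
structure Cfg (Ω : Type u) [MulAction G Ω] [Finite Ω] (x u v x₁ y y₁ : G) (S : Subgroup G) (α β γ : Ω) :
    Prop where
  h : Hyp G Ω x
  v1 : v * v = 1
  v2 : v ≠ 1
  u1 : u * u = 1
  u2 : u ≠ 1
  ev : Even (Nat.card {a : Ω // v • a = a})
  syl : Syl 2 S (centralizer {v})
  xS : x₁ ∈ S
  xx : x₁ ∈ zpowers x
  ux : u ∈ zpowers x₁
  yS : y ∈ S
  gen : ∀ s ∈ S, ∃ i j : ℤ, s = x₁ ^ i * y ^ j
  sy : Syl 2 (zpowers y) (stabilizer G α)
  yb : y • β = β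
  ab : α ≠ β
  ac : γ ≠ α
  bc : γ ≠ β
  vc : v • γ = γ
  vy : v ∈ zpowers y
  yy : y₁ ∈ zpowers y
  y1 : bar Ω v y₁ * bar Ω v y₁ = 1
  y2 : bar Ω v y₁ ≠ 1
  fix : ∀ c : Ω, v • c = c → y₁ • c = c → c = α ∨ c = β
  uniq : ∀ t ∈ centralizer {v}, bar Ω v t * bar Ω v t = 1 → bar Ω v t ≠ 1 → t • α = α → t • β = β →
    bar Ω v t = bar Ω v y₁
  ex : ∃ c ∈ centralizer {v}, bar Ω v (c * y₁ * c⁻¹) ≠ bar Ω v y₁ ∧
    bar Ω v y₁ * bar Ω v (c * y₁ * c⁻¹) = bar Ω v (c * y₁ * c⁻¹) * bar Ω v y₁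

namespace Cfg
variable {x u v x₁ y y₁ g s t : G} {S : Subgroup G} {α β γ : Ω} (c : Cfg Ω x u v x₁ y y₁ S α β γ)
include c

theorem ya (hs : s ∈ zpowers y) : s • α = α := c.sy.le hs
theorem yb' (hs : s ∈ zpowers y) : s • β = β := zpowers_le.2 (show y ∈ stabilizer G β from c.yb) hs
theorem va : v • α = α := c.ya c.vy
theorem vb : v • β = β := c.yb' c.vy
theorem le (hs : s ∈ S) : s ∈ centralizer {v} := c.syl.le hs
theorem y_le : zpowers y ≤ S := zpowers_le.2 c.yS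
theorem x_le : zpowers x₁ ≤ S := zpowers_le.2 c.xS
theorem semi (hs : s ∈ zpowers x₁) {a : Ω} (ha : s • a = a) : s = 1 :=
  c.h.semi (zpowers_le.2 c.xx hs) ha
theorem ufpf (a : Ω) : u • a ≠ a := fun h => c.u2 (c.semi c.ux h)
theorem not_conj (g : G) : g * v * g⁻¹ ≠ u := fun h => c.ufpf (g • α) (h ▸ conj_smul c.va)

theorem mem_y {Q : Subgroup G} (hQ : IsPGroup 2 Q) (h : zpowers y ≤ Q) (hs : s ∈ Q)
    (ha : s • α = α) : s ∈ zpowers y :=
  (c.sy.eq_of_le_pgroup (le_inf h c.sy.le) inf_le_right (hQ.to_inf_left)).ge ⟨hs, ha⟩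

theorem eq_v (hs : s ∈ zpowers y) (h1 : s * s = 1) (h2 : s ≠ 1) : s = v :=
  inv_eq_of_zpowers hs c.vy h1 c.v1 h2 c.v2

theorem v_mem (hs : s ∈ S) (ha : s • α = α) (h : s ≠ 1) : v ∈ zpowers s := by
  obtain ⟨k, hk⟩ := c.syl.pgroup ⟨s, hs⟩
  obtain ⟨w, hw, h1, h2⟩ := exists_inv_pow (even_orderOf (congrArg Subtype.val hk) h)
  exact c.eq_v (zpowers_le.2 (c.mem_y c.syl.pgroup c.y_le hs ha) hw) h1 h2 ▸ hw

theorem pair_le : pair G α β ≤ centralizer {v} := fun g hg => by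
  rcases inv_mem hg with ⟨h1, h2⟩ | ⟨h1, h2⟩
  · exact c.h.mem_cent c.v1 c.v2 c.ab c.va c.vb (by rw [h1, c.va]) (by rw [h2, c.vb])
  · exact c.h.mem_cent c.v1 c.v2 c.ab c.va c.vb (by rw [h1, c.vb]) (by rw [h2, c.va])

theorem y_pair : zpowers y ≤ pair G α β := fun _ hs => Or.inl ⟨c.ya hs, c.yb' hs⟩

theorem mem_pair_of_comm (hg : g ∈ centralizer {v})
    (h : bar Ω v y₁ * bar Ω v g = bar Ω v g * bar Ω v y₁) : g ∈ pair G α β := by
  have hy := c.le (c.y_le c.yy)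
  rw [← bar_mul hy hg, ← bar_mul hg hy] at h
  have key : ∀ a : Ω, v • a = a → y₁ • a = a → g • a = α ∨ g • a = β := fun a h1 h2 =>
    c.fix _ (fix_smul hg h1) (by
      rw [← mul_smul, smul_eq_of_bar (mul_mem hy hg) (mul_mem hg hy) h h1, mul_smul, h2])
  exact mem_pair c.ab (key α c.va (c.ya c.yy)) (key β c.vb (c.yb' c.yy))

theorem y_sq : y * y ≠ 1 := fun h => by
  obtain ⟨i, hi⟩ := mem_zpowers_iff.1 c.yy
  rcases zpow_inv_cases h i with e | e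
  · exact c.y2 (by rw [← hi, e, bar_one])
  · have h1 : y = v := c.eq_v (mem_zpowers y) h fun h1 => c.y2 (by rw [← hi, e, h1, bar_one])
    refine c.y2 (Equiv.ext fun a => Subtype.ext ?_)
    rw [bar_apply (c.le (c.y_le c.yy)), ← hi, e, h1]
    exact a.2

theorem comm (hu : u ∈ pair G α β) : u * y = y * u ∧ ∃ g : G, g * v * g⁻¹ = u * v := by
  obtain ⟨ua, ub⟩ := pair_swap hu (c.ufpf α)
  have uS := c.x_le c.ux
  obtain ⟨T, hT, hle⟩ := Syl.exists_ge (p := 2) (Q := zpowers y ⊔ zpowers u)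
    (c.syl.pgroup.to_le (sup_le c.y_le (zpowers_le.2 uS))) (sup_le c.y_pair (zpowers_le.2 hu))
  have key : ∀ t ∈ pair G α β, t • α ≠ α → (∃ k : ℕ, t ^ 2 ^ k = 1) →
      ∃ (n : G) (j : ℤ), n * t * n⁻¹ = u * y ^ j := by
    rintro t ht ha ⟨k, hk⟩
    obtain ⟨n, hn, e⟩ := hT.exists_conj_le (Q := zpowers t) (by
      obtain ⟨i, -, hi⟩ := (Nat.dvd_prime_pow Nat.prime_two).1 (orderOf_dvd_of_pow_eq_one hk)
      exact IsPGroup.of_card (by rw [Nat.card_zpowers, hi])) (zpowers_le.2 ht)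
    have h1 := conj_le_iff.1 e t (mem_zpowers t)
    obtain ⟨ta, tb⟩ := pair_swap ht ha
    have h2 : (n * t * n⁻¹) • α = β := by
      rcases hn with ⟨h3, h4⟩ | ⟨h3, h4⟩
      · rw [mul_smul, mul_smul, inv_smul_eq_iff.2 h3.symm, ta, h4]
      · rw [mul_smul, mul_smul, inv_smul_eq_iff.2 h4.symm, tb, h3]
    obtain ⟨j, hj⟩ := mem_zpowers_iff.1 (c.mem_y hT.pgroup (le_sup_left.trans hle)
      (mul_mem (hle (mem_sup_right (mem_zpowers u))) h1) (by rw [mul_smul, h2, ub]))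
    exact ⟨n, j, by rw [hj, ← mul_assoc u u, c.u1, one_mul]⟩
  obtain ⟨b, hb⟩ := c.sy.pgroup.exists_card_eq
  rw [Nat.card_zpowers] at hb
  obtain ⟨m, hm⟩ := mem_zpowers_iff.1 (c.mem_y c.syl.pgroup c.y_le
    (mul_mem (mul_mem uS c.yS) (inv_mem uS))
    (by rw [mul_smul, mul_smul, inv_smul_eq_iff.2 ub.symm, c.yb, ub]))
  obtain ⟨g, h1, h2⟩ := c.h.exists_comm_conj c.ab c.v1 c.v2 c.va c.vb
  have h3 : (g * v * g⁻¹) • α ≠ α := fun h => h1 (c.h.inv_eq_of_comm h c.va h2.symm (conj_sq c.v1)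
    c.v1 (by simpa using c.v2) c.v2)
  obtain ⟨r, -, h4, h5⟩ := c.h.two_cent c.v1 c.v2 h3.symm c.ab c.va
    (fix_smul (mem_centralizer_singleton_iff.2 h2.symm) c.va) c.va c.vb
  have h6 : (r * (g * v * g⁻¹) * r⁻¹) • α = β := by
    rw [mul_smul, mul_smul, inv_smul_eq_iff.2 h4.symm, h5]
  obtain ⟨n, j, hj⟩ := key (r * (g * v * g⁻¹) * r⁻¹) (Or.inr ⟨h6, by
      rw [← h6, ← mul_smul, conj_sq (conj_sq c.v1), one_smul]⟩) (by rw [h6]; exact c.ab.symm)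
    ⟨1, by rw [pow_one, pow_two, conj_sq (conj_sq c.v1)]⟩
  have hj' : (n * r * g) * v * (n * r * g)⁻¹ = u * y ^ j := by rw [← hj]; group
  obtain ⟨e, he, h7, h8⟩ := c.ex
  have hy := c.le (c.y_le c.yy)
  have h9 := mul_mem (mul_mem he hy) (inv_mem he)
  have h10 := c.mem_pair_of_comm h9 h8
  have h11 : (e * y₁ * e⁻¹) • α ≠ α := fun h => by
    refine h7 (c.uniq _ h9 ?_ ?_ h ?_)
    · rw [bar_mul (mul_mem he hy) (inv_mem he), bar_mul he hy, bar_inv he, conj_mul, c.y1, mul_one,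
        mul_inv_cancel]
    · rw [bar_mul (mul_mem he hy) (inv_mem he), bar_mul he hy, bar_inv he]
      simpa using c.y2
    · exact (h10.resolve_right fun h' => c.ab (h.symm.trans h'.1)).2
  obtain ⟨n', l, hl⟩ := key _ h10 h11 (by
    obtain ⟨k, hk⟩ := c.sy.pgroup ⟨y₁, c.yy⟩
    exact ⟨k, by rw [conj_pow, show y₁ ^ 2 ^ k = 1 from congrArg Subtype.val hk, mul_one,
      mul_inv_cancel]⟩)
  obtain ⟨k1, k2, k3⟩ := index_two hb c.u1 hm.symm (j := j) (l := l) (hj' ▸ conj_sq c.v1)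
    (fun h => by
      obtain ⟨w, hw⟩ := isConj_iff.1 h.symm
      exact c.not_conj (w * (n * r * g)) (by rw [← hw, ← hj']; group)) (fun h => by
      rw [← hl, conj_mul, mul_inv_eq_one, mul_eq_left] at h
      refine h11 ?_
      rw [c.h.inv_eq_of_comm (conj_smul (c.ya c.yy)) (fix_smul he c.va)
        (mem_centralizer_singleton_iff.1 h9) h c.v1 (fun h' => h11 (by rw [h', one_smul])) c.v2,
        c.va])
  exact ⟨k1, _, by rw [hj', c.eq_v (zpow_mem_zpowers y j) k2 k3]⟩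

theorem u_comm (h : u * y = y * u) (hs : s ∈ S) : u * s = s * u := by
  obtain ⟨i, j, rfl⟩ := c.gen s hs
  obtain ⟨l, rfl⟩ := mem_zpowers_iff.1 c.ux
  exact ((Commute.zpow_zpow_self x₁ l i).mul_right (Commute.zpow_right h j)).eq

theorem exists_norm (hu : u ∈ pair G α β) : ∃ g : G, g * v * g⁻¹ = u * v ∧ g ⋆ S = S := by
  obtain ⟨h, g, hg⟩ := c.comm hu
  obtain ⟨r, hr, e⟩ := c.syl.exists_conj_le (Q := g⁻¹ ⋆ S) (c.syl.pgroup.map _)
    (conj_le_iff.2 fun s hs => mem_centralizer_singleton_iff.2 (by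
      have h1 : s * (g * v * g⁻¹) = (g * v * g⁻¹) * s := by
        rw [hg, ← mul_assoc, ← c.u_comm h hs, mul_assoc, mem_centralizer_singleton_iff.1 (c.le hs),
          mul_assoc]
      calc g⁻¹ * s * g⁻¹⁻¹ * v = g⁻¹ * (s * (g * v * g⁻¹)) * g := by group
        _ = _ := by rw [h1]; group))
  refine ⟨g * r⁻¹, ?_, ?_⟩
  · rw [← hg, mul_inv_rev, inv_inv, mul_assoc g, mem_centralizer_singleton_iff.1 (inv_mem hr)]
    group
  · rw [conj_conj] at e
    have h1 := eq_of_le_of_card_ge e (card_conj _ _).ge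
    rw [conj_eq_self_iff] at h1 ⊢
    simpa using inv_mem h1

theorem not_le_pair : ¬ S ≤ pair G α β := fun h => by
  obtain ⟨g, h1, h2⟩ := c.exists_norm (h (c.x_le c.ux))
  have h3 := (pair_sq (h (conj_le_iff.1 h2.le y c.yS))).1
  obtain ⟨i, hi⟩ := mem_zpowers_iff.1 (c.v_mem (mul_mem c.yS c.yS) (c.ya
    (mul_mem (mem_zpowers y) (mem_zpowers y))) c.y_sq)
  have h4 : (u * v) • α = α := by
    rw [← h1, ← hi, ← conj_zpow, ← conj_mul]
    exact zpow_mem (show _ ∈ stabilizer G α from h3) i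
  rw [mul_smul, c.va] at h4
  exact c.ufpf α h4

theorem bar_y : bar Ω v y = bar Ω v y₁ := by
  have hy := c.le c.yS
  obtain ⟨i, hi⟩ := mem_zpowers_iff.1 c.yy
  have h0 : bar Ω v y ≠ 1 := fun h => c.y2 (by rw [← hi, bar_zpow hy, h, one_zpow])
  refine c.uniq y hy ?_ h0 (c.ya (mem_zpowers y)) c.yb
  rcases Int.even_or_odd' i with ⟨i, rfl | rfl⟩
  · exfalso
    obtain ⟨r, h1, h3, -, h2⟩ := PGroup.exists_mem_normalizer_of_lt c.syl.pgroup
      (show S ⊓ pair G α β < S from inf_lt_left.2 c.not_le_pair)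
    have h4 := pair_sq ((mem_normalizer_iff.1 h2 y).1 ⟨c.yS, c.y_pair (mem_zpowers y)⟩).2
    have key : ∀ a : Ω, v • a = a → (r * y * r⁻¹ * (r * y * r⁻¹)) • a = a →
        r⁻¹ • a = α ∨ r⁻¹ • a = β := fun a h5 h6 => by
      refine c.fix _ (fix_smul (inv_mem (c.le h1)) h5) ?_
      have h7 : (r * y₁ * r⁻¹) • a = a := by
        rw [← hi, zpow_mul, zpow_two, ← conj_zpow, ← conj_mul]
        exact zpow_mem (show _ ∈ stabilizer G a from h6) i
      rw [eq_inv_smul_iff, ← mul_smul, ← mul_smul, h7]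
    exact h3 ⟨h1, (pair G α β).inv_mem_iff.1 (mem_pair c.ab (key α c.va h4.1) (key β c.vb h4.2))⟩
  · obtain ⟨k, hk⟩ := c.sy.pgroup ⟨y, mem_zpowers y⟩
    obtain ⟨p, q, hpq⟩ := odd_coprime (odd_two_mul_add_one i) k
    have h1 : y = y₁ ^ q := by
      have h2 : y ^ ((2 : ℤ) ^ k) = 1 := by
        exact_mod_cast (show y ^ 2 ^ k = 1 from congrArg Subtype.val hk)
      rw [← hi, ← zpow_mul, ← one_mul (y ^ (_ * q)), ← one_zpow p, ← h2, ← zpow_mul, ← zpow_add,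
        mul_comm _ p, mul_comm _ q, hpq, zpow_one]
    rw [h1, bar_zpow (c.le (c.y_le c.yy)), ← (Commute.refl _).mul_zpow, c.y1, one_zpow]

theorem false : False := by
  have hy := c.le c.yS
  have hx := c.le c.xS
  have uS := c.x_le c.ux
  have hbx : ∀ i : ℤ, bar Ω v (x₁ ^ i) = 1 → x₁ ^ i = 1 := fun i h =>
    c.semi (zpow_mem_zpowers _ i) (fix_of_bar (zpow_mem hx i) h c.va)
  have hR : ∀ t ∈ (S.subgroupOf _).map (barHom Ω v), ∃ i j : ℤ,
      t = bar Ω v x₁ ^ i * bar Ω v y ^ j := by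
    rintro _ ⟨s, hs, rfl⟩
    obtain ⟨i, j, e⟩ := c.gen s hs
    exact ⟨i, j, by rw [← bar_eq s.2, e, bar_mul (zpow_mem hx i) (zpow_mem hy j), bar_zpow hx,
      bar_zpow hy]⟩
  have hR' : ∀ s ∈ S, bar Ω v s ∈ (S.subgroupOf _).map (barHom Ω v) := fun s hs =>
    ⟨⟨s, c.le hs⟩, hs, (bar_eq _).symm⟩
  have hY : bar Ω v y * bar Ω v y = 1 := c.bar_y ▸ c.y1
  have hn : bar Ω v y ∉ zpowers (bar Ω v x₁) := fun h => by
    obtain ⟨i, hi⟩ := mem_zpowers_iff.1 h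
    rw [← bar_zpow hx] at hi
    have h1 := c.semi (zpow_mem_zpowers _ i)
      ((smul_eq_of_bar (zpow_mem hx i) hy hi c.va).trans (c.ya (mem_zpowers y)))
    exact c.y2 (by rw [← c.bar_y, ← hi, h1, bar_one])
  obtain ⟨m, hm⟩ := exists_conj_zpow hR (hR' _ c.xS) (hR' _ c.yS) hY hn
  have hp : ∀ i : ℤ, bar Ω v x₁ ^ i * bar Ω v y = bar Ω v y * bar Ω v x₁ ^ i →
      x₁ ^ i ∈ pair G α β := fun i h =>
    c.mem_pair_of_comm (zpow_mem hx i) (by rw [← c.bar_y, bar_zpow hx, h])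
  have hu : u ∈ pair G α β := by
    obtain ⟨i, rfl⟩ := mem_zpowers_iff.1 c.ux
    exact hp i (inv_comm hm (zpow_mem_zpowers _ i) (by
      rw [← bar_zpow hx, ← bar_mul (c.le uS) (c.le uS), c.u1, bar_one]))
  obtain ⟨ua, ub⟩ := pair_swap hu (c.ufpf α)
  obtain ⟨g, g1, g2⟩ := c.exists_norm hu
  have hx2 : x₁ * x₁ ≠ 1 := fun h => c.not_le_pair fun s hs => by
    obtain ⟨i, j, rfl⟩ := c.gen s hs
    refine mul_mem (zpow_mem ?_ i) (c.y_pair (zpow_mem_zpowers y j))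
    by_cases h1 : x₁ = 1
    · exact h1 ▸ one_mem _
    · exact inv_eq_of_zpowers c.ux (mem_zpowers x₁) c.u1 h c.u2 h1 ▸ hu
  have key : ∀ s ∈ S, s * s ≠ 1 → g⁻¹ * v * g ∉ zpowers s →
      bar Ω v (g * s * g⁻¹) * bar Ω v (g * s * g⁻¹) ≠ 1 := fun s hs h1 h2 h3 => by
    have h4 := conj_le_iff.1 g2.le s hs
    rw [← bar_mul (c.le h4) (c.le h4)] at h3
    obtain ⟨i, hi⟩ := mem_zpowers_iff.1 (c.v_mem (mul_mem h4 h4)
      (fix_of_bar (c.le (mul_mem h4 h4)) h3 c.va) (by rw [conj_mul]; simpa using h1))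
    refine h2 ?_
    rw [← hi, conj_mul, conj_zpow]
    simpa [mul_assoc] using zpow_mem (mul_mem (mem_zpowers s) (mem_zpowers s)) i
  have hv' : (g⁻¹ * v * g) * (g⁻¹ * v * g) = 1 := by simpa using conj_sq (g := g⁻¹) c.v1
  have hv'' : g⁻¹ * v * g ≠ 1 := fun h => c.v2 (by
    calc v = g * (g⁻¹ * v * g) * g⁻¹ := by group
      _ = 1 := by rw [h, mul_one, mul_inv_cancel])
  obtain ⟨i, hi⟩ : ∃ i : ℤ, (bar Ω v x₁ ^ i * bar Ω v y) * (bar Ω v x₁ ^ i * bar Ω v y) ≠ 1 := by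
    rcases gen_cases hR hY (hR' _ (conj_le_iff.1 g2.le _ c.xS)) with e1 | ⟨i, e1⟩
    · rcases gen_cases hR hY (hR' _ (conj_le_iff.1 g2.le _ c.yS)) with e2 | ⟨i, e2⟩
      · exfalso
        obtain ⟨i, j, e⟩ := c.gen _ (mem_conj.1 (g2.ge c.yS))
        have a1 := c.le (conj_le_iff.1 g2.le _ c.xS)
        have a2 := c.le (conj_le_iff.1 g2.le _ c.yS)
        refine hn ?_
        rw [show y = (g * x₁ * g⁻¹) ^ i * (g * y * g⁻¹) ^ j by
          rw [conj_zpow, conj_zpow, conj_mul, ← e]; group,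
          bar_mul (zpow_mem a1 i) (zpow_mem a2 j), bar_zpow a1, bar_zpow a2]
        exact mul_mem (zpow_mem e1 i) (zpow_mem e2 j)
      · refine ⟨i, e2 ▸ key y c.yS c.y_sq fun h => c.u2 ?_⟩
        have h1 := c.eq_v h hv' hv''
        rw [← mul_left_inj v, ← g1, one_mul]
        calc g * v * g⁻¹ = g * (g⁻¹ * v * g) * g⁻¹ := by rw [h1]
          _ = v := by group
    · exact ⟨i, e1 ▸ key x₁ c.xS hx2 fun h => c.not_conj g⁻¹ (by
        rw [inv_inv]; exact inv_eq_of_zpowers h c.ux hv' c.u1 hv'' c.u2)⟩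
  obtain ⟨f, hf⟩ := c.syl.pgroup ⟨x₁, c.xS⟩
  have iso : ∀ r ∈ centralizer {v}, r * u * r⁻¹ ∈ S → r * u * r⁻¹ = u := fun r hr ht => by
    have h1 : ∀ a : Ω, (r * u * r⁻¹) • a ≠ a := fun a h => c.ufpf (r⁻¹ • a) (by
      rw [eq_inv_smul_iff, ← mul_smul, ← mul_smul, h])
    have h2 : bar Ω v (r * u * r⁻¹) * bar Ω v (r * u * r⁻¹) = 1 := by
      rw [← bar_mul (c.le ht) (c.le ht), conj_sq c.u1, bar_one]
    rcases gen_cases hR hY (hR' _ ht) with e | ⟨j, e⟩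
    · obtain ⟨j, hj⟩ := mem_zpowers_iff.1 e
      rw [← bar_zpow hx] at hj
      have h3 := smul_eq_of_bar (zpow_mem hx j) (c.le ht) hj c.va
      have h4 : x₁ ^ j = u := by
        refine inv_eq_of_zpowers (zpow_mem_zpowers _ j) c.ux ?_ c.u1
          (fun h => h1 α (by rw [← h3, h, one_smul])) c.u2
        rw [← zpow_add]
        exact hbx _ (by rw [zpow_add, bar_mul (zpow_mem hx j) (zpow_mem hx j), hj, h2])
      have h5 := c.mem_y c.syl.pgroup c.y_le (mul_mem uS ht) (by rw [mul_smul, ← h3, h4, ua, ub])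
      have h6 : u⁻¹ = u := inv_eq_of_mul_eq_one_right c.u1
      by_contra h7
      have h8 := c.eq_v h5 (by
        rw [mul_assoc u, ← mul_assoc _ u, ← c.u_comm (c.comm hu).1 ht, mul_assoc u, conj_sq c.u1,
          mul_one, c.u1]) fun h => h7 ((eq_inv_of_mul_eq_one_right h).trans h6)
      refine c.not_conj (r⁻¹ * g) ?_
      calc r⁻¹ * g * v * (r⁻¹ * g)⁻¹ = r⁻¹ * (g * v * g⁻¹) * r := by group
        _ = u := by rw [g1, ← h8, ← mul_assoc u u, c.u1]; group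
    · obtain ⟨l, hl⟩ := inv_cases (f := f) (j := j) (by
          rw [← zpow_natCast, ← bar_zpow hx, zpow_natCast,
            show x₁ ^ 2 ^ f = 1 from congrArg Subtype.val hf, bar_one])
        (fun h => hx2 (by
          rw [← zpow_two] at h ⊢
          exact hbx _ (by rw [bar_zpow hx, h]))) hY hm (fun t ht h => by
          obtain ⟨l, rfl⟩ := mem_zpowers_iff.1 ht
          rw [← bar_zpow hx, ← bar_mul (zpow_mem hx l) (zpow_mem hx l), c.semi
            (mul_mem (zpow_mem_zpowers _ l) (zpow_mem_zpowers _ l)) (pair_sq (hp l h)).1, bar_one])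
        hi (e ▸ h2)
      have h3 := zpow_mem hx l
      rw [← e, ← bar_zpow hx, ← bar_inv h3, ← bar_mul h3 hy, ← bar_mul (mul_mem h3 hy) (inv_mem h3)]
        at hl
      exact absurd ((smul_eq_of_bar (c.le ht) (mul_mem (mul_mem h3 hy) (inv_mem h3)) hl
        (fix_smul h3 c.va)).trans (conj_smul (c.ya (mem_zpowers y)))) (h1 _)
  obtain ⟨P, hP⟩ := Syl.iff_sylow.1 c.syl
  have hmem : ∀ s : centralizer ({v} : Set G), s ∈ P ↔ (s : G) ∈ S := fun s => by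
    rw [← hP]
    exact (mem_map_iff_mem (centralizer ({v} : Set G)).subtype_injective).symm
  obtain ⟨N, hN, ho, hc⟩ := Cfsg.Agent.S0215.result P ⟨u, c.le uS⟩
    (by rw [orderOf_mk]; exact orderOf_eq_prime (by rw [pow_two, c.u1]) c.u2) ((hmem _).2 uS)
    fun r hr => Subtype.ext (iso r r.2 ((hmem _).1 hr))
  obtain ⟨r, hr, r1, r2⟩ := c.h.two_cent c.v1 c.v2 c.ab c.ac.symm c.va c.vb c.va c.vc
  let _ : MulAction (centralizer ({v} : Set G)) {a : Ω // v • a = a} :=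
    MulAction.compHom _ (barHom Ω v)
  have h1 : (u * r * u⁻¹ * r⁻¹) • γ = γ := congrArg Subtype.val (fix_of_odd_normal
    (fun {a b a' b'} hab hab' => by
      obtain ⟨w, h3, h4, h5⟩ := c.h.two_cent c.v1 c.v2 (fun e => hab (Subtype.ext e))
        (fun e => hab' (Subtype.ext e)) a.2 b.2 a'.2 b'.2
      exact ⟨⟨w, h3⟩, Subtype.ext h4, Subtype.ext h5⟩) c.ev N ho (hc ⟨r, hr⟩) ⟨γ, c.vc⟩)
  rw [mul_smul, mul_smul, mul_smul, inv_smul_eq_iff.2 r2.symm, inv_smul_eq_iff.2 ua.symm, r1, ua]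
    at h1
  exact c.bc h1.symm

end Cfg

end Cfsg.Lib.Perm.CycZ
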