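import Cfsg.Agent.Lib.Perm.Witt
import Cfsg.Agent.Lib.Inv.FourGroup
import Cfsg.Agent.Lib.Coprime.Generation

/-! Four-transitive actions whose four-point stabilisers consist of elements of odd order
(Jordan, Tits, M. Hall). -/

set_option autoImplicit false

namespace Cfsg.Lib.Perm
open MulAction Function

variable {G α : Type*} [Group G] [MulAction G α]

theorem smul_eq_of_sq_of_odd {u : G} (hu : Odd (orderOf u)) {x : α} (h : u • u • x = x) :
    u • x = x := by
  obtain ⟨k, hk⟩ := Inv.exists_sq_pow_eq_of_odd hu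
  have : u * u ∈ stabilizer G x := by rw [mem_stabilizer_iff, mul_smul, h]
  have := (stabilizer G x).pow_mem this k
  rwa [hk] at this

theorem exists_invol_pow {g : G} (h : Odd (orderOf (g * g))) :
    ∃ t : G, t * t = 1 ∧ t ∈ Subgroup.zpowers g ∧ ∀ x : α, g • g • x = x → t • x = g • x := by
  obtain ⟨j, hj⟩ := h
  refine ⟨g ^ (2 * j + 1), ?_, ⟨(2 * j + 1 : ℕ), zpow_natCast _ _⟩, fun x hx => ?_⟩
  · rw [← (Commute.refl g).mul_pow, ← hj, pow_orderOf_eq_one]
  · have : g * g ∈ stabilizer G x := by rw [mem_stabilizer_iff, mul_smul, hx]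
    have := (stabilizer G x).pow_mem this j
    rw [pow_succ', pow_mul, sq, mul_smul, this]

theorem smul_smul_of_invol {t : G} (ht : t * t = 1) (x : α) : t • t • x = x := by
  rw [← mul_smul, ht, one_smul]

theorem smul_eq_of_invol {t : G} (ht : t * t = 1) {x y : α} (h : t • x = y) : t • y = x := by
  rw [← h, smul_smul_of_invol ht]

theorem smul_fixed_of_conj {h s t : G} (e : h * s * h⁻¹ = t) (x : α) :
    t • h • x = h • s • x := by
  rw [← e]; simp [mul_smul]

variable (G α) in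
/-- Four-transitive with four-point stabilisers of odd order. -/
structure H4 : Prop where
  tr : IsMultiplyPretransitive G α 4
  odd : ∀ (g : G) (a b c d : α), a ≠ b → a ≠ c → a ≠ d → b ≠ c → b ≠ d → c ≠ d →
    g • a = a → g • b = b → g • c = c → g • d = d → Odd (orderOf g)

namespace H4
variable (H : H4 G α) {a b c d a' b' c' d' : α}
include H

theorem exists_swap_fix (h1 : a ≠ b) (h2 : a ≠ c) (h3 : a ≠ d) (h4 : b ≠ c) (h5 : b ≠ d)
    (h6 : c ≠ d) : ∃ t : G, t * t = 1 ∧ t • a = b ∧ t • c = c ∧ t • d = d := by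
  obtain ⟨g, e1, e2, e3, e4⟩ := four_iff.1 H.tr a b c d b a c d h1 h2 h3 h4 h5 h6 h1.symm h4 h5
    h2 h3 h6
  obtain ⟨t, ht, -, h⟩ := exists_invol_pow (α := α) (H.odd (g * g) a b c d h1 h2 h3 h4 h5 h6
    (by rw [mul_smul, e1, e2]) (by rw [mul_smul, e2, e1]) (by rw [mul_smul, e3, e3])
    (by rw [mul_smul, e4, e4]))
  exact ⟨t, ht, by rw [h a (by rw [e1, e2]), e1], by rw [h c (by rw [e3, e3]), e3],
    by rw [h d (by rw [e4, e4]), e4]⟩

theorem exists_swap_swap (h1 : a ≠ b) (h2 : a ≠ c) (h3 : a ≠ d) (h4 : b ≠ c) (h5 : b ≠ d)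
    (h6 : c ≠ d) : ∃ t : G, t * t = 1 ∧ t • a = b ∧ t • c = d := by
  obtain ⟨g, e1, e2, e3, e4⟩ := four_iff.1 H.tr a b c d b a d c h1 h2 h3 h4 h5 h6 h1.symm h5 h4
    h3 h2 h6.symm
  obtain ⟨t, ht, -, h⟩ := exists_invol_pow (α := α) (H.odd (g * g) a b c d h1 h2 h3 h4 h5 h6
    (by rw [mul_smul, e1, e2]) (by rw [mul_smul, e2, e1]) (by rw [mul_smul, e3, e4])
    (by rw [mul_smul, e4, e3]))
  exact ⟨t, ht, by rw [h a (by rw [e1, e2]), e1], by rw [h c (by rw [e3, e4]), e3]⟩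

theorem exists_conj {s t : G} (hs : s * s = 1) (ht : t * t = 1) (g : G) (h1 : a ≠ b) (h2 : a ≠ c)
    (h3 : a ≠ d) (h4 : b ≠ c) (h5 : b ≠ d) (h6 : c ≠ d) (ea : t • g • a = g • s • a)
    (eb : t • g • b = g • s • b) (ec : t • g • c = g • s • c) (ed : t • g • d = g • s • d) :
    ∃ h : G, h * s * h⁻¹ = t ∧ h • a = g • a ∧ h • b = g • b ∧ h • c = g • c ∧ h • d = g • d := by
  have hs' : (g * s * g⁻¹) * (g * s * g⁻¹) = 1 := by
    rw [show (g * s * g⁻¹) * (g * s * g⁻¹) = g * (s * s) * g⁻¹ by group, hs]; simp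
  have key : ∀ x : α, t • g • x = g • s • x → (g * s * g⁻¹ * t) • g • x = g • x := by
    intro x hx
    rw [mul_smul, hx]
    simp [mul_smul, smul_smul_of_invol hs]
  have ne : ∀ {x y : α}, x ≠ y → g • x ≠ g • y := fun h h' => h (smul_left_cancel g h')
  obtain ⟨k, hk⟩ := Inv.exists_pow_conj_of_odd hs' ht (H.odd _ _ _ _ _ (ne h1) (ne h2) (ne h3)
    (ne h4) (ne h5) (ne h6) (key a ea) (key b eb) (key c ec) (key d ed))
  have key2 : ∀ x : α, t • g • x = g • s • x → ((g * s * g⁻¹ * t) ^ k * g) • x = g • x :=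
    fun x hx => by
      rw [mul_smul]
      exact (stabilizer G (g • x)).pow_mem (key x hx) k
  refine ⟨(g * s * g⁻¹ * t) ^ k * g, ?_, key2 a ea, key2 b eb, key2 c ec, key2 d ed⟩
  conv_rhs => rw [← hk]
  group

theorem conj_swap_swap {s t : G} (hs : s * s = 1) (ht : t * t = 1) (h1 : a ≠ b) (h2 : a ≠ c)
    (h3 : a ≠ d) (h6 : c ≠ d) (k1 : a' ≠ b') (k2 : a' ≠ c') (k3 : a' ≠ d') (k6 : c' ≠ d')
    (e1 : s • a = b) (e2 : s • c = d) (f1 : t • a' = b') (f2 : t • c' = d') :
    ∃ h : G, h * s * h⁻¹ = t ∧ h • a = a' ∧ h • b = b' ∧ h • c = c' ∧ h • d = d' := by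
  have h4 : b ≠ c := fun h => h3 (by rw [← e2, ← h, smul_eq_of_invol hs e1])
  have h5 : b ≠ d := fun h => h2 (smul_left_cancel s (by rw [e1, e2, h]))
  have k4 : b' ≠ c' := fun h => k3 (by rw [← f2, ← h, smul_eq_of_invol ht f1])
  have k5 : b' ≠ d' := fun h => k2 (smul_left_cancel t (by rw [f1, f2, h]))
  obtain ⟨g, g1, g2, g3, g4⟩ := four_iff.1 H.tr a b c d a' b' c' d' h1 h2 h3 h4 h5 h6 k1 k2 k3 k4
    k5 k6
  have := H.exists_conj hs ht g h1 h2 h3 h4 h5 h6 (by rw [g1, f1, e1, g2])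
    (by rw [g2, smul_eq_of_invol ht f1, smul_eq_of_invol hs e1, g1]) (by rw [g3, f2, e2, g4])
    (by rw [g4, smul_eq_of_invol ht f2, smul_eq_of_invol hs e2, g3])
  rwa [g1, g2, g3, g4] at this

theorem conj_swap_fix {s t : G} (hs : s * s = 1) (ht : t * t = 1) (h1 : a ≠ b) (h6 : c ≠ d)
    (k1 : a' ≠ b') (k6 : c' ≠ d') (e1 : s • a = b) (e2 : s • c = c) (e3 : s • d = d)
    (f1 : t • a' = b') (f2 : t • c' = c') (f3 : t • d' = d') :
    ∃ h : G, h * s * h⁻¹ = t ∧ h • a = a' ∧ h • b = b' ∧ h • c = c' ∧ h • d = d' := by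
  have aux : ∀ {s : G} {a b c : α}, s * s = 1 → a ≠ b → s • a = b → s • c = c → a ≠ c ∧ b ≠ c :=
    fun {s a b c} hs h e e' => ⟨fun h' => h (by rw [← e, h', e']),
      fun h' => h (by rw [← smul_eq_of_invol hs e, h', e'])⟩
  obtain ⟨h2, h4⟩ := aux hs h1 e1 e2
  obtain ⟨h3, h5⟩ := aux hs h1 e1 e3
  obtain ⟨k2, k4⟩ := aux ht k1 f1 f2
  obtain ⟨k3, k5⟩ := aux ht k1 f1 f3
  obtain ⟨g, g1, g2, g3, g4⟩ := four_iff.1 H.tr a b c d a' b' c' d' h1 h2 h3 h4 h5 h6 k1 k2 k3 k4
    k5 k6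
  have := H.exists_conj hs ht g h1 h2 h3 h4 h5 h6 (by rw [g1, f1, e1, g2])
    (by rw [g2, smul_eq_of_invol ht f1, smul_eq_of_invol hs e1, g1]) (by rw [g3, f2, e2, g3])
    (by rw [g4, f3, e3, g4])
  rwa [g1, g2, g3, g4] at this

theorem eq_one_of_invol {t : G} (ht : t * t = 1) (h1 : a ≠ b) (h2 : a ≠ c) (h3 : a ≠ d)
    (h4 : b ≠ c) (h5 : b ≠ d) (h6 : c ≠ d) (e1 : t • a = a) (e2 : t • b = b) (e3 : t • c = c)
    (e4 : t • d = d) : t = 1 :=
  Inv.eq_one_of_odd_of_mul_self (H.odd t a b c d h1 h2 h3 h4 h5 h6 e1 e2 e3 e4) ht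

/-- With at least six points there is an involution with two fixed points and two 2-cycles. -/
theorem exists_good (s : Finset α) (hs : s.card = 6) : ∃ (t : G) (a b c d e f : α), t * t = 1 ∧
    a ≠ b ∧ a ≠ e ∧ a ≠ f ∧ e ≠ f ∧ c ≠ d ∧ t • a = b ∧ t • e = f ∧ t • c = c ∧ t • d = d := by
  obtain ⟨x⟩ : Nonempty (Fin 6 ≃ s) := ⟨(s.equivFinOfCardEq hs).symm⟩
  have ne : ∀ i j, i ≠ j → (x i : α) ≠ x j := fun i j h h' => h (x.injective (Subtype.ext h'))
  obtain ⟨t, ht, e1, e2, e3⟩ := H.exists_swap_fix (ne 0 1 (by decide)) (ne 0 2 (by decide))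
    (ne 0 3 (by decide)) (ne 1 2 (by decide)) (ne 1 3 (by decide)) (ne 2 3 (by decide))
  obtain ⟨i, hi0, hi1, hi⟩ : ∃ i, 0 ≠ i ∧ 1 ≠ i ∧ t • (x i : α) ≠ x i := by
    by_contra hcon
    push Not at hcon
    have := H.eq_one_of_invol ht (ne 2 3 (by decide)) (ne 2 4 (by decide)) (ne 2 5 (by decide))
      (ne 3 4 (by decide)) (ne 3 5 (by decide)) (ne 4 5 (by decide)) e2 e3
      (hcon 4 (by decide) (by decide)) (hcon 5 (by decide) (by decide))
    rw [this, one_smul] at e1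
    exact ne 0 1 (by decide) e1
  refine ⟨t, x 0, x 1, x 2, x 3, x i, t • x i, ht, ne 0 1 (by decide), ne 0 i hi0, fun h => ?_,
    hi.symm, ne 2 3 (by decide), e1, rfl, e2, e3⟩
  exact ne 1 i hi1 (by rw [← e1, h, smul_smul_of_invol ht])

theorem exists_fixed_finset {t : G} (ht : t * t = 1) (h1 : t ≠ 1) (h6 : c ≠ d) (e2 : t • c = c)
    (e3 : t • d = d) : ∃ F : Finset α, (∀ x, x ∈ F ↔ t • x = x) ∧ (F.card = 2 ∨ F.card = 3) := by
  classical
  by_cases h : ∃ w, w ≠ c ∧ w ≠ d ∧ t • w = w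
  · obtain ⟨w, hc, hd, hw⟩ := h
    refine ⟨{c, d, w}, fun x => ⟨fun hx => ?_, fun hx => ?_⟩, Or.inr
      (Finset.card_eq_three.2 ⟨c, d, w, h6, hc.symm, hd.symm, rfl⟩)⟩
    · simp only [Finset.mem_insert, Finset.mem_singleton] at hx
      rcases hx with rfl | rfl | rfl <;> assumption
    · by_contra hcon
      simp only [Finset.mem_insert, Finset.mem_singleton, not_or] at hcon
      exact h1 (H.eq_one_of_invol ht h6 hc.symm (Ne.symm hcon.1) hd.symm (Ne.symm hcon.2.1)
        (Ne.symm hcon.2.2) e2 e3 hw hx)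
  · push Not at h
    refine ⟨{c, d}, fun x => ⟨fun hx => ?_, fun hx => ?_⟩, Or.inl (Finset.card_pair h6)⟩
    · simp only [Finset.mem_insert, Finset.mem_singleton] at hx
      rcases hx with rfl | rfl <;> assumption
    · by_contra hcon
      simp only [Finset.mem_insert, Finset.mem_singleton, not_or] at hcon
      exact h x hcon.1 hcon.2 hx

end H4

/-- Jordan–Tits: a sharply 4-transitive group on at least six points has degree 6 or 11. -/
theorem sharp_four_card (h4 : IsMultiplyPretransitive G α 4)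
    (hsh : ∀ (g : G) (a b c d : α), a ≠ b → a ≠ c → a ≠ d → b ≠ c → b ≠ d → c ≠ d →
      g • a = a → g • b = b → g • c = c → g • d = d → g = 1)
    (s : Finset α) (hs : s.card = 6) : Finite α ∧ (Nat.card α = 6 ∨ Nat.card α = 11) := by
  classical
  have H : H4 G α := ⟨h4, fun g a b c d h1 h2 h3 h4 h5 h6 e1 e2 e3 e4 => by
    rw [hsh g a b c d h1 h2 h3 h4 h5 h6 e1 e2 e3 e4]; simp⟩
  obtain ⟨t, a, b, c, d, e, f, ht, hab, hae, haf, hef, hcd, e1, e2, e3, e4⟩ := H.exists_good s hs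
  have ht1 : t ≠ 1 := fun h => hab (by rw [← e1, h, one_smul])
  obtain ⟨F, hF, hFc⟩ := H.exists_fixed_finset ht ht1 hcd e3 e4
  set C : Set G := {g | g * t * g⁻¹ = t ∧ g • a = a} with hC
  set M : Set α := {x | t • x ≠ x ∧ x ≠ a ∧ x ≠ b} with hM
  have hb : ∀ g ∈ C, g • b = b := fun g hg => by
    rw [← e1, ← smul_fixed_of_conj hg.1, hg.2]
  have hbe : b ≠ e := fun h => haf (by rw [← e2, ← h, smul_eq_of_invol ht e1])
  have hbf : b ≠ f := fun h => hae (smul_left_cancel t (by rw [e1, e2, h]))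
  have aux : ∀ {x : α}, t • x = x → a ≠ x ∧ b ≠ x := fun {x} hx =>
    ⟨fun h' => hab (by rw [← e1, h', hx]),
      fun h' => hab (by rw [← smul_eq_of_invol ht e1, h', hx])⟩
  have inj : ∀ {g h : G} {x y : α}, g ∈ C → h ∈ C → a ≠ x → a ≠ y → b ≠ x → b ≠ y → x ≠ y →
      g • x = h • x → g • y = h • y → g = h := by
    intro g h x y hg hh n1 n2 n3 n4 n5 ex ey
    have : h⁻¹ * g = 1 := hsh _ a b x y hab n1 n2 n3 n4 n5
      (by rw [mul_smul, hg.2, inv_smul_eq_iff, hh.2])
      (by rw [mul_smul, hb g hg, inv_smul_eq_iff, hb h hh])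
      (by rw [mul_smul, ex, inv_smul_smul]) (by rw [mul_smul, ey, inv_smul_smul])
    exact (inv_mul_eq_one.1 this).symm
  have B1 : Set.BijOn (fun g : G => (g • c, g • d)) C (F.offDiag : Set (α × α)) := by
    refine ⟨fun g hg => ?_, fun g hg h hh hgh => ?_, fun p hp => ?_⟩
    · simp only [Finset.mem_coe, Finset.mem_offDiag, hF]
      exact ⟨by rw [smul_fixed_of_conj hg.1, e3], by rw [smul_fixed_of_conj hg.1, e4],
        fun h => hcd (smul_left_cancel g h)⟩
    · exact inj hg hh (aux e3).1 (aux e4).1 (aux e3).2 (aux e4).2 hcd (congrArg Prod.fst hgh)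
        (congrArg Prod.snd hgh)
    · simp only [Finset.mem_coe, Finset.mem_offDiag, hF] at hp
      obtain ⟨h, h1, h2, -, h3, h4⟩ := H.conj_swap_fix ht ht hab hcd hab hp.2.2 e1 e3 e4 e1 hp.1
        hp.2.1
      exact ⟨h, ⟨h1, h2⟩, Prod.ext h3 h4⟩
  have B2 : Set.BijOn (fun g : G => g • e) C M := by
    refine ⟨fun g hg => ⟨?_, ?_, ?_⟩, fun g hg h hh hgh => ?_, fun x hx => ?_⟩
    · show t • g • e ≠ g • e
      rw [smul_fixed_of_conj hg.1, e2]
      exact fun h => hef (smul_left_cancel g h).symm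
    · exact fun h => hae (smul_left_cancel g (hg.2.trans h.symm))
    · exact fun h => hbe (smul_left_cancel g ((hb g hg).trans h.symm))
    · have hgh' : g • e = h • e := hgh
      exact inj hg hh hae haf hbe hbf hef hgh (by
        rw [← e2, ← smul_fixed_of_conj hg.1, ← smul_fixed_of_conj hh.1, hgh'])
    · obtain ⟨h, h1, h2, -, h3, -⟩ := H.conj_swap_swap ht ht hab hae haf hef hab hx.2.1.symm
        (fun h => hx.2.2 (by rw [← e1, h, smul_smul_of_invol ht])) hx.1.symm e1 e2 e1 rfl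
      exact ⟨h, ⟨h1, h2⟩, h3⟩
  have hCf : C.Finite := B1.finite_iff_finite.2 (Finset.finite_toSet _)
  have hMf : M.Finite := B2.finite_iff_finite.1 hCf
  have hMc : M.ncard = F.card * F.card - F.card := by
    rw [← Finset.offDiag_card, ← Set.ncard_coe_finset, ← B1.image_eq, ← B2.image_eq,
      B1.injOn.ncard_image, B2.injOn.ncard_image]
  have hu : (Set.univ : Set α) = insert a (insert b ((F : Set α) ∪ M)) := by
    ext x
    simp only [Set.mem_univ, Set.mem_insert_iff, Set.mem_union, Finset.mem_coe, hF, hM,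
      Set.mem_setOf_eq, true_iff]
    tauto
  have hfin : Finite α := Set.finite_univ_iff.1 (by
    rw [hu]; exact (((Finset.finite_toSet F).union hMf).insert b).insert a)
  refine ⟨hfin, ?_⟩
  have hc : Nat.card α = F.card + M.ncard + 2 := by
    rw [← Set.ncard_univ, hu, Set.ncard_insert_of_notMem, Set.ncard_insert_of_notMem,
      Set.ncard_union_eq, Set.ncard_coe_finset]
    · exact Set.disjoint_left.2 fun x hx hx' => hx'.1 ((hF x).1 hx)
    · rintro (h | h)
      · exact (aux ((hF b).1 h)).2 rfl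
      · exact h.2.2 rfl
    · rintro (h | h | h)
      · exact hab h
      · exact (aux ((hF a).1 h)).1 rfl
      · exact h.2.1 rfl
  rcases hFc with h | h <;> rw [h] at hMc hc <;> omega

namespace H4
variable [Finite G] (H : H4 G α) {a b c d : α}
include H

/-- The four-point stabiliser is generated by the centralisers of the involutions of a
four-group acting regularly on the four points. -/
theorem exists_four (h1 : a ≠ b) (h2 : a ≠ c) (h3 : a ≠ d) (h4 : b ≠ c) (h5 : b ≠ d) (h6 : c ≠ d) :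
    ∃ V : Subgroup G, IsPGroup 2 V ∧
      (∀ v ∈ V, v = 1 ∨ (v * v = 1 ∧ ((v • a = b ∧ v • c = d) ∨ (v • a = c ∧ v • b = d) ∨
        (v • a = d ∧ v • b = c)))) ∧
      ∀ K : Subgroup G, (∀ v ∈ V, v ≠ 1 → ∀ u : G, u • a = a → u • b = b → u • c = c → u • d = d →
        u * v * u⁻¹ = v → u ∈ K) →
        ∀ u : G, u • a = a → u • b = b → u • c = c → u • d = d → u ∈ K := by
  classical
  obtain ⟨z, hz, z1, z3⟩ := H.exists_swap_swap h1 h2 h3 h4 h5 h6
  obtain ⟨y, hy, y1, y2⟩ := H.exists_swap_swap h2 h1 h3 h4.symm h6 h5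
  have z2 := smul_eq_of_invol hz z1
  have z4 := smul_eq_of_invol hz z3
  have y3 := smul_eq_of_invol hy y1
  have y4 := smul_eq_of_invol hy y2
  obtain ⟨w, hw, ⟨k, hk⟩, hw'⟩ := exists_invol_pow (α := α) (g := z * y) (H.odd _ a b c d h1 h2 h3
    h4 h5 h6 (by simp only [mul_smul, y1, z3, y4, z2]) (by simp only [mul_smul, y2, z4, y3, z1])
    (by simp only [mul_smul, y3, z1, y2, z4]) (by simp only [mul_smul, y4, z2, y1, z3]))
  have w1 : w • a = d := by
    rw [hw' a (by simp only [mul_smul, y1, z3, y4, z2]), mul_smul, y1, z3]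
  have w2 : w • b = c := by
    rw [hw' b (by simp only [mul_smul, y2, z4, y3, z1]), mul_smul, y2, z4]
  have w3 := smul_eq_of_invol hw w2
  have w4 := smul_eq_of_invol hw w1
  have hzw : z * w = w * z := by
    have h := Inv.conj_zpow_of_inv (Inv.pair_left_inv hz hy) k
    simp only at hk
    rw [zpow_neg, hk, Inv.inv_eq_of_mul_self hw] at h
    rw [← mul_inv_eq_iff_eq_mul, h]
  have hz1 : z ≠ 1 := fun h => h1 (by rw [← z1, h, one_smul])
  have hw1 : w ≠ 1 := fun h => h3 (by rw [← w1, h, one_smul])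
  have hne : z ≠ w := fun h => h5 (by rw [← z1, h, w1])
  have hV := Inv.k4_sup (Inv.orderOf_eq_two_iff.2 ⟨hz1, hz⟩) (Inv.orderOf_eq_two_iff.2 ⟨hw1, hw⟩)
    hne hzw
  set V := Subgroup.zpowers z ⊔ Subgroup.zpowers w with hVd
  have hmem : ∀ v, v ∈ V ↔ v = 1 ∨ v = z ∨ v = w ∨ v = z * w := fun v =>
    Inv.k4_mem_iff hV (Subgroup.mem_sup_left (Subgroup.mem_zpowers z))
      (Subgroup.mem_sup_right (Subgroup.mem_zpowers w)) hz1 hw1 hne
  refine ⟨V, Inv.k4_isPGroup hV, fun v hv => ?_, fun K hK u u1 u2 u3 u4 => ?_⟩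
  · rcases (hmem v).1 hv with rfl | rfl | rfl | rfl
    · exact Or.inl rfl
    · exact Or.inr ⟨hz, Or.inl ⟨z1, z3⟩⟩
    · exact Or.inr ⟨hw, Or.inr (Or.inr ⟨w1, w2⟩)⟩
    · exact Or.inr ⟨Inv.k4_mul_self hV hv, Or.inr (Or.inl
        ⟨by rw [mul_smul, w1, z4], by rw [mul_smul, w2, z3]⟩)⟩
  · set U := fixingSubgroup G (({a, b, c, d} : Finset α) : Set α) with hU
    have hUm : ∀ g, g ∈ U ↔ g • a = a ∧ g • b = b ∧ g • c = c ∧ g • d = d := fun g => by
      rw [hU, mem_fixing_iff]; simp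
    have hn : ∀ t : G, t * t = 1 → (∀ g ∈ U, t * g * t⁻¹ ∈ U) →
        Subgroup.zpowers t ≤ Subgroup.normalizer (U : Set G) := by
      intro t ht h
      rw [Subgroup.zpowers_le, Subgroup.mem_normalizer_iff]
      refine fun g => ⟨h g, fun hg => ?_⟩
      have := h _ hg
      rwa [show t * (t * g * t⁻¹) * t⁻¹ = (t * t) * g * (t * t)⁻¹ by group, ht, one_mul, inv_one,
        mul_one] at this
    refine Coprime.le_of_forall_centralizer_le (A := V) (K := U) (H := K) ?_ ?_ ?_ ?_ ?_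
      ((hUm u).2 ⟨u1, u2, u3, u4⟩)
    · exact ⟨⟨fun x y => Subtype.ext (Inv.k4_comm hV x.2 y.2)⟩⟩
    · exact IsKleinFour.not_isCyclic
    · refine sup_le (hn z hz fun g hg => ?_) (hn w hw fun g hg => ?_)
      · rw [hUm] at hg ⊢
        simp only [mul_smul, Inv.inv_eq_of_mul_self hz, z1, z2, z3, z4, hg, and_self]
      · rw [hUm] at hg ⊢
        simp only [mul_smul, Inv.inv_eq_of_mul_self hw, w1, w2, w3, w4, hg, and_self]
    · rw [hV.card_four]
      have : Odd (Nat.card U) := Inv.odd_card_iff.2 fun t ht h => by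
        obtain ⟨e1, e2, e3, e4⟩ := (hUm t).1 ht
        have := H.odd t a b c d h1 h2 h3 h4 h5 h6 e1 e2 e3 e4
        rw [h] at this
        exact absurd this (by decide)
      exact Nat.Coprime.pow_left 2 (Nat.coprime_two_left.2 this)
    · rintro v hv hv1 g ⟨hg, hg'⟩
      obtain ⟨e1, e2, e3, e4⟩ := (hUm g).1 hg
      exact hK v hv hv1 g e1 e2 e3 e4 (Inv.mem_centralizer_singleton_iff_conj.1 hg')

omit [Finite G] in
theorem eq_one_of_commute (h5 : ∀ (g : G) (a b c d e : α), a ≠ b → a ≠ c → a ≠ d → b ≠ c → b ≠ d →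
      c ≠ d → e ≠ a → e ≠ b → e ≠ c → e ≠ d → g • a = a → g • b = b → g • c = c → g • d = d →
      g • e = e → g = 1) (s : Finset α) (hs : s.card = 6) (h7 : Nat.card α ≠ 7) {v u : G}
    (hv : v * v = 1) (h1 : a ≠ b) (h2 : a ≠ c) (h3 : a ≠ d) (h6 : c ≠ d) (v1 : v • a = b)
    (v2 : v • c = d) (u1 : u • a = a) (u3 : u • c = c) (hu : u * v * u⁻¹ = v) : u = 1 := by
  classical
  by_contra hu1
  obtain ⟨t, a', b', c', d', e', f', ht, hab, hae, haf, hef, hcd, e1, e2, e3, e4⟩ :=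
    H.exists_good s hs
  obtain ⟨h, hh, -⟩ := H.conj_swap_swap ht hv hab hae haf hef h1 h2 h3 h6 e1 e2 v1 v2
  have hx : v • h • c' = h • c' := by rw [smul_fixed_of_conj hh, e3]
  set x := h • c'
  have v3 := smul_eq_of_invol hv v1
  have aux : ∀ {a b y : α}, a ≠ b → v • a = b → v • y = y → y ≠ a ∧ y ≠ b :=
    fun {a b y} h e hy => ⟨fun h' => h (by rw [← e, ← h', hy]),
      fun h' => h (by rw [← smul_eq_of_invol hv e, ← h', hy])⟩
  -- elements commuting with `v`, fixing `a`, a further moved point and a fixed point are trivial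
  have k1 : ∀ (g : G) (e y : α), g * v * g⁻¹ = v → g • a = a → v • e ≠ e → e ≠ a → e ≠ b →
      g • e = e → Odd (orderOf g) ∧ (v • y = y → g • y = y → g = 1) := by
    intro g e y hg ga he hea heb ge
    have gb : g • b = b := by rw [← v1, ← smul_fixed_of_conj hg, ga]
    have gf : g • v • e = v • e := by rw [← smul_fixed_of_conj hg, ge]
    have n1 : a ≠ v • e := fun h => heb (by rw [← v1, h, smul_smul_of_invol hv])
    have n2 : b ≠ v • e := fun h => hea (smul_left_cancel v (by rw [v1, h]))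
    exact ⟨H.odd g a b e (v • e) h1 hea.symm n1 heb.symm n2 he.symm ga gb ge gf,
      fun hy gy => h5 g a b e (v • e) y h1 hea.symm n1 heb.symm n2 he.symm (aux h1 v1 hy).1
        (aux h1 v1 hy).2 (aux he.symm rfl hy).1 (aux he.symm rfl hy).2 ga gb ge gf gy⟩
  have hcb : c ≠ b := fun h => h3 (by rw [← v2, h, v3])
  have hvc : v • c ≠ c := by rw [v2]; exact h6.symm
  have ku := fun y => k1 u c y hu u1 hvc h2.symm hcb u3
  have hx1 : v • u • x = u • x := by rw [smul_fixed_of_conj hu, hx]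
  have hx2 : v • u • u • x = u • u • x := by rw [smul_fixed_of_conj hu, hx1]
  have n01 : x ≠ u • x := fun h => hu1 ((ku x).2 hx h.symm)
  have n12 : u • x ≠ u • u • x := fun h => n01 (smul_left_cancel u h)
  have n02 : x ≠ u • u • x := fun h => n01 (smul_eq_of_sq_of_odd (ku x).1 h.symm).symm
  have hv1 : v ≠ 1 := fun h => h1 (by rw [← v1, h, one_smul])
  have hF : ∀ y, v • y = y → y = x ∨ y = u • x ∨ y = u • u • x := fun y hy => by
    by_contra hcon
    push Not at hcon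
    exact hv1 (H.eq_one_of_invol hv n01 n02 hcon.1.symm n12 hcon.2.1.symm hcon.2.2.symm hx hx1
      hx2 hy)
  have hx3 : u • u • u • x = x := by
    rcases hF (u • u • u • x) (by rw [smul_fixed_of_conj hu, hx2]) with h | h | h
    · exact h
    · exact absurd (smul_left_cancel u h).symm n02
    · exact absurd (smul_left_cancel u h).symm n12
  have k2 : ∀ g : G, g * v * g⁻¹ = v → g • a = a → g • x = x → g • u • x = u • x → g = 1 := by
    intro g hg ga g0 g1
    have gb : g • b = b := by rw [← v1, ← smul_fixed_of_conj hg, ga]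
    refine h5 g a b x (u • x) (u • u • x) h1 (aux h1 v1 hx).1.symm (aux h1 v1 hx1).1.symm
      (aux h1 v1 hx).2.symm (aux h1 v1 hx1).2.symm n01 (aux h1 v1 hx2).1 (aux h1 v1 hx2).2
      n02.symm n12.symm ga gb g0 g1 ?_
    rcases hF (g • u • u • x) (by rw [smul_fixed_of_conj hg, hx2]) with h | h | h
    · exact absurd (smul_left_cancel g (g0.trans h.symm)) n02
    · exact absurd (smul_left_cancel g (g1.trans h.symm)) n12
    · exact h
  have hmov : ∀ e, v • e ≠ e → e ≠ a → e ≠ b → e = c ∨ e = d := by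
    intro e he hea heb
    obtain ⟨g, hg, ga, -, gc, -⟩ := H.conj_swap_swap hv hv h1 h2 h3 h6 h1 hea.symm
      (fun h => heb (by rw [← v1, h, smul_smul_of_invol hv])) he.symm v1 v2 v1 rfl
    have hw : g * u * g⁻¹ * v * (g * u * g⁻¹)⁻¹ = v := by
      have : g⁻¹ * v * g = v := by conv_lhs => rw [← hg]
                                   group
      rw [show g * u * g⁻¹ * v * (g * u * g⁻¹)⁻¹ = g * (u * (g⁻¹ * v * g) * u⁻¹) * g⁻¹ by group,
        this, hu, hg]
    set w := g * u * g⁻¹ with hwd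
    have wa : w • a = a := by
      rw [hwd, mul_smul, mul_smul, inv_smul_eq_iff.2 ga.symm, u1, ga]
    have we : w • e = e := by
      rw [hwd, mul_smul, mul_smul, inv_smul_eq_iff.2 gc.symm, u3, gc]
    have hw1 : w ≠ 1 := fun h => hu1 (by rw [show u = g⁻¹ * w * g by rw [hwd]; group, h]; group)
    have kw := fun y => k1 w e y hw wa he hea heb we
    have hue : u • e = e := by
      rcases hF (w • x) (by rw [smul_fixed_of_conj hw, hx]) with h | h | h
      · exact absurd ((kw x).2 hx h) hw1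
      · rcases hF (w • u • x) (by rw [smul_fixed_of_conj hw, hx1]) with h' | h' | h'
        · exact absurd ((kw x).2 hx (smul_eq_of_sq_of_odd (kw x).1 (by rw [h, h']))) hw1
        · exact absurd ((kw _).2 hx1 h') hw1
        · have := k2 (u⁻¹ * w) (by
            rw [show u⁻¹ * w * v * (u⁻¹ * w)⁻¹ = u⁻¹ * (w * v * w⁻¹) * u by group, hw]
            conv_lhs => rw [← hu]
            group) (by rw [mul_smul, wa, inv_smul_eq_iff, u1])
            (by rw [mul_smul, h, inv_smul_smul]) (by rw [mul_smul, h', inv_smul_smul])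
          rw [inv_mul_eq_one.1 this, we]
      · rcases hF (w • u • x) (by rw [smul_fixed_of_conj hw, hx1]) with h' | h' | h'
        · have := k2 (u * w) (by
            rw [show u * w * v * (u * w)⁻¹ = u * (w * v * w⁻¹) * u⁻¹ by group, hw, hu])
            (by rw [mul_smul, wa, u1]) (by rw [mul_smul, h, hx3]) (by rw [mul_smul, h'])
          conv_lhs => rw [← we, ← mul_smul, this, one_smul]
        · exact absurd ((kw _).2 hx1 h') hw1
        · exact absurd (smul_left_cancel w (h.trans h'.symm)) n01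
    by_contra hcon
    push Not at hcon
    have ub : u • b = b := by rw [← v1, ← smul_fixed_of_conj hu, u1]
    have ud : u • d = d := by rw [← v2, ← smul_fixed_of_conj hu, u3]
    exact hu1 (h5 u a b c d e h1 h2 h3 hcb.symm
      (fun h => h2 (smul_left_cancel v (by rw [v1, v2, h]))) h6 hea heb hcon.1 hcon.2 u1 ub u3 ud
      hue)
  apply h7
  have hu : (Set.univ : Set α) = (({a, b, c, d, x, u • x, u • u • x} : Finset α) : Set α) := by
    ext y
    have := hF y
    have := hmov y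
    simp only [Set.mem_univ, Finset.coe_insert, Set.mem_insert_iff, Finset.coe_singleton,
      Set.mem_singleton_iff, true_iff]
    tauto
  have hbd : b ≠ d := fun h => h2 (smul_left_cancel v (by rw [v1, v2, h]))
  have p0 := aux h1 v1 hx
  have p1 := aux h1 v1 hx1
  have p2 := aux h1 v1 hx2
  have q0 := aux h6 v2 hx
  have q1 := aux h6 v2 hx1
  have q2 := aux h6 v2 hx2
  rw [← Set.ncard_univ, hu, Set.ncard_coe_finset]
  rw [Finset.card_insert_of_notMem, Finset.card_insert_of_notMem, Finset.card_insert_of_notMem,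
    Finset.card_insert_of_notMem, Finset.card_insert_of_notMem, Finset.card_pair n12]
  all_goals simp only [Finset.mem_insert, Finset.mem_singleton, not_or]
  · exact ⟨n01, n02⟩
  · exact ⟨q0.2.symm, q1.2.symm, q2.2.symm⟩
  · exact ⟨h6, q0.1.symm, q1.1.symm, q2.1.symm⟩
  · exact ⟨hcb.symm, hbd, p0.2.symm, p1.2.symm, p2.2.symm⟩
  · exact ⟨h1, h2, h3, p0.1.symm, p1.1.symm, p2.1.symm⟩

/-- M. Hall: if moreover five-point stabilisers are trivial, the action is sharply 4-transitive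
unless the degree is 7 (or at most 5). -/
theorem sharp (h5 : ∀ (g : G) (a b c d e : α), a ≠ b → a ≠ c → a ≠ d → b ≠ c → b ≠ d →
      c ≠ d → e ≠ a → e ≠ b → e ≠ c → e ≠ d → g • a = a → g • b = b → g • c = c → g • d = d →
      g • e = e → g = 1) (s : Finset α) (hs : s.card = 6) (h7 : Nat.card α ≠ 7) (g : G)
    (a b c d : α) (h1 : a ≠ b) (h2 : a ≠ c) (h3 : a ≠ d) (h4 : b ≠ c) (h5' : b ≠ d) (h6 : c ≠ d)
    (e1 : g • a = a) (e2 : g • b = b) (e3 : g • c = c) (e4 : g • d = d) : g = 1 := by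
  obtain ⟨V, -, hV, hK⟩ := H.exists_four h1 h2 h3 h4 h5' h6
  refine Subgroup.mem_bot.1 (hK ⊥ (fun v hv hv1 u u1 u2 u3 u4 hu => Subgroup.mem_bot.2 ?_) g
    e1 e2 e3 e4)
  obtain ⟨hv, h | h | h⟩ := (hV v hv).resolve_left hv1
  · exact H.eq_one_of_commute h5 s hs h7 hv h1 h2 h3 h6 h.1 h.2 u1 u3 hu
  · exact H.eq_one_of_commute h5 s hs h7 hv h2 h1 h3 h5' h.1 h.2 u1 u2 hu
  · exact H.eq_one_of_commute h5 s hs h7 hv h3 h1 h2 h4 h.1 h.2 u1 u2 hu

end H4

end Cfsg.Lib.Perm
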