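import Cfsg.Agent.Lib.Perm.Multi

/-!
# The stabiliser of a partition into blocks of equal size
-/

set_option autoImplicit false

namespace Cfsg.Lib.Perm

open MulAction Function Subgroup Equiv Equiv.Perm

variable {Ω ι : Type*}

/-- the permutations preserving the fibres of `f` -/
def partStab (f : Ω → ι) : Subgroup (Perm Ω) where
  carrier := {g | ∀ x y : Ω, f x = f y ↔ f (g x) = f (g y)}
  one_mem' _ _ := Iff.rfl
  mul_mem' h1 h2 x y := (h2 x y).trans (h1 _ _)
  inv_mem' {g} h x y := by simpa using (h (g⁻¹ x) (g⁻¹ y)).symm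

variable {f : Ω → ι}

theorem closure_partStab : closure {g : Perm Ω | ∀ x y : Ω, f x = f y ↔ f (g x) = f (g y)} =
    partStab f := closure_eq (partStab f)

theorem mem_partStab_of_imp [Finite Ω] {g : Perm Ω} (h : ∀ x y, f x = f y → f (g x) = f (g y)) :
    g ∈ partStab f := fun x y => ⟨h x y, fun e => by
  have key : ∀ (n : ℕ) x y, f x = f y → f ((g ^ n) x) = f ((g ^ n) y) := fun n => by
    induction n with
    | zero => exact fun _ _ => id
    | succ n ih => exact fun x y e => by rw [pow_succ']; exact h _ _ (ih x y e)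
  have := key (orderOf g - 1) _ _ e
  rwa [← mul_apply, ← mul_apply, ← pow_succ, Nat.sub_add_cancel (orderOf_pos g), pow_orderOf_eq_one] at this⟩

theorem mem_partStab_of_eq {g : Perm Ω} (h : ∀ x, f (g x) = f x) : g ∈ partStab f :=
  fun x y => by rw [h, h]

theorem apply_swap_of_eq [DecidableEq Ω] {x y : Ω} (h : f x = f y) (z : Ω) :
    f (swap x y z) = f z := by
  rw [swap_apply_def]; split_ifs <;> simp [*]

theorem swap_mem_partStab [DecidableEq Ω] {x y : Ω} (h : f x = f y) : swap x y ∈ partStab f :=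
  mem_partStab_of_eq (apply_swap_of_eq h)

variable [Finite Ω] {a : ℕ} (hf : ∀ i : ι, Nat.card {x : Ω // f x = i} = a)
include hf

theorem exists_equiv_prod : ∃ e : Ω ≃ ι × Fin a, ∀ x, (e x).1 = f x := by
  have e : ∀ i, {x : Ω // f x = i} ≃ Fin a := fun i => (Finite.card_eq.1 (by simp [← hf i])).some
  exact ⟨(sigmaFiberEquiv f).symm.trans ((sigmaCongrRight e).trans (sigmaEquivProd _ _)), fun _ => rfl⟩

theorem card_eq_mul_of_fibres : Nat.card Ω = Nat.card ι * a := by
  obtain ⟨e, -⟩ := exists_equiv_prod hf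
  simp [Nat.card_congr e]

theorem exists_lift (σ : Perm ι) : ∃ w ∈ partStab f, ∀ x, f (w x) = σ (f x) := by
  obtain ⟨e, he⟩ := exists_equiv_prod hf
  have : ∀ x, f (e.symm.permCongr (σ.prodCongr (.refl _)) x) = σ (f x) := fun x => by
    simp [← he]
  exact ⟨_, fun x y => by rw [this, this, σ.apply_eq_iff_eq], this⟩

theorem exists_fibre_ne (ha : 2 ≤ a) (i : ι) (y : Ω) : ∃ x, f x = i ∧ x ≠ y := by
  have : Nontrivial {x : Ω // f x = i} := Finite.one_lt_card_iff_nontrivial.1 (by rw [hf]; omega)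
  obtain ⟨u, v, h⟩ := exists_pair_ne {x : Ω // f x = i}
  by_cases e : u.1 = y
  · exact ⟨v, v.2, fun e' => h (Subtype.ext (e.trans e'.symm))⟩
  · exact ⟨u, u.2, e⟩

theorem exists_map_pair [DecidableEq Ω] {u v u' v' : Ω} (h : f u ≠ f v) (h' : f u' ≠ f v') :
    ∃ w ∈ partStab f, w u = u' ∧ w v = v' := by
  classical
  obtain ⟨σ, h1, h2⟩ : ∃ σ : Perm ι, σ (f u) = f u' ∧ σ (f v) = f v' :=
    two_iff.1 (Perm.isMultiplyPretransitive ι 2) _ _ _ _ h h'
  obtain ⟨w, hw, e⟩ := exists_lift hf σ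
  have e1 : f (w u) = f u' := (e u).trans h1
  have e2 : f (w v) = f v' := (e v).trans h2
  refine ⟨swap (w u) u' * (swap (w v) v' * w), mul_mem (swap_mem_partStab e1)
    (mul_mem (swap_mem_partStab e2) hw), ?_, ?_⟩
  · rw [mul_apply, mul_apply, swap_apply_of_ne_of_ne (w.injective.ne (ne_of_apply_ne f h))
      (ne_of_apply_ne f (e1 ▸ h')), swap_apply_left]
  · rw [mul_apply, mul_apply, swap_apply_left, swap_apply_of_ne_of_ne
      (ne_of_apply_ne f (e1 ▸ h'.symm)) (ne_of_apply_ne f h'.symm)]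

end Cfsg.Lib.Perm
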