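import Cfsg.Agent.Lib.Perm.Hall4
import Cfsg.Agent.Lib.Perm.Homog
import Cfsg.Agent.S0743

/-! Livingstone–Wagner: a `k`-transitive group (`4 ≤ k < n`) induces at least the alternating
group on some `(k+1)`-set. -/

set_option autoImplicit false

namespace Cfsg.Lib.Perm
open MulAction Function Equiv
open scoped Pointwise

variable {G α : Type*} [Group G] [MulAction G α]

variable (G) in
/-- The permutations of the index set induced by `G` on the tuple `x`. -/
def Ind {ι : Type*} (x : ι → α) : Subgroup (Perm ι) where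
  carrier := {σ | ∃ g : G, ∀ i, g • x i = x (σ i)}
  one_mem' := ⟨1, fun i => one_smul _ _⟩
  mul_mem' := by
    rintro σ τ ⟨g, hg⟩ ⟨h, hh⟩
    exact ⟨g * h, fun i => by rw [mul_smul, hh, hg, Perm.mul_apply]⟩
  inv_mem' := by
    rintro σ ⟨g, hg⟩
    exact ⟨g⁻¹, fun i => by rw [inv_smul_eq_iff, hg, Perm.coe_inv, apply_symm_apply]⟩

theorem mem_ind {ι : Type*} {x : ι → α} {σ : Perm ι} :
    σ ∈ Ind G x ↔ ∃ g : G, ∀ i, g • x i = x (σ i) := Iff.rfl

theorem ind_eq_top_of_swaps [DecidableEq α] {ι : Type*} [Finite ι] (Δ : Finset α)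
    (h : ∀ a ∈ Δ, ∀ b ∈ Δ, a ≠ b → ∃ g : G, ∀ y ∈ Δ, g • y = swap a b y) {x : ι → α}
    (hx : Injective x) (hxΔ : ∀ i, x i ∈ Δ) : Ind G x = ⊤ := by
  classical
  rw [eq_top_iff, ← Perm.closure_isSwap, Subgroup.closure_le]
  rintro σ ⟨i, j, hij, rfl⟩
  obtain ⟨g, hg⟩ := h _ (hxΔ i) _ (hxΔ j) (hx.ne hij)
  exact ⟨g, fun l => by rw [hg _ (hxΔ l), hx.swap_apply]⟩

theorem exists_enum (Δ : Finset α) {k : ℕ} (h : Δ.card = k) :
    ∃ x : Fin k → α, Injective x ∧ (∀ i, x i ∈ Δ) ∧ ∀ a ∈ Δ, ∃ i, x i = a :=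
  ⟨fun i => (Δ.equivFinOfCardEq h).symm i,
    Subtype.val_injective.comp (Δ.equivFinOfCardEq h).symm.injective,
    fun i => ((Δ.equivFinOfCardEq h).symm i).2,
    fun a ha => ⟨Δ.equivFinOfCardEq h ⟨a, ha⟩, by simp⟩⟩

theorem alt_le_ind [Fintype α] [DecidableEq α] {ι : Type*} [Fintype ι] [DecidableEq ι]
    {G : Subgroup (Perm α)} (h : alternatingGroup α ≤ G) {x : ι → α} (hx : Injective x) :
    alternatingGroup ι ≤ Ind G x := by
  intro σ hσ
  refine ⟨⟨σ.viaFintypeEmbedding ⟨x, hx⟩, h ?_⟩, fun i => ?_⟩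
  · rw [Perm.mem_alternatingGroup] at hσ ⊢
    rw [Perm.viaFintypeEmbedding_sign, hσ]
  · exact Perm.viaFintypeEmbedding_apply_image σ ⟨x, hx⟩ i

/-- In a Frobenius-type situation with an involution in a point stabiliser, any two points are
interchanged. -/
theorem exists_swap_of_invol [Finite G] (s : Finset α)
    (htr : ∀ a b, a ∉ s → b ∉ s → ∃ g : G, (∀ x ∈ s, g • x = x) ∧ g • a = b)
    (h2 : ∀ (g : G) (a b : α), (∀ x ∈ s, g • x = x) → a ∉ s → b ∉ s → a ≠ b → g • a = a →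
      g • b = b → g = 1) {t : G} (ht : t * t = 1) (ht1 : t ≠ 1) (hts : ∀ x ∈ s, t • x = x)
    {c : α} (hc : c ∉ s) (htc : t • c = c) {a b : α} (ha : a ∉ s) (hb : b ∉ s) (hab : a ≠ b) :
    ∃ g : G, (∀ x ∈ s, g • x = x) ∧ g • a = b ∧ g • b = a := by
  have key : ∀ a, a ∉ s → ∃ u : G, u * u = 1 ∧ u ≠ 1 ∧ u ∈ fixingSubgroup G (s : Set α) ∧
      u • a = a := by
    intro a ha
    obtain ⟨g, hg, hgc⟩ := htr c a hc ha
    have hg' := mem_fixing_iff.2 hg
    refine ⟨g * t * g⁻¹, ?_, Inv.conj_ne_one ht1, Subgroup.mul_mem _ (Subgroup.mul_mem _ hg'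
      (mem_fixing_iff.2 hts)) (Subgroup.inv_mem _ hg'), ?_⟩
    · rw [show g * t * g⁻¹ * (g * t * g⁻¹) = g * (t * t) * g⁻¹ by group, ht]; simp
    · rw [← hgc, smul_fixed_of_conj rfl, htc]
  obtain ⟨u, hu, hu1, hus, hua⟩ := key a ha
  obtain ⟨v, hv, hv1, hvs, hvb⟩ := key b hb
  have hns : ∀ g ∈ fixingSubgroup G (s : Set α), ∀ x, x ∉ s → g • x ∉ s := fun g hg x hx h =>
    hx (by rwa [smul_left_cancel g (mem_fixing_iff.1 hg _ h)] at h)
  have fix : ∀ {w u v : G} {a b : α}, w ∈ fixingSubgroup G (s : Set α) →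
      v ∈ fixingSubgroup G (s : Set α) → v ≠ 1 → a ∉ s → b ∉ s → w * u * w⁻¹ = v → u • a = a →
      v • b = b → w • a = b := by
    intro w u v a b hw hv hv1 ha hb e ua vb
    by_contra hne
    exact hv1 (h2 v _ _ (mem_fixing_iff.1 hv) (hns w hw a ha) hb hne
      (by rw [smul_fixed_of_conj e, ua]) vb)
  rcases Nat.even_or_odd (orderOf (u * v)) with he | ho
  · obtain ⟨h1, h3, h4⟩ := Inv.half_pow_of_even hu hv he
    have hz := Subgroup.pow_mem _ (Subgroup.mul_mem _ hus hvs) (orderOf (u * v) / 2)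
    exact absurd (h2 _ a b (mem_fixing_iff.1 hz) ha hb hab
      (fix hz hus hu1 ha ha (by rw [h3.eq]; group) hua hua)
      (fix hz hvs hv1 hb hb (by rw [h4.eq]; group) hvb hvb)) (Inv.ne_one_of_orderOf h1)
  · obtain ⟨w, hw, hw2, hwc⟩ := Inv.exists_swap_of_odd hu hv ho
    have hws : w ∈ fixingSubgroup G (s : Set α) := by
      refine (Subgroup.closure_le _).2 ?_ hw
      rintro x (rfl | rfl) <;> assumption
    have := fix hws hvs hv1 ha hb hwc hua hvb
    exact ⟨w, mem_fixing_iff.1 hws, this, smul_eq_of_invol hw2 this⟩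

/-- Reduction to the fixed points of a maximal `p`-subgroup with more than `k` fixed points. -/
theorem exists_smaller [Fintype α] [DecidableEq α] [Finite G] [FaithfulSMul G α] {k : ℕ}
    (hk : 1 ≤ k) (hG : IsMultiplyPretransitive G α k) {g : G} (hg : g ≠ 1) {Δ : Finset α}
    (hΔ : Δ.card = k + 1) (hgΔ : ∀ x ∈ Δ, g • x = x) :
    ∃ F : Finset α, k < F.card ∧ F.card < Fintype.card α ∧
      IsMultiplyPretransitive (finsetStabHom (G := G) F).range F k := by
  classical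
  obtain ⟨p, hp, hpg⟩ := Nat.exists_prime_and_dvd (n := orderOf g) (by simpa using hg)
  have := Fact.mk hp
  let Fx : Subgroup G → Finset α := fun Q => Finset.univ.filter fun x => ∀ u ∈ Q, u • x = x
  have hFx : ∀ Q x, x ∈ Fx Q ↔ ∀ u ∈ Q, u • x = x := fun Q x => by simp [Fx]
  obtain ⟨⟨u, hu⟩, hup⟩ := exists_prime_orderOf_dvd_card' (G := Subgroup.zpowers g) p
    (by rwa [Nat.card_zpowers])
  rw [← Subgroup.orderOf_coe] at hup
  simp only at hup
  have h0 : IsPGroup p (Subgroup.zpowers u) ∧ k < (Fx (Subgroup.zpowers u)).card := by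
    refine ⟨IsPGroup.of_card (n := 1) (by rw [Nat.card_zpowers, hup, pow_one]), ?_⟩
    refine lt_of_lt_of_le (by omega) (Finset.card_le_card (s := Δ) fun x hx => (hFx _ _).2 ?_)
    have : Subgroup.zpowers g ≤ stabilizer G x := Subgroup.zpowers_le.2 (hgΔ x hx)
    exact fun v hv => this (Subgroup.zpowers_le.2 hu hv)
  obtain ⟨Q, ⟨hQ, hQc⟩, hmax⟩ := Set.exists_max_image
    {Q : Subgroup G | IsPGroup p Q ∧ k < (Fx Q).card} (fun Q => Nat.card Q) (Set.toFinite _)
    ⟨_, h0⟩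
  have hN : ∀ n ∈ Subgroup.normalizer (Q : Set G), n ∈ stabilizer G (Fx Q) := by
    intro n hn
    refine Finset.eq_of_subset_of_card_le (fun x hx => ?_) (Finset.card_smul_finset _ _).ge
    obtain ⟨y, hy, rfl⟩ := Finset.mem_smul_finset.1 hx
    exact (hFx _ _).2 (smul_fixed_of_mem_normalizer hn ((hFx _ _).1 hy))
  refine ⟨Fx Q, hQc, ?_, ?_⟩
  · refine Finset.card_lt_card ⟨Finset.subset_univ _, fun h => ?_⟩
    have h1 : Q = ⊥ := by
      rw [eq_bot_iff]
      intro v hv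
      exact Subgroup.mem_bot.2 (eq_of_smul_eq_smul (α := α) fun x => by
        rw [one_smul]; exact (hFx _ _).1 (h (Finset.mem_univ x)) v hv)
    have h2 := hmax _ h0
    simp only [h1, Nat.card_zpowers, hup, Subgroup.card_bot] at h2
    exact absurd hp.one_lt (by omega)
  by_cases hc : ∃ Γ : Finset α, Γ ⊆ Fx Q ∧ Γ.card = k ∧
      ¬ p ∣ Q.relIndex (fixingSubgroup G (Γ : Set α))
  · obtain ⟨Γ, hΓ, hΓc, hΓp⟩ := hc
    obtain ⟨x, hx, hx1, hx2⟩ := exists_enum Γ hΓc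
    have key : ∀ y : Fin k → Fx Q, Injective y →
        ∃ n : (finsetStabHom (G := G) (Fx Q)).range, ∀ i, n • (⟨x i, hΓ (hx1 i)⟩ : Fx Q) = y i := by
      intro y hy
      obtain ⟨g, hg⟩ := mt_iff.1 hG x (fun i => y i) hx (Subtype.val_injective.comp hy)
      obtain ⟨n, hn, hn'⟩ := exists_normalizer_eq_on (g := g) hQ hΓp (by
        intro a ha
        obtain ⟨i, rfl⟩ := hx2 a ha
        rw [hg]; exact (hFx _ _).1 (y i).2)
      refine ⟨⟨_, ⟨n, hN n hn⟩, rfl⟩, fun i => Subtype.ext ?_⟩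
      exact (hn' _ (hx1 i)).trans (hg i)
    rw [mt_iff]
    intro y z hy hz
    obtain ⟨n, hn⟩ := key y hy
    obtain ⟨m, hm⟩ := key z hz
    exact ⟨m * n⁻¹, fun i => by rw [mul_smul, ← hn, inv_smul_smul, hm]⟩
  · push Not at hc
    refine Agent.S0743.result _ hp hk (by simpa using hQc) fun s hs => ?_
    set Γ := s.map (Embedding.subtype _) with hΓ
    have hΓc : Γ.card = k := by rw [hΓ, Finset.card_map, hs]
    have hΓs : Γ ⊆ Fx Q := fun x hx => by
      obtain ⟨y, -, rfl⟩ := Finset.mem_map.1 hx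
      exact y.2
    have hQΓ : Q ≤ fixingSubgroup G (Γ : Set α) := fun u hu =>
      mem_fixing_iff.2 fun x hx => (hFx _ _).1 (hΓs hx) u hu
    obtain ⟨T, hQT, hTΓ, hT, hTi⟩ := Transfer.exists_sylowIn_ge hQ hQΓ
    have hlt := Transfer.lt_inf_normalizer_of_lt hT (lt_of_le_of_ne hQT (by
      rintro rfl; exact hTi (hc Γ hΓs hΓc)))
    set R := T ⊓ Subgroup.normalizer (Q : Set G) with hR
    have hRp : IsPGroup p R := hT.to_inf_left
    have hRΓ : Fx R = Γ := by
      refine (Finset.eq_of_subset_of_card_le (fun x hx => (hFx _ _).2 fun u hu =>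
        mem_fixing_iff.1 (hTΓ (Subgroup.mem_inf.1 hu).1) x hx) ?_).symm
      by_contra hcon
      exact absurd (hmax R ⟨hRp, hΓc ▸ not_le.1 hcon⟩) (not_le.2 (Transfer.card_lt_of_lt hlt))
    refine ⟨(R.subgroupOf (stabilizer G (Fx Q))).map (finsetStabHom (Fx Q)).rangeRestrict,
      hRp.comap_subtype.map _, ?_⟩
    ext y
    have : y ∈ s ↔ (y : α) ∈ Γ := by rw [hΓ]; simp
    rw [Finset.mem_coe, this, ← hRΓ, hFx]
    constructor
    · intro h u hu
      exact congrArg Subtype.val (h ⟨_, ⟨u, hN u hu.2⟩, hu, rfl⟩)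
    · rintro h ⟨_, u, hu, rfl⟩
      exact Subtype.ext (h u hu)

/-- Sharply `k`-transitive groups of degree `k + 7` preserve a Steiner system. -/
theorem exists_steiner_point [Fintype α] [DecidableEq α] {k : ℕ}
    (hG : IsMultiplyPretransitive G α k) (hn : Fintype.card α = k + 7)
    (hsh : ∀ (g : G) (S : Finset α), k ≤ S.card → (∀ x ∈ S, g • x = x) → g = 1)
    (Γ : Finset α) (hΓ : Γ.card = k) (hk : 3 ≤ k) : ∃ w, w ∉ Γ ∧ ∀ a ∈ Γ, ∀ b ∈ Γ, a ≠ b →
      ∀ t : G, (∀ x ∈ Γ, t • x = swap a b x) → ∀ y, y ∉ Γ → (t • y = y ↔ y = w) := by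
  have hc : ((Γ : Set α)ᶜ).ncard = 7 := by
    rw [← Finset.coe_compl, Set.ncard_coe_finset, Finset.card_compl]; omega
  have hinv : ∀ g : G, (∀ x ∈ Γ, g • x ∈ Γ) → ∀ u ∈ Subgroup.zpowers g, ∀ x ∈ (Γ : Set α)ᶜ,
      u • x ∈ (Γ : Set α)ᶜ := by
    intro g hg u hu x hx hux
    have h1 : g ∈ stabilizer G Γ :=
      Finset.eq_of_subset_of_card_le (fun x hx => by
        obtain ⟨y, hy, rfl⟩ := Finset.mem_smul_finset.1 hx
        exact hg y hy) (Finset.card_smul_finset _ _).ge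
    have h2 : u • Γ = Γ := Subgroup.zpowers_le.2 h1 hu
    exact hx (Finset.mem_coe.2 ((Finset.smul_mem_smul_finset_iff u).1 (h2.symm ▸ hux)))
  have hsw : ∀ {a b : α}, a ∈ Γ → b ∈ Γ → ∀ x ∈ Γ, swap a b x ∈ Γ := by
    intro a b ha hb x hx
    rw [swap_apply_def]; split_ifs <;> assumption
  have ex : ∀ a ∈ Γ, ∀ b ∈ Γ, ∃ t : G, ∀ x ∈ Γ, t • x = swap a b x := fun a _ b _ =>
    mt_iff_finset.1 hG Γ hΓ _ (swap a b).injective.injOn
  have sq : ∀ {a b : α} {t : G}, a ∈ Γ → b ∈ Γ → (∀ x ∈ Γ, t • x = swap a b x) → t * t = 1 := by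
    intro a b t ha hb ht
    exact hsh _ Γ hΓ.ge fun x hx => by
      rw [mul_smul, ht x hx, ht _ (hsw ha hb x hx), swap_apply_self]
  have uniq : ∀ {a b y z : α} {t : G}, a ∈ Γ → b ∈ Γ → a ≠ b → (∀ x ∈ Γ, t • x = swap a b x) →
      y ∉ Γ → z ∉ Γ → t • y = y → t • z = z → y = z := by
    intro a b y z t ha hb hab ht hy hz ty tz
    by_contra hyz
    have := hsh t (insert y (insert z (Γ \ {a, b}))) (by
      rw [Finset.card_insert_of_notMem (by simp [hyz, hy]),
        Finset.card_insert_of_notMem (by simp [hz]), Finset.card_sdiff_of_subset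
        (by simp [Finset.insert_subset_iff, ha, hb]), Finset.card_pair hab]; omega) (by
      simp only [Finset.mem_insert, Finset.mem_sdiff, Finset.mem_singleton, not_or]
      rintro x (rfl | rfl | ⟨hx, h1, h2⟩)
      · exact ty
      · exact tz
      · rw [ht x hx, swap_apply_of_ne_of_ne h1 h2])
    have h2 := ht a ha
    rw [this, one_smul, swap_apply_left] at h2
    exact hab h2
  have share : ∀ {a b c : α} {s t : G}, a ∈ Γ → b ∈ Γ → c ∈ Γ → a ≠ b → a ≠ c → b ≠ c →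
      (∀ x ∈ Γ, s • x = swap a b x) → (∀ x ∈ Γ, t • x = swap b c x) →
      ∃ w, w ∉ Γ ∧ s • w = w ∧ t • w = w := by
    intro a b c s t ha hb hc' hab hac hbc hs ht
    have : Fact (Nat.Prime 3) := ⟨by norm_num⟩
    have hr : ∀ x ∈ Γ, (s * t) • x = (swap a b * swap b c) x := fun x hx => by
      rw [mul_smul, ht x hx, hs _ (hsw hb hc' x hx), Perm.mul_apply]
    have hrΓ : ∀ x ∈ Γ, (s * t) • x ∈ Γ := fun x hx => by
      rw [hr x hx]; exact hsw ha hb _ (hsw hb hc' x hx)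
    have h3 : (s * t) ^ 3 ^ 1 = 1 := hsh _ Γ hΓ.ge fun x hx => by
      have e : (swap a b * swap b c) ^ 3 = 1 := by
        rw [← (Perm.isThreeCycle_swap_mul_swap_same hab.symm hbc hac).orderOf, swap_comm a b,
          pow_orderOf_eq_one]
      have := Equiv.ext_iff.1 e x
      rw [pow_one, pow_three, mul_smul (s * t), mul_smul (s * t), hr _ (hrΓ _ (hrΓ x hx)),
        hr _ (hrΓ x hx), hr x hx]
      simpa only [pow_three, Perm.mul_apply, Perm.one_apply] using this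
    have hm := ncard_modEq_fixed (Inv.isPGroup_zpowers h3) (Set.toFinite _) (hinv _ hrΓ)
    rw [hc] at hm
    set T := {x | x ∈ (Γ : Set α)ᶜ ∧ ∀ u ∈ Subgroup.zpowers (s * t), u • x = x} with hT
    have hTm : ∀ x, x ∈ T ↔ x ∉ Γ ∧ (s * t) • x = x := fun x =>
      ⟨fun h => ⟨h.1, h.2 _ (Subgroup.mem_zpowers _)⟩, fun h => ⟨h.1, fun u hu =>
        (Subgroup.zpowers_le (H := stabilizer G x)).2 h.2 hu⟩⟩
    have hT3 : T.ncard < 3 := by
      by_contra hcon
      have := hsh (s * t) (T.toFinite.toFinset ∪ (Γ \ {a, b, c})) (by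
        rw [Finset.card_union_of_disjoint, Finset.card_sdiff_of_subset
          (by simp [Finset.insert_subset_iff, ha, hb, hc']), ← Set.ncard_eq_toFinset_card,
          Finset.card_eq_three.2 ⟨a, b, c, hab, hac, hbc, rfl⟩]
        · omega
        · rw [Finset.disjoint_left]
          intro x hx hx'
          exact ((hTm x).1 ((Set.Finite.mem_toFinset _).1 hx)).1 (Finset.mem_sdiff.1 hx').1) (by
        simp only [Finset.mem_union, Set.Finite.mem_toFinset, Finset.mem_sdiff, Finset.mem_insert,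
          Finset.mem_singleton, not_or]
        rintro x (hx | ⟨hx, h1, h2, h3⟩)
        · exact ((hTm x).1 hx).2
        · rw [hr x hx, Perm.mul_apply, swap_apply_of_ne_of_ne h2 h3, swap_apply_of_ne_of_ne h1 h2])
      have h2 := hr a ha
      rw [this, one_smul, Perm.mul_apply, swap_apply_of_ne_of_ne hab hac, swap_apply_left] at h2
      exact hab h2
    have hT1 : T.ncard = 1 := by
      unfold Nat.ModEq at hm; omega
    obtain ⟨w, hw⟩ := Set.ncard_eq_one.1 hT1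
    have hwT := (hTm w).1 (hw ▸ rfl)
    have hs2 := sq ha hb hs
    have hsw' : s • w = w := by
      have : s • w ∈ T := (hTm _).2 ⟨hinv s (fun x hx => by rw [hs x hx]; exact hsw ha hb x hx) s
        (Subgroup.mem_zpowers _) w hwT.1, by
          have e := Inv.pair_left_inv hs2 (sq hb hc' ht)
          have := smul_fixed_of_conj e w
          rw [hwT.2, inv_smul_eq_iff] at this
          exact this.symm⟩
      rwa [hw] at this
    refine ⟨w, hwT.1, hsw', ?_⟩
    have := hwT.2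
    rw [mul_smul] at this
    exact smul_left_cancel s (this.trans hsw'.symm)
  obtain ⟨a₀, b₀, c₀, ha₀, hb₀, hc₀, h1, h2, h3⟩ := Finset.two_lt_card_iff.1
    (show 2 < Γ.card by omega)
  obtain ⟨t₀, ht₀⟩ := ex a₀ ha₀ b₀ hb₀
  obtain ⟨w, hw, hw0, -⟩ := share ha₀ hb₀ hc₀ h1 h2 h3 ht₀ (ex b₀ hb₀ c₀ hc₀).choose_spec
  have step : ∀ {a b c : α}, a ∈ Γ → b ∈ Γ → c ∈ Γ → a ≠ b → b ≠ c →
      (∀ t : G, (∀ x ∈ Γ, t • x = swap a b x) → t • w = w) →
      (∀ t : G, (∀ x ∈ Γ, t • x = swap b c x) → t • w = w) := by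
    intro a b c ha hb hc hab hbc h t ht
    by_cases hac : a = c
    · subst hac; exact h t (by rwa [swap_comm])
    obtain ⟨s, hs⟩ := ex a ha b hb
    obtain ⟨w', hw', e1, e2⟩ := share ha hb hc hab hac hbc hs ht
    rwa [uniq ha hb hab hs hw hw' (h s hs) e1]
  have base : ∀ t : G, (∀ x ∈ Γ, t • x = swap a₀ b₀ x) → t • w = w := fun t ht => by
    have : t₀⁻¹ * t = 1 := hsh _ Γ hΓ.ge fun x hx => by
      rw [mul_smul, ht x hx, inv_smul_eq_iff, ht₀ x hx]
    rw [← inv_mul_eq_one.1 this, hw0]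
  have all : ∀ a ∈ Γ, ∀ b ∈ Γ, a ≠ b → ∀ t : G, (∀ x ∈ Γ, t • x = swap a b x) → t • w = w := by
    intro a ha b hb hab
    by_cases h : b₀ = a
    · subst h; exact step ha₀ hb₀ hb h1 hab base
    · exact step hb₀ ha hb h hab (step ha₀ hb₀ ha h1 h base)
  exact ⟨w, hw, fun a ha b hb hab t ht y hy => ⟨fun h => uniq ha hb hab ht hy hw h
    (all a ha b hb hab t ht), fun h => h ▸ all a ha b hb hab t ht⟩⟩

theorem exists_steiner_block [Fintype α] [DecidableEq α] {k : ℕ}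
    (hG : IsMultiplyPretransitive G α k) (hn : Fintype.card α = k + 7)
    (hsh : ∀ (g : G) (S : Finset α), k ≤ S.card → (∀ x ∈ S, g • x = x) → g = 1) (hk : 3 ≤ k) :
    ∃ Δ : Finset α, Δ.card = k + 1 ∧
      ∀ a ∈ Δ, ∀ b ∈ Δ, a ≠ b → ∃ g : G, ∀ y ∈ Δ, g • y = swap a b y := by
  obtain ⟨Γ, hΓ⟩ := exists_finset_card (α := α) (k := k) (by rw [Nat.card_eq_fintype_card]; omega)
  obtain ⟨w, hw, H⟩ := exists_steiner_point hG hn hsh Γ hΓ hk
  have h1 : ∀ a ∈ Γ, ∀ b ∈ Γ, a ≠ b → ∃ g : G, ∀ y ∈ insert w Γ, g • y = swap a b y := by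
    intro a ha b hb hab
    obtain ⟨t, ht⟩ := mt_iff_finset.1 hG Γ hΓ _ (swap a b).injective.injOn
    refine ⟨t, fun y hy => ?_⟩
    rcases Finset.mem_insert.1 hy with rfl | hy
    · rw [(H a ha b hb hab t ht y hw).2 rfl, swap_apply_of_ne_of_ne
        (by rintro rfl; exact hw ha) (by rintro rfl; exact hw hb)]
    · exact ht y hy
  have h2 : ∀ a ∈ Γ, ∃ g : G, ∀ y ∈ insert w Γ, g • y = swap a w y := by
    intro a ha
    obtain ⟨b, hb, c, hc, hbc⟩ := Finset.one_lt_card.1 (show 1 < (Γ.erase a).card by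
      rw [Finset.card_erase_of_mem ha]; omega)
    obtain ⟨hba, hb⟩ := Finset.mem_erase.1 hb
    obtain ⟨hca, hc⟩ := Finset.mem_erase.1 hc
    have hΓ' : (insert w (Γ.erase c)).card = k := by
      rw [Finset.card_insert_of_notMem (by simp [hw]), Finset.card_erase_of_mem hc]; omega
    obtain ⟨w', hw', H'⟩ := exists_steiner_point hG hn hsh _ hΓ' hk
    have hcw : c ≠ w := fun h => hw (h ▸ hc)
    have haw : a ≠ w := fun h => hw (h ▸ ha)
    have hc' : c ∉ insert w (Γ.erase c) := by simp [hcw]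
    have ha' : a ∈ insert w (Γ.erase c) := by simp [ha, hca.symm]
    obtain ⟨t, ht⟩ := h1 a ha b hb hba.symm
    have e : c = w' := (H' a ha' b (by simp [hb, hbc]) hba.symm t (fun x hx => ht x
      (Finset.insert_subset_insert _ (Finset.erase_subset _ _) hx)) c hc').1 (by
        rw [ht c (by simp [hc]), swap_apply_of_ne_of_ne hca hbc.symm])
    obtain ⟨s, hs⟩ := mt_iff_finset.1 hG _ hΓ' _ (swap a w).injective.injOn
    refine ⟨s, fun y hy => ?_⟩
    by_cases hyc : y = c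
    · rw [hyc, (H' a ha' w (by simp) haw s hs c hc').2 e, swap_apply_of_ne_of_ne hca hcw]
    · refine hs y ?_
      simp only [Finset.mem_insert, Finset.mem_erase] at hy ⊢
      tauto
  refine ⟨insert w Γ, by rw [Finset.card_insert_of_notMem hw, hΓ], fun a ha b hb hab => ?_⟩
  rcases Finset.mem_insert.1 ha with rfl | ha' <;> rcases Finset.mem_insert.1 hb with rfl | hb'
  · exact absurd rfl hab
  · rw [swap_comm]; exact h2 b hb'
  · exact h2 a ha'
  · exact h1 a ha' b hb' hab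

end Cfsg.Lib.Perm
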