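import Cfsg.Agent.Lib.Perm.LW

/-! Livingstone–Wagner, part 2. -/

set_option autoImplicit false

namespace Cfsg.Lib.Perm
open MulAction Function Equiv SubMulAction
open scoped Pointwise

universe u

variable {G α : Type*} [Group G] [MulAction G α]

theorem card_ofFixing [Fintype α] [DecidableEq α] (s : Finset α) :
    Nat.card (ofFixingSubgroup G (s : Set α)) = Fintype.card α - s.card := by
  change Nat.card ((s : Set α)ᶜ : Set α) = _
  rw [Nat.card_coe_set_eq, ← Finset.coe_compl, Set.ncard_coe_finset, Finset.card_compl]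

theorem fix_lift [DecidableEq α] {P : G → Prop} {m : ℕ} (s : Finset α)
    (h : ∀ (g : G) (S : Finset α), s.card + m ≤ S.card → (∀ x ∈ S, g • x = x) → P g)
    (g : fixingSubgroup G (s : Set α)) (T : Finset (ofFixingSubgroup G (s : Set α)))
    (hT : m ≤ T.card) (hg : ∀ x ∈ T, g • x = x) : P g := by
  refine h g (s ∪ T.map (Embedding.subtype _)) ?_ fun x hx => ?_
  · rw [Finset.card_union_of_disjoint, Finset.card_map]
    · omega
    · rw [Finset.disjoint_right]
      intro x hx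
      obtain ⟨y, -, rfl⟩ := Finset.mem_map.1 hx
      exact y.2
  · rcases Finset.mem_union.1 hx with hx | hx
    · exact mem_fixing_iff.1 g.2 x hx
    · obtain ⟨y, hy, rfl⟩ := Finset.mem_map.1 hx
      exact congrArg Subtype.val (hg y hy)

theorem h4_ofFixing [DecidableEq α] (s : Finset α) (hG : IsMultiplyPretransitive G α (s.card + 4))
    (h : ∀ (g : G) (S : Finset α), s.card + 4 ≤ S.card → (∀ x ∈ S, g • x = x) → Odd (orderOf g)) :
    H4 (fixingSubgroup G (s : Set α)) (ofFixingSubgroup G (s : Set α)) := by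
  classical
  refine ⟨ofFixingSubgroup.isMultiplyPretransitive G (s : Set α) (by rw [Set.ncard_coe_finset]),
    fun g a b c d h1 h2 h3 h4 h5 h6 e1 e2 e3 e4 => ?_⟩
  rw [← Subgroup.orderOf_coe]
  exact fix_lift s h g {a, b, c, d} (Finset.card_eq_four.2 ⟨a, b, c, d, h1, h2, h3, h4, h5, h6,
    rfl⟩).ge (by simp [e1, e2, e3, e4])

theorem exists_split [DecidableEq α] {j : ℕ} (S : Finset α) (h : j + 4 ≤ S.card) :
    ∃ s : Finset α, s ⊆ S ∧ s.card = j ∧ ∃ a b c d : ofFixingSubgroup G (s : Set α),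
      a ≠ b ∧ a ≠ c ∧ a ≠ d ∧ b ≠ c ∧ b ≠ d ∧ c ≠ d ∧ a.1 ∈ S ∧ b.1 ∈ S ∧ c.1 ∈ S ∧ d.1 ∈ S := by
  obtain ⟨s, hs, hsc⟩ := Finset.exists_subset_card_eq (s := S) (n := j) (by omega)
  obtain ⟨a, b, c, d, ha, hb, hc, hd, h1, h2, h3, h4, h5, h6⟩ := Finset.three_lt_card_iff.1
    (show 3 < (S \ s).card by rw [Finset.card_sdiff_of_subset hs]; omega)
  rw [Finset.mem_sdiff] at ha hb hc hd
  exact ⟨s, hs, hsc, ⟨a, ha.2⟩, ⟨b, hb.2⟩, ⟨c, hc.2⟩, ⟨d, hd.2⟩, Subtype.coe_ne_coe.1 h1,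
    Subtype.coe_ne_coe.1 h2, Subtype.coe_ne_coe.1 h3, Subtype.coe_ne_coe.1 h4,
    Subtype.coe_ne_coe.1 h5, Subtype.coe_ne_coe.1 h6, ha.1, hb.1, hc.1, hd.1⟩

theorem odd_of_no_invol [Finite G] {m : ℕ}
    (h : ∀ (t : G) (S : Finset α), m ≤ S.card → (∀ x ∈ S, t • x = x) → t * t = 1 → t = 1)
    (g : G) (S : Finset α) (hS : m ≤ S.card) (hg : ∀ x ∈ S, g • x = x) : Odd (orderOf g) := by
  by_contra hc
  have h2 := Inv.orderOf_pow_half (orderOf_pos g).ne' (Nat.not_odd_iff_even.1 hc)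
  exact Inv.ne_one_of_orderOf h2 (h _ S hS (fun x hx => (stabilizer G x).pow_mem (hg x hx) _)
    (Inv.mul_self_of_orderOf h2))

/-- M. Hall's theorem for trivial `(k+1)`-point stabilisers. -/
theorem card_cases_of_odd [Finite G] [Fintype α] [DecidableEq α] {j : ℕ}
    (hG : IsMultiplyPretransitive G α (j + 4)) (hn : j + 6 ≤ Fintype.card α)
    (h4 : ∀ (g : G) (S : Finset α), j + 4 ≤ S.card → (∀ x ∈ S, g • x = x) → Odd (orderOf g))
    (h5 : ∀ (g : G) (S : Finset α), j + 5 ≤ S.card → (∀ x ∈ S, g • x = x) → g = 1) :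
    (Fintype.card α = j + 7 ∧ IsMultiplyPretransitive G α (j + 5)) ∨
    ((Fintype.card α = j + 6 ∨ Fintype.card α = j + 11) ∧
      ∀ (g : G) (S : Finset α), j + 4 ≤ S.card → (∀ x ∈ S, g • x = x) → g = 1) := by
  classical
  have six : ∀ s : Finset α, s.card = j →
      ∃ T : Finset (ofFixingSubgroup G (s : Set α)), T.card = 6 := fun s hs =>
    exists_finset_card (by rw [card_ofFixing]; omega)
  by_cases hsh : ∀ (g : G) (S : Finset α), j + 4 ≤ S.card → (∀ x ∈ S, g • x = x) → g = 1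
  · refine Or.inr ⟨?_, hsh⟩
    obtain ⟨s, rfl⟩ := exists_finset_card (α := α) (k := j)
      (by rw [Nat.card_eq_fintype_card]; omega)
    obtain ⟨T, hT⟩ := six s rfl
    have := (sharp_four_card (h4_ofFixing s hG h4).tr (fun g a b c d h1 h2 h3 h4 h5 h6 e1 e2 e3
      e4 => Subtype.ext (fix_lift (P := fun g => g = 1) s hsh g {a, b, c, d}
        (Finset.card_eq_four.2 ⟨a, b, c, d, h1, h2, h3, h4, h5, h6, rfl⟩).ge
        (by simp [e1, e2, e3, e4]))) T hT).2
    rw [card_ofFixing] at this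
    omega
  push Not at hsh
  obtain ⟨g, S, hS, hg, hg1⟩ := hsh
  have h7 : Fintype.card α = j + 7 := by
    by_contra h7
    obtain ⟨s, hs, rfl, a, b, c, d, h1, h2, h3, h4', h5', h6, ha, hb, hc, hd⟩ :=
      exists_split (G := G) S hS
    obtain ⟨T, hT⟩ := six s rfl
    refine hg1 (congrArg Subtype.val ((h4_ofFixing s hG h4).sharp ?_ T hT
      (by rw [card_ofFixing]; omega) ⟨g, mem_fixing_iff.2 fun x hx => hg x (hs hx)⟩ a b c d h1 h2
      h3 h4' h5' h6 (Subtype.ext (hg _ ha)) (Subtype.ext (hg _ hb)) (Subtype.ext (hg _ hc))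
      (Subtype.ext (hg _ hd))))
    intro g a b c d e h1 h2 h3 h4 h5' h6 k1 k2 k3 k4 e1 e2 e3 e4 e5
    refine Subtype.ext (fix_lift (P := fun g => g = 1) s h5 g {e, a, b, c, d} ?_
      (by simp [e1, e2, e3, e4, e5]))
    rw [Finset.card_insert_of_notMem (by simp [k1, k2, k3, k4]),
      Finset.card_eq_four.2 ⟨a, b, c, d, h1, h2, h3, h4, h5', h6, rfl⟩]
  refine Or.inl ⟨h7, ?_⟩
  obtain ⟨s, hs, hsc⟩ := Finset.exists_subset_card_eq hS
  have hgs := fun x hx => hg x (hs hx)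
  have hmov : ∀ y, y ∉ s → g • y ≠ y := fun y hy h => hg1 (h5 g (insert y s)
    (by rw [Finset.card_insert_of_notMem hy, hsc]) (by simpa [h] using hgs))
  have hns : ∀ y, y ∉ s → g • y ∉ s := fun y hy h =>
    hy (by rwa [smul_left_cancel g (hgs _ h)] at h)
  refine mt_succ_of_exists hG s hsc fun a b ha hb => ?_
  by_cases h1 : a = b
  · exact ⟨1, fun x _ => one_smul _ _, by rw [one_smul, h1]⟩
  by_cases h2 : g • a = b
  · exact ⟨g, hgs, h2⟩
  refine ⟨g * g, fun x hx => by rw [mul_smul, hgs x hx, hgs x hx], ?_⟩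
  by_contra h3
  rw [mul_smul] at h3
  have : 3 < sᶜ.card := Finset.three_lt_card_iff.2 ⟨a, g • a, g • g • a, b, by simpa using ha,
    by simpa using hns a ha, by simpa using hns _ (hns a ha), by simpa using hb, (hmov a ha).symm,
    fun h => hmov a ha (smul_eq_of_sq_of_odd (h4 g S hS hg) h.symm), h1,
    (hmov _ (hns a ha)).symm, h2, h3⟩
  rw [Finset.card_compl] at this
  omega

theorem swaps_of_invol [Finite G] [Fintype α] [DecidableEq α] {k : ℕ} (hk : 1 ≤ k)
    (hG : IsMultiplyPretransitive G α k)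
    (h5 : ∀ (g : G) (S : Finset α), k + 1 ≤ S.card → (∀ x ∈ S, g • x = x) → g = 1)
    {t : G} {S : Finset α} (hS : k ≤ S.card) (ht : ∀ x ∈ S, t • x = x) (ht2 : t * t = 1)
    (ht1 : t ≠ 1) (Δ : Finset α) (hΔ : Δ.card = k + 1) :
    ∀ a ∈ Δ, ∀ b ∈ Δ, a ≠ b → ∃ g : G, ∀ y ∈ Δ, g • y = swap a b y := by
  intro a ha b hb hab
  have hkn : k + 1 ≤ Fintype.card α := hΔ ▸ Finset.card_le_univ Δ
  obtain ⟨Γ, hΓ, hΓc⟩ := Finset.exists_subset_card_eq hS
  obtain ⟨y, hy, hy1, -⟩ := exists_enum Γ hΓc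
  have hc : (Δ.erase b).card = k := by rw [Finset.card_erase_of_mem hb]; omega
  obtain ⟨z, hz, -, hz2⟩ := exists_enum _ hc
  obtain ⟨g, hg⟩ := mt_iff.1 hG y z hy hz
  have hfix : ∀ w ∈ Δ.erase b, (g * t * g⁻¹) • w = w := fun w hw => by
    obtain ⟨i, rfl⟩ := hz2 w hw
    rw [← hg, smul_fixed_of_conj rfl, ht _ (hΓ (hy1 i))]
  have hab' : a ∈ Δ.erase b := Finset.mem_erase.2 ⟨hab, ha⟩
  have hc' : ((Δ.erase b).erase a).card = k - 1 := by rw [Finset.card_erase_of_mem hab', hc]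
  obtain ⟨u, hu, u1, u2⟩ := exists_swap_of_invol (G := G) ((Δ.erase b).erase a)
    (fun a b ha hb => exists_fix_smul_eq_of_le hG (by rw [Nat.card_eq_fintype_card]; omega) _
      (by omega) ha hb)
    (fun g c d hg hc hd hcd e1 e2 => h5 g (insert c (insert d ((Δ.erase b).erase a))) (by
      rw [Finset.card_insert_of_notMem (by rw [Finset.mem_insert]; tauto),
        Finset.card_insert_of_notMem hd]; omega) (by
      simp only [Finset.forall_mem_insert]; exact ⟨e1, e2, hg⟩))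
    (t := g * t * g⁻¹) (by
      rw [show g * t * g⁻¹ * (g * t * g⁻¹) = g * (t * t) * g⁻¹ by group, ht2]; simp)
    (Inv.conj_ne_one ht1) (fun w hw => hfix w (Finset.mem_of_mem_erase hw))
    (Finset.notMem_erase a _) (hfix a hab') (a := a) (b := b) (Finset.notMem_erase a _)
    (by simp) hab
  refine ⟨u, fun w hw => ?_⟩
  by_cases h1 : w = a
  · rw [h1, u1, swap_apply_left]
  by_cases h2 : w = b
  · rw [h2, u2, swap_apply_right]
  rw [hu w (by simp [h1, h2, hw]), swap_apply_of_ne_of_ne h1 h2]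

theorem exists_alt_le_ind_aux {k : ℕ} (hk : 4 ≤ k) (n : ℕ) : ∀ (α : Type u) [Fintype α]
    [DecidableEq α] (G : Subgroup (Perm α)), Fintype.card α = n → k < n →
    IsMultiplyPretransitive G α k →
    ∃ x : Fin (k + 1) → α, Injective x ∧ alternatingGroup _ ≤ Ind G x := by
  induction n using Nat.strong_induction_on with
  | _ n ih =>
  intro α _ _ G hn hkn hG
  by_cases h5 : ∀ (g : G) (S : Finset α), k + 1 ≤ S.card → (∀ x ∈ S, g • x = x) → g = 1
  swap
  · push Not at h5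
    obtain ⟨g, S, hS, hg, hg1⟩ := h5
    obtain ⟨Δ, hΔ, hΔc⟩ := Finset.exists_subset_card_eq hS
    obtain ⟨F, h1, h2, h3⟩ := exists_smaller (by omega) hG hg1 hΔc fun x hx => hg x (hΔ hx)
    obtain ⟨x, hx, hx'⟩ := ih F.card (by omega) F _ (Fintype.card_coe F) h1 h3
    refine ⟨fun i => x i, Subtype.val_injective.comp hx, fun σ hσ => ?_⟩
    obtain ⟨⟨_, g, rfl⟩, hg⟩ := hx' hσ
    exact ⟨g, fun i => congrArg Subtype.val (hg i)⟩
  obtain ⟨Δ, hΔ⟩ := exists_finset_card (α := α) (k := k + 1)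
    (by rw [Nat.card_eq_fintype_card]; omega)
  obtain ⟨x, hx, hx1, -⟩ := exists_enum Δ hΔ
  by_cases h4 : ∀ (t : G) (S : Finset α), k ≤ S.card → (∀ x ∈ S, t • x = x) → t * t = 1 → t = 1
  swap
  · push Not at h4
    obtain ⟨t, S, hS, ht, ht2, ht1⟩ := h4
    exact ⟨x, hx, le_top.trans (ind_eq_top_of_swaps Δ
      (swaps_of_invol (by omega) hG h5 hS ht ht2 ht1 Δ hΔ) hx hx1).ge⟩
  have alt : ∀ m, IsMultiplyPretransitive G α m → n ≤ m + 2 → m ≤ n →
      ∃ x : Fin (k + 1) → α, Injective x ∧ alternatingGroup _ ≤ Ind G x := fun m hm h1 h2 =>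
    ⟨x, hx, alt_le_ind (_root_.IsMultiplyPretransitive.alternatingGroup_le α G
      (isMultiplyPretransitive_of_le (n := m) (by rw [Nat.card_eq_fintype_card]; omega)
        (by rw [Nat.card_eq_fintype_card]; omega))) hx⟩
  by_cases h6 : n ≤ k + 2
  · exact alt k hG h6 hkn.le
  obtain ⟨j, rfl⟩ : ∃ j, k = j + 4 := ⟨k - 4, by omega⟩
  rcases card_cases_of_odd hG (by omega) (odd_of_no_invol h4) h5 with ⟨h1, h2⟩ | ⟨h1, h2⟩
  · exact alt _ h2 (by omega) (by omega)
  · obtain ⟨Δ, hΔ, h⟩ := exists_steiner_block hG (by omega) h2 (by omega)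
    obtain ⟨x, hx, hx1, -⟩ := exists_enum Δ hΔ
    exact ⟨x, hx, le_top.trans (ind_eq_top_of_swaps Δ h hx hx1).ge⟩

theorem exists_alt_le_ind [Fintype α] [DecidableEq α] {G : Subgroup (Perm α)} {k : ℕ} (hk : 4 ≤ k)
    (hkn : k < Fintype.card α) (hG : IsMultiplyPretransitive G α k) :
    ∃ x : Fin (k + 1) → α, Injective x ∧ alternatingGroup _ ≤ Ind G x :=
  exists_alt_le_ind_aux hk _ α G rfl hkn hG

theorem exists_perm_of_homog [DecidableEq α] {k : ℕ}
    (h : IsPretransitive G (Set.powersetCard α k)) {x y : Fin k → α} (hx : Injective x)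
    (hy : Injective y) : ∃ (g : G) (π : Perm (Fin k)), ∀ i, g • x i = y (π i) := by
  obtain ⟨g, hg⟩ := homog_iff.1 h (Finset.univ.image x) (Finset.univ.image y)
    (by rw [Finset.card_image_of_injective _ hx]; simp)
    (by rw [Finset.card_image_of_injective _ hy]; simp)
  have : ∀ i, ∃ j, y j = g • x i := fun i => by
    have : g • x i ∈ Finset.univ.image y := by
      rw [← hg]; exact Finset.smul_mem_smul_finset (by simp)
    simpa using this
  choose f hf using this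
  have hinj : Injective f := fun i j hij =>
    hx (smul_left_cancel g (by rw [← hf, ← hf, hij]))
  exact ⟨g, Equiv.ofBijective f (Finite.injective_iff_bijective.1 hinj), fun i => (hf i).symm⟩

theorem mt_of_homog_of_ind [DecidableEq α] {k : ℕ}
    (h : IsPretransitive G (Set.powersetCard α k)) {x : Fin k → α} (hx : Injective x)
    (ht : Ind G x = ⊤) : IsMultiplyPretransitive G α k := by
  have key : ∀ y : Fin k → α, Injective y → ∃ g : G, ∀ i, g • x i = y i := fun y hy => by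
    obtain ⟨g, π, hg⟩ := exists_perm_of_homog h hx hy
    obtain ⟨u, hu⟩ : π⁻¹ ∈ Ind G x := ht ▸ Subgroup.mem_top _
    exact ⟨g * u, fun i => by rw [mul_smul, hu, hg]; simp⟩
  rw [mt_iff]
  intro y z hy hz
  obtain ⟨n, hn⟩ := key y hy
  obtain ⟨m, hm⟩ := key z hz
  exact ⟨m * n⁻¹, fun i => by rw [mul_smul, ← hn, inv_smul_smul, hm]⟩

theorem alt_le_ind_of_homog [DecidableEq α] {k : ℕ}
    (h : IsPretransitive G (Set.powersetCard α k)) {x y : Fin k → α} (hx : Injective x)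
    (hy : Injective y) (ha : alternatingGroup _ ≤ Ind G x) : alternatingGroup _ ≤ Ind G y := by
  intro σ hσ
  obtain ⟨g, π, hg⟩ := exists_perm_of_homog h hx hy
  obtain ⟨u, hu⟩ := ha ((inferInstance : (alternatingGroup (Fin k)).Normal).conj_mem' σ hσ π)
  refine ⟨g * u * g⁻¹, fun i => ?_⟩
  obtain ⟨j, rfl⟩ := π.surjective i
  rw [← hg, smul_fixed_of_conj rfl, hu, hg]
  simp

theorem H4.fix_all [Finite G] (H : H4 G α)
    (h3 : ∀ (t : G) (a b c : α), a ≠ b → a ≠ c → b ≠ c → t • a = a → t • b = b → t • c = c →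
      t * t = 1 → t = 1)
    (hV : ∀ a b c d e : α, a ≠ b → a ≠ c → a ≠ d → b ≠ c → b ≠ d → c ≠ d → e ≠ a → e ≠ b → e ≠ c →
      e ≠ d → ∃ h : G, h • a = b ∧ h • b = a ∧ h • c = d ∧ h • d = c ∧ h • e = e)
    {a b c d : α} (h1 : a ≠ b) (h2 : a ≠ c) (h3' : a ≠ d) (h4 : b ≠ c) (h5 : b ≠ d) (h6 : c ≠ d)
    {u : G} (u1 : u • a = a) (u2 : u • b = b) (u3 : u • c = c) (u4 : u • d = d) (e : α) :
    u • e = e := by
  classical
  by_cases he : e = a ∨ e = b ∨ e = c ∨ e = d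
  · rcases he with rfl | rfl | rfl | rfl <;> assumption
  push Not at he
  obtain ⟨V, hV2, hVm, hK⟩ := H.exists_four h1 h2 h3' h4 h5 h6
  set U := fixingSubgroup G (({a, b, c, d} : Finset α) : Set α) with hU
  have hUm : ∀ g, g ∈ U ↔ g • a = a ∧ g • b = b ∧ g • c = c ∧ g • d = d := fun g => by
    rw [hU, mem_fixing_iff]; simp
  have aux : ∀ {a b c d : α} {v w : G}, a ≠ b → a ≠ c → a ≠ d → b ≠ c → b ≠ d → c ≠ d → e ≠ a →
      e ≠ b → e ≠ c → e ≠ d → v * v = 1 → v • a = b → v • c = d → w • a = a → w • b = b →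
      w • c = c → w • d = d →
      ∃ r : G, r • a = a ∧ r • b = b ∧ r • c = c ∧ r • d = d ∧ r • e = v • w • e := by
    intro a b c d v w h1 h2 h3 h4 h5 h6 k1 k2 k3 k4 hv v1 v3 w1 w2 w3 w4
    obtain ⟨h, e1, e2, e3, e4, e5⟩ := hV a b c d e h1 h2 h3 h4 h5 h6 k1 k2 k3 k4
    refine ⟨v * w * h, ?_⟩
    simp only [mul_smul, e1, e2, e3, e4, e5, w1, w2, w3, w4, v1, v3, smul_eq_of_invol hv v1,
      smul_eq_of_invol hv v3, and_self]
  have hodd : Odd (Nat.card U) := Inv.odd_card_iff.2 fun t ht h => by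
    obtain ⟨e1, e2, e3, e4⟩ := (hUm t).1 ht
    have := H.odd t a b c d h1 h2 h3' h4 h5 h6 e1 e2 e3 e4
    rw [h] at this
    exact absurd this (by decide)
  have : Fact (Nat.Prime 2) := ⟨Nat.prime_two⟩
  obtain ⟨_, ⟨r, rfl⟩, hy⟩ := exists_fixed_of_not_dvd (s := orbit U e) hV2 (by
    rintro v hv _ ⟨w, rfl⟩
    obtain ⟨w1, w2, w3, w4⟩ := (hUm w).1 w.2
    rcases hVm v hv with rfl | ⟨hv2, h | h | h⟩
    · exact ⟨w, (one_smul _ _).symm⟩
    · obtain ⟨r, r1, r2, r3, r4, r5⟩ := aux h1 h2 h3' h4 h5 h6 he.1 he.2.1 he.2.2.1 he.2.2.2 hv2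
        h.1 h.2 w1 w2 w3 w4
      exact ⟨⟨r, (hUm r).2 ⟨r1, r2, r3, r4⟩⟩, r5⟩
    · obtain ⟨r, r1, r2, r3, r4, r5⟩ := aux h2 h1 h3' h4.symm h6 h5 he.1 he.2.2.1 he.2.1 he.2.2.2
        hv2 h.1 h.2 w1 w3 w2 w4
      exact ⟨⟨r, (hUm r).2 ⟨r1, r3, r2, r4⟩⟩, r5⟩
    · obtain ⟨r, r1, r2, r3, r4, r5⟩ := aux h3' h1 h2 h5.symm h6.symm h4 he.1 he.2.2.2 he.2.1
        he.2.2.1 hv2 h.1 h.2 w1 w4 w2 w3
      exact ⟨⟨r, (hUm r).2 ⟨r1, r3, r4, r2⟩⟩, r5⟩) (by
    rw [card_eq_card_orbit_mul e, Nat.odd_mul, Nat.card_coe_set_eq] at hodd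
    exact fun h => Nat.not_odd_iff_even.2 (even_iff_two_dvd.2 h) hodd.1)
  simp only at hy
  set y : α := r • e with hyd
  have key := hK (stabilizer G y) (by
    intro v hv hv1 w w1 w2 w3 w4 hw
    have ho := H.odd w a b c d h1 h2 h3' h4 h5 h6 w1 w2 w3 w4
    by_contra hc
    have hc' : y ≠ w • y := fun h => hc h.symm
    have f1 : v • w • y = w • y := by rw [smul_fixed_of_conj hw, hy v hv]
    exact hv1 (h3 v y (w • y) (w • w • y) hc' (fun h => hc (smul_eq_of_sq_of_odd ho h.symm))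
      (fun h => hc' (smul_left_cancel w h)) (hy v hv) f1 (by rw [smul_fixed_of_conj hw, f1])
      ((hVm v hv).resolve_left hv1).1))
  obtain ⟨r1, r2, r3, r4⟩ := (hUm r).1 r.2
  have : y = e := smul_left_cancel (r : G) (key r r1 r2 r3 r4)
  rw [← this]
  exact key u u1 u2 u3 u4

/-- A `(k-1)`-transitive, `k`-homogeneous, not `k`-transitive group with `k ≥ 5` has degree at
most `k + 1`. -/
theorem card_le_of_homog [Fintype α] [DecidableEq α] {G : Subgroup (Perm α)} {j : ℕ}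
    (hG : IsMultiplyPretransitive G α (j + 4))
    (hh : IsPretransitive G (Set.powersetCard α (j + 5)))
    (hnt : ¬ IsMultiplyPretransitive G α (j + 5)) : Fintype.card α ≤ j + 6 := by
  classical
  by_contra hn
  obtain ⟨x₀, hx₀, hA₀⟩ := exists_alt_le_ind (by omega) (by omega) hG
  have hA : ∀ x : Fin (j + 5) → α, Injective x → alternatingGroup _ ≤ Ind G x :=
    fun x hx => alt_le_ind_of_homog hh hx₀ hx hA₀
  have h3 : ∀ (t : G) (S : Finset α), j + 3 ≤ S.card → (∀ x ∈ S, t • x = x) → t * t = 1 →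
      t = 1 := by
    intro t S hS ht ht2
    by_contra ht1
    obtain ⟨a, ha⟩ : ∃ a, t • a ≠ a := by
      by_contra hc
      push Not at hc
      exact ht1 (Subtype.ext (Equiv.ext hc))
    obtain ⟨s, hs, hsc⟩ := Finset.exists_subset_card_eq hS
    have has : a ∉ s := fun h => ha (ht a (hs h))
    have hbs : t • a ∉ s := fun h => ha (smul_left_cancel t (ht _ (hs h)))
    obtain ⟨x, hx, hx1, hx2⟩ := exists_enum (insert a (insert (t • a) s)) (k := j + 5) (by
      rw [Finset.card_insert_of_notMem (by simp [has, ha.symm]),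
        Finset.card_insert_of_notMem hbs, hsc])
    obtain ⟨i, hi⟩ := hx2 a (by simp)
    obtain ⟨l, hl⟩ := hx2 (t • a) (by simp)
    have hil : i ≠ l := fun h => ha (by rw [← hl, ← h, hi])
    have hsw : swap i l ∈ Ind G x := ⟨t, fun m => by
      rw [← hx.swap_apply, hi, hl]
      have := hx1 m
      simp only [Finset.mem_insert] at this
      rcases this with h | h | h
      · rw [h, swap_apply_left]
      · rw [h, swap_apply_right, smul_smul_of_invol ht2]
      · rw [ht _ (hs h), swap_apply_of_ne_of_ne (ne_of_mem_of_not_mem h has)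
          (ne_of_mem_of_not_mem h hbs)]⟩
    refine hnt (mt_of_homog_of_ind hh hx (eq_top_iff.2 fun σ _ => ?_))
    rcases Int.units_eq_one_or (Perm.sign σ) with h | h
    · exact hA x hx h
    · have := Subgroup.mul_mem _ (hA x hx (show σ * Equiv.swap i l ∈ alternatingGroup _ by
        simp [h, hil])) hsw
      simpa using this
  have hsh : ∀ (g : G) (S : Finset α), j + 4 ≤ S.card → (∀ x ∈ S, g • x = x) → g = 1 := by
    intro g S hS hg
    obtain ⟨s, hs, rfl, a, b, c, d, h1, h2, h3', h4, h5, h6, ha, hb, hc, hd⟩ :=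
      exists_split (G := G) S hS
    have H := h4_ofFixing s hG fun g S hS => odd_of_no_invol h3 g S (by omega)
    have key := H.fix_all (u := ⟨g, mem_fixing_iff.2 fun x hx => hg x (hs hx)⟩)
      (fun t a b c h1 h2 h3' e1 e2 e3 ht => Subtype.ext (fix_lift
        (P := fun t => t * t = 1 → t = 1) s h3 t {a, b, c}
        (Finset.card_eq_three.2 ⟨a, b, c, h1, h2, h3', rfl⟩).ge (by simp [e1, e2, e3])
        (congrArg Subtype.val ht))) ?_ h1 h2 h3' h4 h5 h6 (Subtype.ext (hg _ ha))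
      (Subtype.ext (hg _ hb)) (Subtype.ext (hg _ hc)) (Subtype.ext (hg _ hd))
    · refine Subtype.ext (Equiv.ext fun e => ?_)
      by_cases he : e ∈ s
      · exact hg e (hs he)
      · exact congrArg Subtype.val (key ⟨e, he⟩)
    rintro ⟨a, ha⟩ ⟨b, hb⟩ ⟨c, hc⟩ ⟨d, hd⟩ ⟨e, he⟩ h1 h2 h3 h4 h5 h6 k1 k2 k3 k4
    replace ha : a ∉ s := ha
    replace hb : b ∉ s := hb
    replace hc : c ∉ s := hc
    replace hd : d ∉ s := hd
    replace he : e ∉ s := he
    simp only [ne_eq, Subtype.mk.injEq] at h1 h2 h3 h4 h5 h6 k1 k2 k3 k4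
    obtain ⟨x, hx, -, hx2⟩ := exists_enum (s ∪ {e, a, b, c, d}) (k := s.card + 5) (by
      rw [Finset.card_union_of_disjoint (by simp [ha, hb, hc, hd, he]),
        Finset.card_insert_of_notMem (by simp [k1, k2, k3, k4]),
        Finset.card_eq_four.2 ⟨a, b, c, d, h1, h2, h3, h4, h5, h6, rfl⟩])
    obtain ⟨ia, rfl⟩ := hx2 a (by simp)
    obtain ⟨ib, rfl⟩ := hx2 b (by simp)
    obtain ⟨ic, rfl⟩ := hx2 c (by simp)
    obtain ⟨id, rfl⟩ := hx2 d (by simp)
    obtain ⟨h, hh⟩ := hA x hx (show Equiv.swap ia ib * Equiv.swap ic id ∈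
        alternatingGroup _ by
      simp [hx.ne_iff.1 h1, hx.ne_iff.1 h6])
    have hh' : ∀ y ∈ s ∪ {e, x ia, x ib, x ic, x id},
        h • y = swap (x ia) (x ib) (swap (x ic) (x id) y) := fun y hy => by
      obtain ⟨i, rfl⟩ := hx2 y hy
      rw [hh, hx.swap_apply, hx.swap_apply, Perm.mul_apply]
    refine ⟨⟨h, mem_fixing_iff.2 fun y hy => ?_⟩, Subtype.ext ?_, Subtype.ext ?_, Subtype.ext ?_,
      Subtype.ext ?_, Subtype.ext ?_⟩
    · rw [hh' y (by simp [hy]), swap_apply_of_ne_of_ne (ne_of_mem_of_not_mem hy hc)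
        (ne_of_mem_of_not_mem hy hd), swap_apply_of_ne_of_ne (ne_of_mem_of_not_mem hy ha)
        (ne_of_mem_of_not_mem hy hb)]
    · exact (hh' _ (by simp)).trans (by rw [swap_apply_of_ne_of_ne h2 h3, swap_apply_left])
    · exact (hh' _ (by simp)).trans (by rw [swap_apply_of_ne_of_ne h4 h5, swap_apply_right])
    · exact (hh' _ (by simp)).trans (by
        rw [swap_apply_left, swap_apply_of_ne_of_ne (Ne.symm h3) (Ne.symm h5)])
    · exact (hh' _ (by simp)).trans (by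
        rw [swap_apply_right, swap_apply_of_ne_of_ne (Ne.symm h2) (Ne.symm h4)])
    · exact (hh' _ (by simp)).trans (by
        rw [swap_apply_of_ne_of_ne k3 k4, swap_apply_of_ne_of_ne k1 k2])
  obtain ⟨Γ, hΓ⟩ := exists_finset_card (α := α) (k := j + 4)
    (by rw [Nat.card_eq_fintype_card]; omega)
  obtain ⟨y, hy, hy1, hy2⟩ := exists_enum Γ hΓ
  obtain ⟨a, b, c, ha, hb, hc, h1, h2, h3⟩ := Finset.two_lt_card_iff.1
    (show 2 < Γᶜ.card by rw [Finset.card_compl]; omega)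
  rw [Finset.mem_compl] at ha hb hc
  have inj : ∀ a, a ∉ Γ → Injective (Fin.cons a y : Fin (j + 5) → α) := fun a ha =>
    Fin.cons_injective_iff.2 ⟨fun ⟨i, hi⟩ => ha (hi ▸ hy1 i), hy⟩
  have key : ∀ a b, b ∉ Γ → a ≠ b → ∀ (g : G) (π : Perm (Fin (j + 5))),
      (∀ i, g • (Fin.cons a y : Fin (j + 5) → α) i = (Fin.cons b y : Fin (j + 5) → α) (π i)) →
      Perm.sign π = -1 := by
    intro a b hb hab g π hg
    refine (Int.units_eq_one_or _).resolve_left fun h => hab ?_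
    obtain ⟨u, hu⟩ := hA _ (inj b hb) (Subgroup.inv_mem _ (Perm.mem_alternatingGroup.2 h))
    have e : ∀ i, (u * g) • (Fin.cons a y : Fin (j + 5) → α) i =
        (Fin.cons b y : Fin (j + 5) → α) i := fun i => by rw [mul_smul, hg, hu]; simp
    have := hsh (u * g) Γ hΓ.ge fun z hz => by
      obtain ⟨i, rfl⟩ := hy2 z hz
      simpa using e i.succ
    simpa [this] using e 0
  obtain ⟨g, π, hg⟩ := exists_perm_of_homog hh (inj a ha) (inj b hb)
  obtain ⟨g', π', hg'⟩ := exists_perm_of_homog hh (inj b hb) (inj c hc)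
  have := key a c hc h2 (g' * g) (π' * π) fun i => by rw [mul_smul, hg, hg', Perm.mul_apply]
  rw [map_mul, key a b hb h1 g π hg, key b c hc h3 g' π' hg'] at this
  exact absurd this (by decide)

end Cfsg.Lib.Perm
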