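import Cfsg.Agent.Lib.Perm.ShawBilin
import Cfsg.Agent.Lib.Perm.Higman2

/-!
# Shaw's extension of Higman's theorem, I: invariant abelian subgroups
-/

set_option autoImplicit false

namespace Cfsg.Lib.Perm.Shaw

open Subgroup
open Cfsg.Lib.BG
open scoped Cfsg.Lib.Transfer commutatorElement

variable {X : Type*} [Group X] {P T K A B C D : Subgroup X} {x y u v a b k k₀ : X} {n r : ℕ}
variable {F : Type*} [Field F] {f ψ : X → F}

/-- A non-trivial 2-group `P` with a group `T` acting transitively on its involutions. -/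
structure Tr (P T : Subgroup X) : Prop where
  pg : IsPGroup 2 P
  norm : T ≤ 𝐍(P)
  trans : ∀ x ∈ P, x ≠ 1 → x ^ 2 = 1 → ∀ y ∈ P, y ≠ 1 → y ^ 2 = 1 → ∃ k ∈ T, k * x * k⁻¹ = y
  ne_bot : P ≠ ⊥

namespace Tr

variable [Finite X] (h : Tr P T)
include h

theorem mem_of_sq (hB : B ≤ P) (hKB : T ≤ 𝐍(B)) (h1 : B ≠ ⊥) (hx : x ∈ P) (h2 : x ^ 2 = 1) :
    x ∈ B := by
  obtain ⟨b, hb, hb1⟩ := exists_ne_one h1
  obtain ⟨y, hy, hy1, hy2⟩ := exists_sq_mem (A := ⊥) h.pg (hB hb) hb1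
  have hyB := zpowers_le.2 hb hy
  by_cases hx1 : x = 1
  · exact hx1 ▸ B.one_mem
  obtain ⟨k, hk, rfl⟩ := h.trans y (hB hyB) hy1 hy2 x hx hx1 h2
  exact conj_mem_of_norm (hKB hk) hyB

theorem mem_om (hx : x ∈ P) (h2 : x ^ 2 = 1) : x ∈ om P :=
  have : Fact (Nat.Prime 2) := ⟨Nat.prime_two⟩
  ⟨hx, h2, fun y hy => (mem_cent.1 (h.mem_of_sq inf_le_left (norm_center h.norm)
    (center_ne_bot_of_nil (pgroup_nil h.pg) h.ne_bot) hx h2).2 y hy).symm⟩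

theorem om_le_of (hB : B ≤ P) (hKB : T ≤ 𝐍(B)) (h1 : B ≠ ⊥) : om P ≤ B :=
  fun _ hx => h.mem_of_sq hB hKB h1 hx.1 hx.2.1

/-- Invariant subgroups of an invariant abelian subgroup form a chain. -/
theorem mem_of_pow (hA : IsMulCommutative A) (hAP : A ≤ P) (j : ℕ) : ∀ B ≤ A, T ≤ 𝐍(B) →
    ∀ b ∈ B, b ^ 2 ^ j ≠ 1 → ∀ a ∈ A, a ^ 2 ^ (j + 1) = 1 → a ∈ B := by
  induction j with
  | zero =>
    exact fun B hB hK b hb h1 a ha h2 => h.mem_of_sq (hB.trans hAP) hK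
      (ne_bot_of_mem hb (by simpa using h1)) (hAP ha) (by simpa using h2)
  | succ j ih =>
    intro B hB hK b hb h1 a ha h2
    obtain ⟨c, hc, e⟩ := (mem_pw (abelian_of_le hA hB)).1 (ih (pw B 2) ((pw_le B 2).trans hB)
      (norm_pw hK 2) _ (pow_mem_pw hb 2) (by rwa [← pow_mul, ← pow_succ']) _ (A.pow_mem ha 2)
      (by rwa [← pow_mul, ← pow_succ']))
    have := h.mem_of_sq (hB.trans hAP) hK (ne_bot_of_mem hb fun e => h1 (by simp [e]))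
      (hAP (A.mul_mem ha (A.inv_mem (hB hc))))
      (by rw [(commute_of_ab hA ha (A.inv_mem (hB hc))).mul_pow, inv_pow, e, mul_inv_cancel])
    simpa using B.mul_mem this hc

theorem surj (hc : FieldCoord (om P) K f ψ) (hD : T ≤ 𝐍(D)) (hx : x ∈ D) (h1 : x ^ n ∈ om P)
    (h0 : x ^ n ≠ 1) (t : F) : ∃ d ∈ D, f (d ^ n) = t := by
  obtain ⟨z, hz, rfl⟩ := hc.surj t
  by_cases hz1 : z = 1
  · exact ⟨1, D.one_mem, by simp [hz1]⟩
  obtain ⟨k, hk, rfl⟩ := h.trans _ h1.1 h0 h1.2.1 z hz.1 hz1 hz.2.1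
  exact ⟨_, conj_mem_of_norm (hD hk) hx, by rw [conj_pow]⟩

/-- An element acting as a non-trivial scalar is fixed-point-free on all sections. -/
theorem fpf (hc : FieldCoord (om P) K f ψ) (hAP : A ≤ P) (hk : k ∈ K) (hkA : k ∈ 𝐍(A))
    (h1 : ψ k ≠ 1) (hu : u ∈ P) (e : k * u * k⁻¹ * u⁻¹ ∈ A) : u ∈ A := by
  have h2 : ∀ w ∈ P, k * w * k⁻¹ = w → w = 1 := fun w hw e => by
    by_contra h0
    obtain ⟨y, ⟨i, rfl⟩, h3, h4⟩ := exists_sq_mem (A := ⊥) h.pg hw h0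
    exact h1 (hc.psi_eq_one_of_fix hk (h.mem_om (P.zpow_mem hw i) h4) h3 (by
      rw [← conj_zpow, e]))
  let φ : A → A := fun a => ⟨a⁻¹ * (k * a * k⁻¹), A.mul_mem (A.inv_mem a.2)
    (conj_mem_of_norm hkA a.2)⟩
  obtain ⟨a, ha⟩ := Finite.surjective_of_injective (f := φ) (fun a b e => by
    have e' : (a : X)⁻¹ * (k * a * k⁻¹) = (b : X)⁻¹ * (k * b * k⁻¹) := congrArg Subtype.val e
    refine Subtype.ext (mul_inv_eq_one.1 (h2 _ (hAP (A.mul_mem a.2 (A.inv_mem b.2))) ?_))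
    calc k * (a * (b : X)⁻¹) * k⁻¹ = a * ((a : X)⁻¹ * (k * a * k⁻¹)) * (k * b * k⁻¹)⁻¹ := by group
      _ = _ := by rw [e']; group) ⟨_, A.inv_mem e⟩
  have ha' : (a : X)⁻¹ * (k * a * k⁻¹) = (k * u * k⁻¹ * u⁻¹)⁻¹ := congrArg Subtype.val ha
  have := h2 _ (P.mul_mem (hAP a.2) hu) (by
    calc k * (a * u) * k⁻¹ = a * ((a : X)⁻¹ * (k * a * k⁻¹)) * (k * u * k⁻¹) := by group
      _ = _ := by rw [ha']; group)
  rw [eq_inv_of_mul_eq_one_right this]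
  exact A.inv_mem a.2

end Tr

/-- `A` is an invariant normal abelian subgroup of exponent `2 ^ (r + 2)`. -/
structure Hm (P T A : Subgroup X) (r : ℕ) : Prop where
  suz : Tr P T
  ab : IsMulCommutative A
  le : A ≤ P
  norm : T ≤ 𝐍(A)
  nml : P ≤ 𝐍(A)
  exp : ∀ a ∈ A, a ^ 2 ^ (r + 2) = 1
  ex : ∃ a ∈ A, a ^ 2 ^ (r + 1) ≠ 1

namespace Hm

variable [Finite X] (h : Hm P T A r)
include h

theorem mem_pw_of {i j : ℕ} (hij : i + j = r + 2) (ha : a ∈ A) (h1 : a ^ 2 ^ j = 1) :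
    ∃ b ∈ A, b ^ 2 ^ i = a := by
  obtain ⟨b, hb, h2⟩ := h.ex
  cases j with
  | zero => exact ⟨1, A.one_mem, by simpa using h1.symm⟩
  | succ j =>
    exact (mem_pw h.ab).1 (h.suz.mem_of_pow h.ab h.le j _ (pw_le A _) (norm_pw h.norm _) _
      (pow_mem_pw hb _) (by rwa [← pow_mul, ← pow_add, show i + j = r + 1 by omega]) a ha h1)

theorem le_of_mem (hB : B ≤ A) (hK : T ≤ 𝐍(B)) (hb : b ∈ B) (h1 : b ^ 2 ^ (r + 1) ≠ 1) : A ≤ B :=
  fun a ha => h.suz.mem_of_pow h.ab h.le _ B hB hK b hb h1 a ha (h.exp a ha)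

theorem om_le : om P ≤ A := by
  obtain ⟨b, hb, h2⟩ := h.ex
  exact h.suz.om_le_of h.le h.norm (ne_bot_of_mem hb fun e => h2 (by simp [e]))

theorem comm_mem (hu : u ∈ P) (ha : a ∈ A) : ⁅u, a⁆ ∈ A :=
  A.mul_mem (conj_mem_of_norm (h.nml hu) ha) (A.inv_mem ha)

/-- `[P, A] ≤ A²`. -/
theorem comm_exp (hu : u ∈ P) (ha : a ∈ A) : ⁅u, a⁆ ^ 2 ^ (r + 1) = 1 := by
  by_contra h1
  have : Fact (Nat.Prime 2) := ⟨Nat.prime_two⟩
  have := pgroup_nil h.suz.pg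
  obtain ⟨b, hb, h2⟩ := h.ex
  have h3 := PGroup.commutator_lt_of_nilpotent h.le h.nml
    (ne_bot_of_mem hb fun e => h2 (by simp [e]))
  refine h3.not_ge (h.le_of_mem h3.le (norm_comm h.norm h.suz.norm) ?_ h1)
  rw [commutator_comm]
  exact commutator_mem_commutator hu ha

/-- Higman's Lemma 2. -/
theorem mem_of_sq (hu : u ∈ P) (h1 : ∃ a ∈ A, a ^ 2 = u ^ 2)
    (h2 : ∀ a ∈ A, ∃ b ∈ A, b ^ 4 = ⁅u, a⁆) : u ∈ A := by
  have key : ∀ i : ℕ, ∃ c ∈ A, ∃ a ∈ A, a ^ 2 ^ (i + 1) = (c * u) ^ 2 := fun i => by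
    induction i with
    | zero => exact ⟨1, A.one_mem, by simpa using h1⟩
    | succ i ih =>
      obtain ⟨c, hc, a, ha, e⟩ := ih
      obtain ⟨d, hd, e'⟩ := h2 _ (A.inv_mem ha)
      have hb := A.pow_mem (A.inv_mem ha) (2 ^ i)
      refine ⟨a⁻¹ ^ 2 ^ i * c, A.mul_mem hb hc, d, hd, ?_⟩
      rw [show 2 ^ (i + 1 + 1) = 4 * 2 ^ i by ring, pow_mul, e',
        ← comm_pow_right h.ab (h.nml hu) (A.inv_mem ha)]
      rw [pow_succ, pow_mul, ← inv_inv a, inv_pow] at e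
      generalize a⁻¹ ^ 2 ^ i = b at hb e
      have h3 := conj_mem_of_norm (h.nml hu) hb
      calc ⁅u, b⁆ = b * (u * b * u⁻¹) * b⁻¹ ^ 2 := by
            rw [(commute_of_ab h.ab hb h3).eq, sq]; group
        _ = b * (c * (u * b * u⁻¹) * c⁻¹) * (c * u) ^ 2 := by
            rw [(commute_of_ab h.ab hc h3).eq, e]; group
        _ = _ := by simp only [sq]; group
  obtain ⟨c, hc, a, ha, e⟩ := key (r + 1)
  rw [h.exp a ha] at e
  simpa using A.mul_mem (A.inv_mem hc) (h.om_le (h.suz.mem_om (P.mul_mem (h.le hc) hu) e.symm))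

theorem pow_mem_om (hx : x ∈ P) (h1 : x ^ 2 ^ (n + 1) = 1) : x ^ 2 ^ n ∈ om P :=
  h.suz.mem_om (P.pow_mem hx _) (by rwa [← pow_mul, ← pow_succ])

theorem exists_comm_ne [Finite F] [CharP F 2] (hc : FieldCoord (om P) K f ψ) (hKT : K ≤ T)
    (hk₀ : k₀ ∈ K) (hω : Big (ψ k₀)) (hC : Cover P T A C) (hna : ¬ IsMulCommutative C) :
    ∃ u ∈ C, ∃ a ∈ A, ⁅u, a⁆ ^ 2 ^ r ≠ 1 := by
  classical
  by_contra! h0
  have hu : ∀ u ∈ C, u ^ 2 ^ (r + 2) = 1 → u ∈ A := fun u hu e => h.mem_of_sq (hC.le hu)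
    (h.mem_pw_of (i := 1) (add_comm _ _) (hC.sq u hu) (by rwa [← pow_mul, ← pow_succ']))
    fun a ha => h.mem_pw_of (i := 2) (add_comm _ _) (h.comm_mem (hC.le hu) ha) (h0 u hu a ha)
  have hA : ∀ u ∈ C, ∀ v ∈ C, ⁅u, v⁆ ∈ A := fun u hu v hv => hC.comm u hu v (hC.le hv)
  have hcomm : ∀ u ∈ C, ∀ v ∈ C, ⁅u, v⁆ ^ 2 ^ (r + 1) = 1 := fun u hu v hv => by
    have := congrArg (· ^ 2 ^ r) (comm_sq_left u v)
    rwa [← commutatorElement_inv, inv_pow, h0 v hv _ (hC.sq u hu), (commute_of_ab h.ab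
      (h.comm_mem (hC.le hu) (hA u hu v hv)) (A.pow_mem (hA u hu v hv) 2)).mul_pow,
      h0 u hu _ (hA u hu v hv), one_mul, inv_one, ← pow_mul, ← pow_succ', eq_comm] at this
  have hex : ∃ m, ∀ u ∈ C, ∀ v ∈ C, ⁅u, v⁆ ^ 2 ^ m = 1 := ⟨_, hcomm⟩
  obtain ⟨m, hm⟩ := Nat.exists_eq_succ_of_ne_zero (show Nat.find hex ≠ 0 from fun e => hna <|
    abelian_iff.2 (le_cent_iff.2 fun u hu v hv => commutatorElement_eq_one_iff_mul_comm.1 (by
      simpa [e] using Nat.find_spec hex u hu v hv)))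
  have hm1 := Nat.find_spec hex
  have hm0 := Nat.find_min hex (show m < Nat.find hex by omega)
  rw [hm] at hm1
  have hom : ∀ u ∈ C, ∀ v ∈ C, ⁅u, v⁆ ^ 2 ^ m ∈ om P := fun u hu v hv =>
    h.pow_mem_om (h.le (hA u hu v hv)) (hm1 u hu v hv)
  have hπ : ∀ u ∈ C, u ^ 2 ^ (r + 2) ∈ om P := fun u hu => h.pow_mem_om (hC.le hu) (by
    rw [pow_succ', pow_mul]; exact h.exp _ (hC.sq u hu))
  obtain ⟨u₀, hu₀, hu₀A⟩ := SetLike.exists_of_lt hC.lt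
  have hr : ∀ d ∈ C, ∀ u ∈ C, ∀ v ∈ C, ⁅d, u * v⁆ ^ 2 ^ m = ⁅d, u⁆ ^ 2 ^ m * ⁅d, v⁆ ^ 2 ^ m :=
    fun d hd u hu v hv => comm_pow_mul_right h.ab h.nml (hC.le hu) (hA d hd u hu) (hA d hd v hv)
      (hom d hd v hv)
  have hB : ∀ d ∈ C, ∀ a ∈ A, ⁅d, a⁆ ^ 2 ^ m = 1 := fun d hd a ha => by
    have := h.le_of_mem (pw_le_iff.2 hC.sq) (norm_pw hC.norm 2) (pow_mem_pw hu₀ 2)
      (by rw [← pow_mul, ← pow_succ']; exact mt (hu u₀ hu₀) hu₀A) ha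
    clear ha
    induction this using closure_induction with
    | mem x hx =>
      obtain ⟨w, hw, rfl⟩ := hx
      simp only
      rw [sq, hr d hd w hw w hw, ← sq, om_sq (hom d hd w hw)]
    | one => simp
    | mul x y hx hy e e' => rw [hr d hd x (pw_le C 2 hx) y (pw_le C 2 hy), e, e', one_mul]
    | inv x hx e =>
      have := hr d hd x (pw_le C 2 hx) _ (C.inv_mem (pw_le C 2 hx))
      rw [e] at this
      simpa using this.symm
  refine hm0 fun u hu' v hv => (hc.eq_zero_iff (hom u hu' v hv)).1 ?_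
  exact alt_eq_zero (π := fun v => f (v ^ 2 ^ (r + 2))) (B := fun u v => f (⁅u, v⁆ ^ 2 ^ m)) hω
    (hC.norm (hKT hk₀))
    (fun u hu v hv => by
      have h3 := hA _ (C.inv_mem hu) v hv
      rw [← hc.add _ (hπ u hu) _ (hπ v hv), pow_succ' 2 (r + 1), pow_mul, pow_mul, pow_mul,
        mul_sq_eq, (commute_of_ab h.ab (A.mul_mem (hC.sq u hu) h3) (hC.sq v hv)).mul_pow,
        (commute_of_ab h.ab (hC.sq u hu) h3).mul_pow, hcomm _ (C.inv_mem hu) v hv, mul_one])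
    (h.suz.surj hc hC.norm hu₀ (hπ u₀ hu₀) (mt (hu u₀ hu₀) hu₀A))
    (fun d hd => by rw [conj_pow, hc.conj _ hk₀ _ (hπ d hd)])
    (fun u hu v hv d hd => by
      rw [comm_pow_mul_left h.ab h.nml (hC.le hu) (hA u hu d hd) (hA v hv d hd) (hom v hv d hd),
        hc.add _ (hom u hu d hd) _ (hom v hv d hd)])
    (fun u hu d hd d' hd' => by
      rw [hr u hu d hd d' hd', hc.add _ (hom u hu d hd) _ (hom u hu d' hd')])
    (fun u hu' d hd e => by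
      rw [hB u hu' d (hu d hd ((hc.eq_zero_iff (hπ d hd)).1 e)), hc.map_one])
    (fun a ha d hd e => by
      rw [← commutatorElement_inv, inv_pow, hB d hd a (hu a ha ((hc.eq_zero_iff (hπ a ha)).1 e)),
        inv_one, hc.map_one])
    (fun u hu d hd => by rw [conj_comm_pow, hc.conj _ hk₀ _ (hom u hu d hd)])
    (fun u _ => by rw [commutatorElement_self, one_pow, hc.map_one]) u hu' v hv

/-- For a maximal invariant abelian `A`, only `A` acts trivially on `A/A⁴`. -/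
theorem faith [Finite F] [CharP F 2] (hc : FieldCoord (om P) K f ψ) (hKT : K ≤ T)
    (hk₀ : k₀ ∈ K) (hω : Big (ψ k₀)) (hmax : ∀ C, Cover P T A C → ¬ IsMulCommutative C)
    (hu : u ∈ P) (h1 : ∀ a ∈ A, ⁅u, a⁆ ^ 2 ^ r = 1) : u ∈ A := by
  let D : Subgroup X :=
    { carrier := {u | u ∈ P ∧ ∀ a ∈ A, ⁅u, a⁆ ^ 2 ^ r = 1}
      one_mem' := ⟨P.one_mem, by simp⟩
      mul_mem' := fun {u v} hu hv => ⟨P.mul_mem hu.1 hv.1, fun a ha => by
        rw [comm_pow_mul_left h.ab h.nml hu.1 (h.comm_mem hu.1 ha) (h.comm_mem hv.1 ha)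
          (by rw [hv.2 a ha]; exact one_mem _), hu.2 a ha, hv.2 a ha, one_mul]⟩
      inv_mem' := fun {u} hu => ⟨P.inv_mem hu.1, fun a ha => by
        rw [show ⁅u⁻¹, a⁆ = u⁻¹ * ⁅u, a⁆⁻¹ * u⁻¹⁻¹ by group, conj_pow, inv_pow, hu.2 a ha]; simp⟩ }
  have hn : ∀ H : Subgroup X, H ≤ 𝐍(P) → H ≤ 𝐍(A) → H ≤ 𝐍(D) := fun H h1 h2 =>
    le_norm_iff.2 fun k hk z hz => ⟨conj_mem_of_norm (h1 hk) hz.1, fun y hy => by
      have := conj_comm_pow k z (k⁻¹ * y * k) (2 ^ r)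
      rw [hz.2 _ (conj_mem_of_norm' (h2 hk) hy)] at this
      simpa [mul_assoc] using this⟩
  by_contra hn'
  obtain ⟨C, hle, hC⟩ := exists_cover h.suz.pg h.suz.norm h.nml h.norm (N := D)
    (lt_of_le_of_ne (fun a ha => ⟨h.le ha, fun b hb => by
      rw [(commute_of_ab h.ab ha hb).commutator_eq, one_pow]⟩) fun e => hn' (e.ge ⟨hu, h1⟩))
    (fun _ e => e.1) (hn P (le_norm P) h.nml) (hn T h.suz.norm h.norm)
  obtain ⟨w, hw, a, ha, e⟩ := h.exists_comm_ne hc hKT hk₀ hω hC (hmax C hC)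
  exact e ((hle hw).2 a ha)

end Hm

end Cfsg.Lib.Perm.Shaw
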