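import Cfsg.Agent.Lib.Perm.HigmanField

/-!
# Elements of large order in a finite field of characteristic two (for Shaw's theorem)
-/

set_option autoImplicit false

namespace Cfsg.Lib.Perm.Shaw

theorem two_pow_add_inj {a b c d : ℕ} (h : 2 ^ a + 2 ^ b = 2 ^ c + 2 ^ d) :
    (a = c ∧ b = d) ∨ (a = d ∧ b = c) := by
  have key : ∀ a b c d : ℕ, a ≤ b → c ≤ d → 2 ^ a + 2 ^ b = 2 ^ c + 2 ^ d → ¬ b < d := by
    intro a b c d h1 h2 h h3
    have e1 : 2 ^ a ≤ 2 ^ b := Nat.pow_le_pow_right two_pos h1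
    have e2 : 2 ^ (b + 1) ≤ 2 ^ d := Nat.pow_le_pow_right two_pos h3
    have e3 : 0 < 2 ^ c := by positivity
    rw [pow_succ] at e2
    omega
  have key2 : ∀ a b c d : ℕ, a ≤ b → c ≤ d → 2 ^ a + 2 ^ b = 2 ^ c + 2 ^ d → a = c ∧ b = d := by
    intro a b c d h1 h2 h
    obtain rfl : b = d := le_antisymm (not_lt.1 (key c d a b h2 h1 h.symm))
      (not_lt.1 (key a b c d h1 h2 h))
    exact ⟨Nat.pow_right_injective le_rfl (Nat.add_right_cancel h), rfl⟩
  rcases le_total a b with h1 | h1 <;> rcases le_total c d with h2 | h2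
  · exact Or.inl (key2 _ _ _ _ h1 h2 h)
  · exact Or.inr (key2 _ _ _ _ h1 h2 (by omega))
  · exact Or.inr (key2 _ _ _ _ h1 h2 (by omega)).symm
  · exact Or.inl (key2 _ _ _ _ h1 h2 (by omega)).symm

/-- rotation of `x` by `-c` on the cycle of length `n` -/
def rot (n c x : ℕ) : ℕ := if c ≤ x then x - c else x + n - c

theorem rot_modEq {n m c x : ℕ} (hc : c < n) (h : 2 ^ n ≡ 1 [MOD m]) :
    2 ^ (n - c) * 2 ^ x ≡ 2 ^ rot n c x [MOD m] := by
  unfold rot
  split_ifs with h1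
  · rw [← pow_add, show n - c + x = n + (x - c) by omega, pow_add]
    simpa using h.mul_right (2 ^ (x - c))
  · rw [← pow_add, show n - c + x = x + n - c by omega]

theorem exists_gap {n a b c d : ℕ} (ha : a < n) (hb : b < n) (hc : c < n) (hd : d < n) :
    ∃ t < n, 4 * rot n t a ≤ 3 * n ∧ 4 * rot n t b ≤ 3 * n ∧ 4 * rot n t c ≤ 3 * n ∧
      4 * rot n t d ≤ 3 * n := by
  have key : ∀ p q r s, p ≤ q → q ≤ r → r ≤ s → s < n → ∃ t < n, ∀ x,
      (x = p ∨ x = q ∨ x = r ∨ x = s) → 4 * rot n t x ≤ 3 * n := by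
    intro p q r s h1 h2 h3 h4
    unfold rot
    by_cases e1 : n ≤ 4 * (q - p)
    · exact ⟨q, by omega, fun x hx => by split_ifs <;> omega⟩
    by_cases e2 : n ≤ 4 * (r - q)
    · exact ⟨r, by omega, fun x hx => by split_ifs <;> omega⟩
    by_cases e3 : n ≤ 4 * (s - r)
    · exact ⟨s, by omega, fun x hx => by split_ifs <;> omega⟩
    exact ⟨p, by omega, fun x hx => by split_ifs <;> omega⟩
  obtain ⟨t, ht, h⟩ := key (min (min a b) (min c d))
    (min (max (min a b) (min c d)) (min (max a b) (max c d)))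
    (max (max (min a b) (min c d)) (min (max a b) (max c d))) (max (max a b) (max c d))
    (by omega) (by omega) (by omega) (by omega)
  exact ⟨t, ht, h a (by omega), h b (by omega), h c (by omega), h d (by omega)⟩

theorem gap_inj {n m a b c d : ℕ} (hn : 21 ≤ n) (h1 : 2 ^ n ≡ 1 [MOD m]) (h2 : 2 ^ n ≤ m * n + 1)
    (ha : a < n) (hb : b < n) (hc : c < n) (hd : d < n)
    (h : 2 ^ a + 2 ^ b ≡ 2 ^ c + 2 ^ d [MOD m]) : (a = c ∧ b = d) ∨ (a = d ∧ b = c) := by
  obtain ⟨t, ht, e1, e2, e3, e4⟩ := exists_gap ha hb hc hd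
  have h3 := h.mul_left (2 ^ (n - t))
  rw [mul_add, mul_add] at h3
  have h4 := (((rot_modEq ht h1).add (rot_modEq ht h1)).symm.trans h3).trans
    ((rot_modEq ht h1).add (rot_modEq ht h1))
  obtain ⟨D, hD⟩ : ∃ D, D = 3 * n / 4 := ⟨_, rfl⟩
  have hg : ∀ g, 6 ≤ g → 8 * g + 2 ≤ 2 ^ g := fun g hg => by
    induction g, hg using Nat.le_induction with
    | base => norm_num
    | succ g hg ih => rw [pow_succ]; omega
  have h5 : 2 * 2 ^ D < m := by
    have h6 := hg (n - D) (by omega)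
    have h7 : 2 ^ n = 2 ^ (n - D) * 2 ^ D := by rw [← pow_add]; congr 1; omega
    have h8 : 0 < 2 ^ D := by positivity
    have h9 : (2 * n + 2) * 2 ^ D ≤ 2 ^ (n - D) * 2 ^ D := Nat.mul_le_mul_right _ (by omega)
    by_contra! h10
    have := Nat.mul_le_mul_right n h10
    nlinarith
  have h6 : ∀ x, 4 * x ≤ 3 * n → 2 ^ x ≤ 2 ^ D := fun x hx =>
    Nat.pow_le_pow_right two_pos (by omega)
  have h7 := two_pow_add_inj (h4.eq_of_lt_of_lt
    (by have := h6 _ e1; have := h6 _ e2; omega) (by have := h6 _ e3; have := h6 _ e4; omega))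
  unfold rot at h7
  split_ifs at h7 <;> omega

set_option synthInstance.maxSize 2000 in
set_option synthInstance.maxHeartbeats 200000 in
theorem small_inj : ∀ n < 21, ∀ e < n + 1, n % e = 0 → (2 ^ n - 1) % e = 0 → ∀ i < n, ∀ j < n,
    i ≠ j → (2 ^ i + 2 ^ j) % ((2 ^ n - 1) / e) ≠ 1 % ((2 ^ n - 1) / e) ∧ ∀ a < n,
      (2 ^ a + 2 ^ j) % ((2 ^ n - 1) / e) ≠ (1 + 2 ^ (a + i)) % ((2 ^ n - 1) / e) := by
  decide +kernel

theorem arith_inj {n m e i j : ℕ} (he : e ∣ n) (hm : m * e + 1 = 2 ^ n) (hi : i < n) (hj : j < n) :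
    (2 ^ i + 2 ^ j ≡ 1 [MOD m] → i = j) ∧
      ∀ a < n, 2 ^ a + 2 ^ j ≡ 1 + 2 ^ (a + i) [MOD m] → i = j := by
  have hen : e ≤ n := Nat.le_of_dvd (by omega) he
  have he0 : 0 < e := Nat.pos_of_dvd_of_pos he (by omega)
  rcases lt_or_ge n 21 with hn | hn
  · have h1 : 2 ^ n - 1 = m * e := by omega
    have := small_inj n hn e (by omega) (Nat.mod_eq_zero_of_dvd he) (by simp [h1]) i hi j hj
    rw [h1, Nat.mul_div_cancel _ he0] at this
    exact ⟨fun h => by_contra fun hij => (this hij).1 h,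
      fun a ha h => by_contra fun hij => (this hij).2 a ha h⟩
  have h1 : 2 ^ n ≡ 1 [MOD m] := by
    rw [← hm]
    simpa using (Nat.modEq_zero_iff_dvd.2 (dvd_mul_right m e)).add_right 1
  have h2 : 2 ^ n ≤ m * n + 1 := by
    have := Nat.mul_le_mul_left m hen
    omega
  refine ⟨fun h => ?_, fun a ha h => ?_⟩
  · have := gap_inj (c := n - 1) (d := n - 1) hn h1 h2 hi hj (by omega) (by omega) (h.trans (by
      rw [← two_mul, ← pow_succ', show n - 1 + 1 = n by omega]; exact h1.symm))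
    omega
  · have h3 : 2 ^ (a + i) ≡ 2 ^ ((a + i) % n) [MOD m] := by
      conv_lhs => rw [← Nat.div_add_mod (a + i) n, pow_add, pow_mul]
      simpa using (h1.pow ((a + i) / n)).mul_right (2 ^ ((a + i) % n))
    rcases gap_inj (c := 0) hn h1 h2 ha hj (by omega) (Nat.mod_lt (a + i) (by omega))
      (h.trans (h3.add_left 1)) with ⟨rfl, h4⟩ | ⟨h4, rfl⟩
    · rw [h4, zero_add, Nat.mod_eq_of_lt hi]
    · rcases lt_or_ge (a + i) n with h5 | h5
      · rw [Nat.mod_eq_of_lt h5] at h4; omega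
      · rw [Nat.mod_eq_sub_mod h5, Nat.mod_eq_of_lt (by omega)] at h4; omega

variable {F : Type*} [Field F]

/-- `ω` generates a subgroup of `Fˣ` whose index divides the degree of `F`. -/
def Big (ω : F) : Prop := ∃ e, e ∣ Nat.card (F ≃+* F) ∧ orderOf ω * e + 1 = Nat.card F

theorem Big.of_orderOf {ω μ : F} (h : Big ω) (e : orderOf μ = orderOf ω) : Big μ := by
  unfold Big; rwa [e]

variable [Finite F] [CharP F 2] {ω : F}

theorem exists_aut_pow {n : ℕ} (hn : Nat.card F = 2 ^ n) (σ : F ≃+* F) :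
    ∃ i < n, ∀ x, σ x = x ^ 2 ^ i := by
  have := Fintype.ofFinite F
  obtain ⟨k, hk⟩ := Linear.exists_ringAut_eq_pow 2 σ
  have hn0 : n ≠ 0 := by
    rintro rfl
    exact (Finite.one_lt_card (α := F)).ne' hn
  refine ⟨k % n, Nat.mod_lt _ (Nat.pos_of_ne_zero hn0), fun x => ?_⟩
  rw [hk]
  conv_lhs => rw [← Nat.div_add_mod k n, pow_add, pow_mul, pow_mul, ← hn, Nat.card_eq_fintype_card,
    FiniteField.pow_card_pow]

theorem Big.ne_zero (h : Big ω) : ω ≠ 0 := by
  rintro rfl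
  obtain ⟨e, -, he⟩ := h
  have := Finite.one_lt_card (α := F)
  rw [orderOf_zero] at he
  omega

theorem Big.inj (h : Big ω) (σ τ : F ≃+* F) : (σ ω * τ ω = ω → σ = τ) ∧
    ∀ ρ : F ≃+* F, ρ ω * τ ω = ω * ρ (σ ω) → σ = τ := by
  have := Fintype.ofFinite F
  have h0 := h.ne_zero
  obtain ⟨e, he, hm⟩ := h
  obtain ⟨n, -, hn⟩ := FiniteField.card F 2
  rw [Linear.card_ringAut hn] at he
  rw [← Nat.card_eq_fintype_card] at hn
  obtain ⟨i, hi, e1⟩ := exists_aut_pow hn σ
  obtain ⟨j, hj, e2⟩ := exists_aut_pow hn τ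
  have key : ∀ a b : ℕ, ω ^ a = ω ^ b → a ≡ b [MOD orderOf ω] := fun a b hab => by
    have := (pow_eq_pow_iff_modEq (x := Units.mk0 ω h0)).1 (Units.ext (by simpa using hab) :
      Units.mk0 ω h0 ^ a = Units.mk0 ω h0 ^ b)
    rwa [← orderOf_units] at this
  have hfin : i = j → σ = τ := fun hij => RingEquiv.ext fun x => by rw [e1, e2, hij]
  obtain ⟨h1, h2⟩ := arith_inj he (hm.trans hn) hi hj
  refine ⟨fun h => hfin (h1 (key _ _ (by rwa [pow_add, ← e1, ← e2, pow_one]))), fun ρ h => ?_⟩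
  obtain ⟨a, ha, e3⟩ := exists_aut_pow hn ρ
  refine hfin (h2 a ha (key _ _ ?_))
  rw [pow_add, pow_add, ← e3, ← e2, h, pow_one, e3, e1, ← pow_mul, ← pow_add, add_comm i]

theorem Big.ext (h : Big ω) {σ τ : F ≃+* F} (e : σ ω = τ ω) : σ = τ :=
  (h.inj σ τ).2 (RingEquiv.refl F) (by simp [e])

theorem Big.eq_top (h : Big ω) {E : Subring F} (hE : ω ∈ E) : E = ⊤ := by
  classical
  have := Fintype.ofFinite E
  have := Fintype.ofFinite F
  letI := Fintype.fieldOfDomain E
  haveI : CharP E 2 := E.subtype.charP_iff_charP 2 |>.2 inferInstance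
  obtain ⟨d, -, hd⟩ := FiniteField.card E 2
  have h1 : iterateFrobeniusEquiv F 2 d = RingEquiv.refl F := h.ext (by
    have := congrArg Subtype.val (FiniteField.pow_card (⟨ω, hE⟩ : E))
    rw [hd] at this
    simpa [iterateFrobenius_def] using this)
  obtain ⟨g, hg⟩ := IsCyclic.exists_ofOrder_eq_natCard (α := Fˣ)
  have h2 : g ^ (2 ^ (d : ℕ) - 1) = 1 := by
    have h3 : (g : F) ^ 2 ^ (d : ℕ) = g := by
      simpa [iterateFrobenius_def] using congrArg (fun σ : F ≃+* F => σ g) h1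
    have h4 : 0 < 2 ^ (d : ℕ) := by positivity
    refine mul_right_cancel (b := g) (Units.ext ?_)
    rw [← pow_succ, Nat.sub_add_cancel h4, one_mul, Units.val_pow_eq_pow_val, h3]
  have h3 := Nat.le_of_dvd (by
    have := Nat.one_lt_two_pow d.ne_zero
    omega) (orderOf_dvd_of_pow_eq_one h2)
  rw [hg, Nat.card_units, ← hd, ← Nat.card_eq_fintype_card] at h3
  have h4 : Nat.card F ≤ Nat.card E.toAddSubgroup := by
    have := Nat.card_pos (α := E)
    change _ ≤ Nat.card E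
    omega
  exact SetLike.coe_injective (congrArg (fun A : AddSubgroup F => (A : Set F))
    (AddSubgroup.eq_top_of_le_card _ h4))

theorem Big.ne_one (h : Big ω) {x y : F} (hx : x ≠ 0) (hy : y ≠ 0) (hxy : x ≠ y) : ω ≠ 1 := by
  rintro rfl
  have h1 : frobeniusEquiv F 2 = RingEquiv.refl F := h.ext (by simp)
  have h2 : ∀ z : F, z ≠ 0 → z = 1 := fun z hz => mul_left_cancel₀ hz (by
    simpa [frobenius_def, sq] using congrArg (fun σ : F ≃+* F => σ z) h1)
  exact hxy ((h2 x hx).trans (h2 y hy).symm)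

/-- An additive subgroup stable under a big element is trivial or everything. -/
theorem Big.mem_of_stable (h : Big ω) {R : AddSubgroup F} (hR : ∀ r ∈ R, ω * r ∈ R) {r : F}
    (hr : r ∈ R) (h0 : r ≠ 0) (t : F) : t ∈ R := by
  let E : Subring F :=
    { carrier := {a | ∀ r ∈ R, a * r ∈ R}
      mul_mem' := fun ha hb r hr => by rw [mul_assoc]; exact ha _ (hb r hr)
      one_mem' := fun r hr => by simpa using hr
      add_mem' := fun ha hb r hr => by rw [add_mul]; exact R.add_mem (ha r hr) (hb r hr)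
      zero_mem' := fun r _ => by simp
      neg_mem' := fun ha r hr => by rw [neg_mul]; exact R.neg_mem (ha r hr) }
  have : t / r ∈ E := (h.eq_top (E := E) hR).ge trivial
  simpa [div_mul_cancel₀ _ h0] using this r hr

omit [CharP F 2] in
/-- A transitive group of semilinear maps contains multiplication by a big element. -/
theorem exists_big {Γ : Type*} [Group Γ] (act : Γ →* Equiv.Perm F)
    (h : ∀ g, ∃ (a : F) (σ : F ≃+* F), ∀ x, act g x = a * σ x)
    (htr : ∀ x, x ≠ 0 → ∃ g, act g 1 = x) : ∃ (g : Γ) (ω : F), Big ω ∧ ∀ x, act g x = ω * x := by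
  choose a σ hσ using h
  have ha : ∀ g, a g = act g 1 := fun g => by simp [hσ]
  have ha0 : ∀ g, a g ≠ 0 := fun g e => zero_ne_one ((act g).injective (by simp [hσ, e]) : (0 : F) = 1)
  have hmul : ∀ g g', a (g * g') = a g * σ g (a g') := fun g g' => by
    rw [ha, map_mul, Equiv.Perm.mul_apply, ← ha, hσ]
  let δ : Γ →* (F ≃+* F) := MonoidHom.mk' σ fun g g' => RingEquiv.ext fun x =>
    mul_left_cancel₀ (ha0 (g * g')) (by
      rw [← hσ, map_mul, Equiv.Perm.mul_apply, hσ, hσ, hmul, map_mul, mul_assoc]; rfl)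
  let α : δ.ker →* Fˣ := MonoidHom.mk' (fun k => Units.mk0 (a k) (ha0 k)) fun k l => Units.ext (by
    simp [hmul, show σ k = 1 from k.2])
  have h1 : a 1 = 1 := by simp [ha]
  have hconj : ∀ g, ∀ s ∈ α.range, ∃ s' ∈ α.range, (s' : F) = σ g s := by
    rintro g _ ⟨k, rfl⟩
    refine ⟨_, ⟨⟨_, δ.normal_ker.conj_mem _ k.2 g⟩, rfl⟩, mul_right_cancel₀ (ha0 g) ?_⟩
    have e1 := hmul (g * k * g⁻¹) g
    rw [inv_mul_cancel_right, show σ (g * k * g⁻¹) = 1 from δ.normal_ker.conj_mem _ k.2 g,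
      hmul] at e1
    exact e1.symm.trans (mul_comm _ _)
  let H : Subgroup Γ :=
    { carrier := {g | Units.mk0 (a g) (ha0 g) ∈ α.range}
      one_mem' := ⟨1, rfl⟩
      mul_mem' := fun {g g'} hg hg' => by
        obtain ⟨s, hs, e⟩ := hconj g _ hg'
        have e1 : Units.mk0 (a (g * g')) (ha0 _) = Units.mk0 (a g) (ha0 g) * s :=
          Units.ext (by rw [Units.val_mul, e]; exact hmul g g')
        exact (e1 ▸ α.range.mul_mem hg hs : Units.mk0 (a (g * g')) (ha0 _) ∈ α.range)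
      inv_mem' := fun {g} hg => by
        obtain ⟨s, hs, e⟩ := hconj g⁻¹ _ hg
        have e1 := hmul g⁻¹ g
        rw [inv_mul_cancel, h1] at e1
        have e2 : Units.mk0 (a g⁻¹) (ha0 _) = s⁻¹ :=
          eq_inv_of_mul_eq_one_left (Units.ext (by rw [Units.val_mul, e]; exact e1.symm))
        exact (e2 ▸ α.range.inv_mem hs : Units.mk0 (a g⁻¹) (ha0 _) ∈ α.range) }
  have hrel : ∀ g g', g⁻¹ * g' ∈ H ↔
      (Units.mk0 (a g) (ha0 g))⁻¹ * Units.mk0 (a g') (ha0 g') ∈ α.range := fun g g' => by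
    have e1 := hmul g (g⁻¹ * g')
    rw [mul_inv_cancel_left] at e1
    refine ⟨fun hg => ?_, fun hg => ?_⟩
    · obtain ⟨s, hs, e⟩ := hconj g _ hg
      convert hs using 1
      exact inv_mul_eq_of_eq_mul (Units.ext (by simp [e, e1]))
    · obtain ⟨s, hs, e⟩ := hconj g⁻¹ _ hg
      change _ ∈ α.range
      convert hs using 1
      refine Units.ext ?_
      have e2 : σ g⁻¹ (σ g (a (g⁻¹ * g'))) = a (g⁻¹ * g') := by
        change (δ g⁻¹ * δ g) _ = _
        rw [← map_mul, inv_mul_cancel, map_one]; rfl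
      rw [e, Units.val_mk0, ← e2]
      congr 1
      simp [e1, ha0]
  have hind : H.index = α.range.index := Nat.card_congr (Equiv.ofBijective
    (Quotient.map' (fun g => Units.mk0 (a g) (ha0 g)) fun g g' e => by
      rw [QuotientGroup.leftRel_apply] at e ⊢
      exact (hrel g g').1 e) ⟨fun p p' => Quotient.inductionOn₂' p p' fun g g' e =>
        QuotientGroup.eq.2 ((hrel g g').2 (QuotientGroup.eq.1 e)),
      fun p => Quotient.inductionOn' p fun u => by
        obtain ⟨g, hg⟩ := htr u u.ne_zero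
        exact ⟨QuotientGroup.mk g, congrArg _ (Units.ext ((ha g).trans hg))⟩⟩)
  obtain ⟨⟨_, k, rfl⟩, hk⟩ := IsCyclic.exists_ofOrder_eq_natCard (α := α.range)
  refine ⟨k, a k, ⟨α.range.index, ?_, ?_⟩, fun x => by rw [hσ, show σ k = 1 from k.2]; rfl⟩
  · rw [← hind]
    refine (Subgroup.index_dvd_of_le (show δ.ker ≤ H from fun k hk => ⟨⟨k, hk⟩, rfl⟩)).trans ?_
    rw [Subgroup.index_ker]
    exact Subgroup.card_subgroup_dvd_card _
  · rw [← Subgroup.orderOf_coe, ← orderOf_units] at hk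
    have := Nat.card_pos (α := F)
    rw [show orderOf (a k) = _ from hk, Subgroup.card_mul_index, Nat.card_units]
    omega

end Cfsg.Lib.Perm.Shaw
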