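import Cfsg.Agent.Lib.Perm.ShawA

/-!
# Shaw's extension of Higman's theorem, II: exponent four
-/

set_option autoImplicit false

namespace Cfsg.Lib.Perm.Shaw

open Subgroup
open Cfsg.Lib.BG
open scoped Cfsg.Lib.Transfer commutatorElement

variable {X : Type*} [Group X] {P T K A B C D : Subgroup X} {x y u v a b k k₀ : X} {n r : ℕ}
variable {F : Type*} [Field F] {f ψ : X → F}

/-- An odd-order subgroup `K ≤ T` acts on the involutions through scalars, one of them big. -/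
structure Sc (P T K : Subgroup X) (k₀ : X) (f ψ : X → F) : Prop where
  tr : Tr P T
  le : K ≤ T
  odd : Odd (Nat.card K)
  coord : FieldCoord (om P) K f ψ
  mem : k₀ ∈ K
  big : Big (ψ k₀)
  ne : ψ k₀ ≠ 1

namespace Hm

section

variable [Finite X] [Finite F] [CharP F 2] (h : Hm P T A r) (hs : Sc P T K k₀ f ψ)
  (hf : ∀ u ∈ P, (∀ a ∈ A, ⁅u, a⁆ ^ 2 ^ r = 1) → u ∈ A)
include h hs hf

theorem exists_e (hC : Cover P K A C) :
    ∃ (σ : F ≃+* F) (c : X → F),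
      (∀ u ∈ C, ∀ a ∈ A, f (⁅u, a⁆ ^ 2 ^ r) = c u * σ (f (a ^ 2 ^ (r + 1)))) ∧
      (∀ u ∈ C, ∀ v ∈ C, c (u * v) = c u + c v) ∧
      (∀ k ∈ K, ∀ u ∈ C, c (k * u * k⁻¹) = ψ k / σ (ψ k) * c u) ∧ (∀ u ∈ C, c u = 0 → u ∈ A) ∧
      (∀ t, ∃ a ∈ A, f (a ^ 2 ^ (r + 1)) = t) ∧ ∀ t, ∃ u ∈ C, c u = t := by
  have hc := hs.coord
  have h2 : ∀ t : F, t + t = 0 := CharTwo.add_self_eq_zero
  have hom : ∀ u ∈ P, ∀ a ∈ A, ⁅u, a⁆ ^ 2 ^ r ∈ om P := fun u hu a ha =>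
    h.pow_mem_om (h.le (h.comm_mem hu ha)) (h.comm_exp hu ha)
  have hπ : ∀ a ∈ A, a ^ 2 ^ (r + 1) ∈ om P := fun a ha => h.pow_mem_om (h.le ha) (h.exp a ha)
  have hπk : ∀ k ∈ K, ∀ d ∈ A, f ((k * d * k⁻¹) ^ 2 ^ (r + 1)) = ψ k * f (d ^ 2 ^ (r + 1)) :=
    fun k hk d hd => by rw [conj_pow, hc.conj k hk _ (hπ d hd)]
  obtain ⟨a₀, ha₀, h0⟩ := h.ex
  have hs' := h.suz.surj hc h.norm ha₀ (hπ a₀ ha₀) h0
  have hr : ∀ u ∈ C, ∀ d ∈ A, ∀ d' ∈ A,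
      f (⁅u, d * d'⁆ ^ 2 ^ r) = f (⁅u, d⁆ ^ 2 ^ r) + f (⁅u, d'⁆ ^ 2 ^ r) := fun u hu d hd d' hd' => by
    have hu' := hC.le hu
    rw [comm_pow_mul_right h.ab h.nml (h.le hd) (h.comm_mem hu' hd) (h.comm_mem hu' hd')
      (hom u hu' d' hd'), hc.add _ (hom u hu' d hd) _ (hom u hu' d' hd')]
  obtain ⟨σ, c, h3, h4, h5, h6⟩ := bilin_form (π := fun a => f (a ^ 2 ^ (r + 1)))
    (B := fun u a => f (⁅u, a⁆ ^ 2 ^ r)) hC.lt.le hC.norm (hs.le.trans h.norm) hc hs.mem hs.big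
    (fun u hu v hv => by
      rw [← hc.add _ (hπ u hu) _ (hπ v hv), (commute_of_ab h.ab hu hv).mul_pow]) hs' hπk
    (fun u hu v hv d hd => by
      have hu' := hC.le hu
      have hv' := hC.le hv
      rw [comm_pow_mul_left h.ab h.nml hu' (h.comm_mem hu' hd) (h.comm_mem hv' hd) (hom v hv' d hd),
        hc.add _ (hom u hu' d hd) _ (hom v hv' d hd)]) hr
    (fun u hu d hd e => by
      obtain ⟨b, hb, rfl⟩ := h.mem_pw_of (i := 1) (add_comm _ _) hd ((hc.eq_zero_iff (hπ d hd)).1 e)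
      rw [pow_one, sq, hr u hu b hb b hb, h2])
    (fun a ha d hd => by
      rw [(commute_of_ab h.ab ha hd).commutator_eq, one_pow, hc.map_one])
    (fun k hk u hu d hd => by rw [conj_comm_pow, hc.conj k hk _ (hom u (hC.le hu) d hd)]) hC.irr
    fun k hk h1 u hu => h.suz.fpf hc h.le hk (h.norm (hs.le hk)) h1 (hC.le hu)
  obtain ⟨u, hu, huA⟩ := SetLike.exists_of_lt hC.lt
  obtain ⟨h7, h8⟩ := h6.resolve_left fun h6 => huA (hf u (hC.le hu) fun a ha =>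
    (hc.eq_zero_iff (hom u (hC.le hu) a ha)).1 (by rw [h3 u hu a ha, h6 u hu, zero_mul]))
  exact ⟨σ, c, h3, h4, h5, h7, hs', h8⟩

theorem eq_zero (hC : Cover P K A C) : r = 0 := by
  have h2 : ∀ t : F, t + t = 0 := CharTwo.add_self_eq_zero
  obtain ⟨σ, c, h3, h4, -, h6, hs', -⟩ := h.exists_e hs hf hC
  by_contra hr
  obtain ⟨s, rfl⟩ := Nat.exists_eq_succ_of_ne_zero hr
  have key : ∀ u ∈ C, u ∉ A → c u = 1 := fun u hu huA => by
    have hu' := hC.le hu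
    obtain ⟨a, ha, e⟩ := hs' (σ.symm (c u)⁻¹)
    have h7 := h3 u hu a ha
    rw [e, RingEquiv.apply_symm_apply, mul_inv_cancel₀ (mt (h6 u hu) huA)] at h7
    obtain ⟨b, hb, e'⟩ := h.mem_pw_of (i := 1) (add_comm _ _) (h.comm_mem hu' ha)
      (h.comm_exp hu' ha)
    have h8 := comm_sq_left u a
    rw [(commute_of_ab h.ab (hC.sq u hu) ha).commutator_eq, ← e', comm_pow_right h.ab (h.nml hu') hb,
      eq_comm, mul_eq_one_iff_eq_inv] at h8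
    have h9 := h3 u hu b hb
    rw [← e', ← pow_mul, ← pow_add, add_comm 1] at h7
    rw [h7, map_one, mul_one, pow_succ' 2 s, pow_mul, show ⁅u, b⁆ ^ 2 = _ from h8, inv_pow,
      ← pow_mul, ← pow_mul, show 2 ^ 1 * (2 * 2 ^ s) = 2 ^ (s.succ + 1) by
        rw [Nat.succ_eq_add_one]; ring,
      om_inv (h.pow_mem_om (h.le hb) (h.exp b hb)), h7] at h9
    exact h9.symm
  obtain ⟨u, hu, huA⟩ := SetLike.exists_of_lt hC.lt
  have hv := conj_mem_of_norm (hC.norm hs.mem) hu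
  have hkA := h.norm (hs.le hs.mem)
  have hvA : k₀ * u * k₀⁻¹ ∉ A := mt (mem_normalizer_iff.1 hkA u).2 huA
  have h7 := key _ (C.mul_mem hv (C.inv_mem hu)) fun e =>
    huA (h.suz.fpf hs.coord h.le hs.mem hkA hs.ne (hC.le hu) e)
  rw [h4 _ hv _ (C.inv_mem hu), key _ hv hvA, key _ (C.inv_mem hu) (mt A.inv_mem_iff.1 huA), h2]
    at h7
  exact zero_ne_one h7

end

variable [Finite X] (h : Hm P T A 0) (hf : ∀ u ∈ P, (∀ a ∈ A, ⁅u, a⁆ ^ 2 ^ 0 = 1) → u ∈ A)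
include h hf

theorem sq_mem (hy : y ∈ P) : y ^ 2 ∈ A := hf _ (P.pow_mem hy 2) fun a ha => by
  have hom := h.suz.mem_om (h.le (h.comm_mem hy ha)) (h.comm_exp hy ha)
  rw [comm_sq_left, (om_comm hom hy).symm.commutator_eq, om_sq hom, one_mul, one_pow]

theorem comm_mem' (hx : x ∈ P) (hy : y ∈ P) : ⁅x, y⁆ ∈ A := by
  have := A.mul_mem (A.mul_mem (h.sq_mem hf hx)
    (h.sq_mem hf (P.mul_mem (P.inv_mem hx) hy))) (A.inv_mem (h.sq_mem hf hy))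
  rwa [show x ^ 2 * (x⁻¹ * y) ^ 2 * (y ^ 2)⁻¹ = ⁅x, y⁆ by simp only [sq]; group] at this

variable [Finite F] [CharP F 2] (hs : Sc P T K k₀ f ψ)
include hs

theorem cover_prop (hC : Cover P K A C) (hx : x ∈ C) :
    x ^ 4 = 1 ∧ ∀ y ∈ P, ⁅x, y⁆ ^ 2 = 1 := by
  have hc := hs.coord
  have h2 : ∀ t : F, t + t = 0 := CharTwo.add_self_eq_zero
  have hKP := hs.le.trans h.suz.norm
  obtain ⟨σ, c, h3, h4, h5, h6, -, hs'⟩ := h.exists_e hs hf hC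
  simp only [pow_zero, pow_one, zero_add] at h3
  have hsq : ∀ a ∈ A, a ^ 2 ∈ om P := fun a ha => h.pow_mem_om (n := 1) (h.le ha) (h.exp a ha)
  have hx4 : ∀ x ∈ C, x ^ 4 = 1 := fun x hx => by
    by_cases hxA : x ∈ A
    · exact h.exp x hxA
    have := h3 x hx _ (hC.sq x hx)
    rw [((Commute.refl x).pow_right 2).commutator_eq, hc.map_one, eq_comm, mul_eq_zero,
      map_eq_zero, hc.eq_zero_iff (hsq _ (hC.sq x hx)), ← pow_mul] at this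
    exact this.resolve_left (mt (h6 x hx) hxA)
  have hb : ∀ x ∈ P, ∀ y ∈ P, ⁅x, y⁆ ^ 2 ∈ om P := fun x hx y hy =>
    hsq _ (h.comm_mem' hf hx hy)
  have hl : ∀ x ∈ P, ∀ x' ∈ P, ∀ y ∈ P, f (⁅x * x', y⁆ ^ 2) = f (⁅x, y⁆ ^ 2) + f (⁅x', y⁆ ^ 2) :=
    fun x hx x' hx' y hy => by
      rw [comm_pow_mul_left h.ab h.nml hx (h.comm_mem' hf hx hy)
        (h.comm_mem' hf hx' hy) (hb x' hx' y hy), hc.add _ (hb x hx y hy) _ (hb x' hx' y hy)]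
  have hr : ∀ x ∈ P, ∀ y ∈ P, ∀ y' ∈ P, f (⁅x, y * y'⁆ ^ 2) = f (⁅x, y⁆ ^ 2) + f (⁅x, y'⁆ ^ 2) :=
    fun x hx y hy y' hy' => by
      rw [comm_pow_mul_right h.ab h.nml hy (h.comm_mem' hf hx hy)
        (h.comm_mem' hf hx hy') (hb x hx y' hy'), hc.add _ (hb x hx y hy) _ (hb x hx y' hy')]
  have hk : ∀ k ∈ K, ∀ x ∈ P, ∀ y ∈ P,
      f (⁅k * x * k⁻¹, k * y * k⁻¹⁆ ^ 2) = ψ k * f (⁅x, y⁆ ^ 2) := fun k hk x hx y hy => by
    rw [conj_comm_pow, hc.conj k hk _ (hb x hx y hy)]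
  have h7 : ∀ x ∈ C, ∀ y ∈ P, c x * σ (f (⁅x, y⁆ ^ 2)) = f (⁅x, y⁆ ^ 2) := fun x hx y hy => by
    have := comm_sq_left x y
    rw [(om_comm (h.suz.mem_om (P.pow_mem (hC.le hx) 2) (by rw [← pow_mul, hx4 x hx]))
      hy).commutator_eq, eq_comm, mul_eq_one_iff_eq_inv, om_inv (hb x (hC.le hx) y hy)] at this
    rw [← h3 x hx _ (h.comm_mem' hf (hC.le hx) hy), this]
  obtain ⟨x₁, hx₁, e₁⟩ := hs' 1
  have h8 : ∀ y ∈ P, ∀ x ∈ C, f (⁅x, y⁆ ^ 2) = f (⁅x₁, y⁆ ^ 2) * c x ^ 2 ∧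
      σ (f (⁅x, y⁆ ^ 2)) = f (⁅x₁, y⁆ ^ 2) * c x := fun y hy x hx => by
    have e1 := h7 x hx y hy
    have e2 := h7 x₁ hx₁ y hy
    have e3 := h7 _ (C.mul_mem hx hx₁) y hy
    rw [h4 x hx x₁ hx₁, hl x (hC.le hx) x₁ (hC.le hx₁) y hy, map_add, e₁] at e3
    rw [e₁, one_mul] at e2
    rw [e2] at e3
    have e4 : σ (f (⁅x, y⁆ ^ 2)) = f (⁅x₁, y⁆ ^ 2) * c x := by
      linear_combination e3 - e1 - h2 (f (⁅x₁, y⁆ ^ 2) * c x)
    exact ⟨by rw [← e1, e4]; ring, e4⟩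
  have h9 : ∀ y ∈ P, f (⁅x₁, y⁆ ^ 2) ≠ 0 → f (⁅x₁, y⁆ ^ 2) = 1 := fun y hy h0 => by
    obtain ⟨x, hx, e⟩ := hs' (f (⁅x₁, y⁆ ^ 2))
    have e1 := (h8 y hy x₁ hx₁).2
    obtain ⟨e2, e3⟩ := h8 y hy x hx
    rw [e₁, mul_one] at e1
    rw [e2, e, map_mul, map_pow, e1] at e3
    exact mul_left_cancel₀ h0 (mul_left_cancel₀ h0 (by linear_combination e3))
  let Y := addKer P (fun y => f (⁅x₁, y⁆ ^ 2)) (hr x₁ (hC.le hx₁)) ⊥
  have hAY : A ≤ Y := fun a ha => ⟨h.le ha, by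
    change f _ = 0
    rw [show ⁅x₁, a⁆ ^ 2 = 1 from h.comm_exp (hC.le hx₁) ha, hc.map_one]⟩
  have hKY : K ≤ 𝐍(Y) := le_norm_iff.2 fun k hk' y hy => ⟨conj_mem_of_norm (hKP hk') hy.1, by
    have e1 := conj_mem_of_norm' (hC.norm hk') hx₁
    have := hk k hk' _ (hC.le e1) y hy.1
    rw [(h8 y hy.1 _ e1).1, show f (⁅x₁, y⁆ ^ 2) = 0 from hy.2] at this
    simpa [mul_assoc] using this⟩
  refine ⟨hx4 x hx, fun y hy => (hc.eq_zero_iff (hb x (hC.le hx) y hy)).1 ?_⟩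
  suffices y ∈ Y by rw [(h8 y hy x hx).1, show f (⁅x₁, y⁆ ^ 2) = 0 from this.2, zero_mul]
  by_contra hyY
  have hk' := hs.mem
  have hy' := conj_mem_of_norm (hKP hk') hy
  refine hyY (h.suz.fpf (A := Y) hc (fun _ e => e.1) hk' (hKY hk') hs.ne hy
    ⟨P.mul_mem hy' (P.inv_mem hy), ?_⟩)
  change f _ = 0
  rw [hr _ (hC.le hx₁) _ hy' _ (P.inv_mem hy),
    h9 _ hy' fun e => hyY ((mem_normalizer_iff.1 (hKY hk') y).2 ⟨hy', e⟩),
    h9 _ (P.inv_mem hy) fun e => hyY (Y.inv_mem_iff.1 ⟨P.inv_mem hy, e⟩), h2]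

theorem pow_four (hx : x ∈ P) : x ^ 4 = 1 := by
  have hKP := hs.le.trans h.suz.norm
  have hKA := hs.le.trans h.norm
  have hA : ∀ x ∈ P, ∀ y ∈ P, ⁅x, y⁆ ∈ A := fun x hx y hy => h.comm_mem' hf hx hy
  have hinv : ∀ x y : X, ⁅x, y⁆ ^ 2 = 1 → ⁅x⁻¹, y⁆ ^ 2 = 1 := fun x y e => by
    rw [show ⁅x⁻¹, y⁆ = x⁻¹ * ⁅x, y⁆⁻¹ * x⁻¹⁻¹ by group, conj_pow, inv_pow, e]; simp
  let Z : Subgroup X :=
    { carrier := {x | x ∈ P ∧ x ^ 4 = 1 ∧ ∀ y ∈ P, ⁅x, y⁆ ^ 2 = 1}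
      one_mem' := ⟨P.one_mem, by simp, by simp⟩
      mul_mem' := fun {x y} hx hy => ⟨P.mul_mem hx.1 hy.1, by
        have e1 := h.sq_mem hf hx.1
        have e2 := hA _ (P.inv_mem hx.1) y hy.1
        rw [show 4 = 2 * 2 from rfl, pow_mul, mul_sq_eq, (commute_of_ab h.ab (A.mul_mem e1 e2)
          (h.sq_mem hf hy.1)).mul_pow, (commute_of_ab h.ab e1 e2).mul_pow, ← pow_mul,
          ← pow_mul, hinv _ _ (hx.2.2 y hy.1), hx.2.1, hy.2.1]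
        simp, fun z hz => by
        rw [comm_pow_mul_left h.ab h.nml hx.1 (hA x hx.1 z hz) (hA y hy.1 z hz)
          (by rw [hy.2.2 z hz]; exact one_mem _), hx.2.2 z hz, hy.2.2 z hz, one_mul]⟩
      inv_mem' := fun {x} hx => ⟨P.inv_mem hx.1, by rw [inv_pow, hx.2.1, inv_one],
        fun y hy => hinv _ _ (hx.2.2 y hy)⟩ }
  have hAZ : A ≤ Z := fun a ha => ⟨h.le ha, h.exp a ha, fun y hy => by
    rw [← commutatorElement_inv, inv_pow, show ⁅y, a⁆ ^ 2 = 1 from h.comm_exp hy ha, inv_one]⟩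
  have hKZ : K ≤ 𝐍(Z) := le_norm_iff.2 fun k hk z hz => ⟨conj_mem_of_norm (hKP hk) hz.1,
    by rw [conj_pow, hz.2.1]; simp, fun y hy => by
      have := conj_comm_pow k z (k⁻¹ * y * k) 2
      rw [hz.2.2 _ (conj_mem_of_norm' (hKP hk) hy)] at this
      simpa [mul_assoc] using this⟩
  have : Fact (Nat.Prime 2) := ⟨Nat.prime_two⟩
  have hZP : Z ≤ P := fun _ e => e.1
  obtain ⟨W, hW, hKW⟩ := Maschke_abelem (p := 2) (A := quo K A) (V := quo P A) (U := quo Z A)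
    ⟨(quo_abelian_iff h.nml).2 (comm_le_iff.2 hA), fun z hz => by
      obtain ⟨y, hy, hy', rfl⟩ := PF.A9.exists_qm hz
      rw [← PF.A9.qm_pow hy', PF.A9.qm_eq_one_iff (pow_mem hy' 2)]
      exact h.sq_mem hf hy⟩
    (hs.odd.coprime_two_right.coprime_dvd_left (card_quo_dvd K A))
    (quo_mono hZP A) (quo_norm hKP A) (quo_norm hKZ A)
  have hWP : copre A W ≤ P := copre_le_of_le_quo ⟨h.le, h.nml⟩ (le_sup_right.trans hW.sup.le)
  by_cases h0 : W = ⊥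
  · have := hW.sup
    rw [h0, sup_bot_eq] at this
    exact ((quo_le_quo_iff' h.nml ⟨hAZ, hZP.trans h.nml⟩).1 this.ge hx).2.1
  obtain ⟨C, hle, hC⟩ := exists_cover h.suz.pg hKP h.nml hKA (lt_copre h0) hWP
    (norm_of_comm_le_of_le ((comm_le_iff.2 hA).trans (le_copre W)) hWP) (norm_copre hKA hKW)
  refine absurd ((quo_eq_bot_iff (hC.le.trans h.nml)).1 (eq_bot_mono hW.inf (le_inf
    (quo_mono (Y := Z) (fun z hz => ⟨hC.le hz, h.cover_prop hf hs hC hz⟩) A)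
    ((le_copre_iff (hC.le.trans h.nml)).1 hle)))) hC.lt.not_ge

end Hm

namespace Sc

variable [Finite X] [Finite F] [CharP F 2] (hs : Sc P T K k₀ f ψ) (hna : ¬ IsMulCommutative P)
include hs hna

/-- Higman: all squares in a Suzuki 2-group are central. -/
theorem sq_mem_om (hx : x ∈ P) : x ^ 2 ∈ om P := by
  have h := hs.tr
  classical
  by_contra hn
  have hN : om P ⊔ pw P 2 ≤ P := sup_le (om_le P) (pw_le P 2)
  obtain ⟨C, hle, hC⟩ := exists_cover h.pg h.norm (norm_om (le_norm P)) (norm_om h.norm)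
    (N := om P ⊔ pw P 2) (left_lt_sup.2 fun e => hn (e (pow_mem_pw hx 2))) hN
    (norm_sup (norm_om (le_norm P)) (norm_pw (le_norm P) 2))
    (norm_sup (norm_om h.norm) (norm_pw h.norm 2))
  have hCab : IsMulCommutative C := abelian_iff.2 (hle.trans (sup_le
    (le_cent_iff.2 fun a ha b hb => om_comm ha (hC.le hb)) (pw_le_iff.2 fun y hy =>
      mem_cent.2 fun u hu => commutatorElement_eq_one_iff_mul_comm.1 (by
        have e := hC.comm u hu y hy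
        rw [← inv_eq_one, commutatorElement_inv, comm_sq_left, ← commutatorElement_inv u y,
          (om_comm (inv_mem e) hy).symm.commutator_eq, om_sq (inv_mem e), one_mul]))))
  obtain ⟨A, ⟨hCA, hA, hAP, hKA, hPA⟩, hmax⟩ := (wellFounded_gt (α := Subgroup X)).has_min
    {A | C ≤ A ∧ IsMulCommutative A ∧ A ≤ P ∧ T ≤ 𝐍(A) ∧ P ≤ 𝐍(A)}
    ⟨C, le_rfl, hCab, hC.le, hC.norm, hC.nml⟩
  have hmax' : ∀ D, Cover P T A D → ¬ IsMulCommutative D := fun D hD e =>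
    hmax D ⟨hCA.trans hD.lt.le, e, hD.le, hD.norm, hD.nml⟩ hD.lt
  have hex : ∃ n, ∀ a ∈ A, a ^ 2 ^ n = 1 := by
    have : Fact (Nat.Prime 2) := ⟨Nat.prime_two⟩
    obtain ⟨n, hn⟩ := h.pg.exists_card_eq
    exact ⟨n, fun a ha => by
      simpa [hn] using congrArg Subtype.val (pow_card_eq_one' (x := (⟨a, hAP ha⟩ : P)))⟩
  obtain ⟨u, hu, huA⟩ := SetLike.exists_of_lt hC.lt
  obtain ⟨r, hr⟩ : ∃ r, Nat.find hex = r + 2 := Nat.exists_eq_add_of_le' (by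
    by_contra! hlt
    refine huA (h.mem_om (hC.le hu) (orderOf_dvd_iff_pow_eq_one.1 ((orderOf_dvd_of_pow_eq_one
      (Nat.find_spec hex u (hCA hu))).trans (pow_dvd_pow 2 (show _ ≤ 1 by omega)))))) 
  have hH : Hm P T A r := ⟨h, hA, hAP, hKA, hPA, hr ▸ Nat.find_spec hex, by
    simpa using Nat.find_min hex (show r + 1 < _ by omega)⟩
  have hf := fun u hu => hH.faith (u := u) hs.coord hs.le hs.mem hs.big hmax' hu
  obtain ⟨D, -, hD⟩ := exists_cover h.pg (hs.le.trans h.norm) hPA (hs.le.trans hKA)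
    (lt_of_le_of_ne hAP fun e => hna (e ▸ hA)) le_rfl (le_norm P) (hs.le.trans h.norm)
  obtain rfl := hH.eq_zero hs hf hD
  exact hn (h.mem_om (P.pow_mem hx 2) (by rw [← pow_mul]; exact hH.pow_four hf hs hx))

theorem center_eq : 𝐙(P) = om P := by
  have h := hs.tr
  refine le_antisymm (fun z hz => ?_) fun z hz => ⟨hz.1, mem_cent.2 fun y hy => (om_comm hz hy).symm⟩
  by_contra hn
  refine hna (abelian_iff.2 fun u hu => ?_)
  obtain ⟨w, hw, e⟩ := (mem_pw (abelian_center P)).1 (h.om_le_of ((pw_le _ 2).trans inf_le_left)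
    (norm_pw (norm_center h.norm) 2) (ne_bot_of_mem (pow_mem_pw hz 2)
      fun e => hn (h.mem_om hz.1 e)) (hs.sq_mem_om hna hu))
  have h1 := h.mem_om (P.mul_mem hu (P.inv_mem hw.1)) (by
    rw [(show Commute u w from mem_cent.1 hw.2 u hu).inv_right.mul_pow, inv_pow, e, mul_inv_cancel])
  simpa using mul_mem (mem_cent.2 fun y hy => (om_comm h1 hy).symm.eq) hw.2

end Sc

end Cfsg.Lib.Perm.Shaw
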