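import Cfsg.Agent.Lib.Perm.ShawArith

/-!
# Equivariant biadditive maps for a big element (for Shaw's theorem)
-/

set_option autoImplicit false

namespace Cfsg.Lib.Perm.Shaw

open Subgroup

variable {X : Type*} [Group X] {F : Type*} [Field F] [Finite F] [CharP F 2] {K A C D : Subgroup X}

/-- An alternating map `F × F → F` commuting with a big scalar vanishes. -/
theorem alt_field {ω : F} (hω : Big ω) (B : F →+ F →+ F) (h : ∀ x y, B (ω * x) (ω * y) = ω * B x y)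
    (h0 : ∀ x, B x x = 0) (x y : F) : B x y = 0 := by
  classical
  have := Fintype.ofFinite (F ≃+* F)
  obtain ⟨c, hc⟩ := Inv.exists_autComb₂ B
  have hc' : ∀ x y, B x y = ∑ σ : F ≃+* F, (∑ τ : F ≃+* F, c (σ, τ) * τ y) * σ x := fun x y => by
    rw [hc, Fintype.sum_prod_type]
    refine Finset.sum_congr rfl fun σ _ => ?_
    rw [Finset.sum_mul]
    exact Finset.sum_congr rfl fun τ _ => by ring
  have h1 : ∀ σ τ, c (σ, τ) ≠ 0 → σ = τ := fun σ τ hne => by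
    have h2 : ∀ y, (∑ τ : F ≃+* F, c (σ, τ) * τ (ω * y)) * σ ω =
        ω * ∑ τ : F ≃+* F, c (σ, τ) * τ y := fun y => congrFun (Inv.autComb_unique
      (c := fun σ => (∑ τ : F ≃+* F, c (σ, τ) * τ (ω * y)) * σ ω)
      (d := fun σ => ω * ∑ τ : F ≃+* F, c (σ, τ) * τ y) fun x => by
        have := h x y
        rw [hc', hc', Finset.mul_sum] at this
        simpa only [map_mul (_ : F ≃+* F) ω x, mul_assoc] using this) σ
    have h3 := congrFun (Inv.autComb_unique (c := fun τ => c (σ, τ) * (σ ω * τ ω))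
      (d := fun τ => c (σ, τ) * ω) fun y => by
        have := h2 y
        rw [Finset.sum_mul, Finset.mul_sum] at this
        convert this using 2
        · rw [map_mul]; ring
        · ring) τ
    exact (hω.inj σ τ).1 (mul_left_cancel₀ hne h3)
  obtain ⟨z, hz⟩ := (frobeniusEquiv F 2).surjective (x * y)
  rw [← h0 z, hc, hc]
  refine Finset.sum_congr rfl fun p _ => ?_
  by_cases e : c p = 0
  · simp [e]
  · rw [← h1 p.1 p.2 e, ← map_mul, ← map_mul, ← hz, frobeniusEquiv_def, sq]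

theorem alt_eq_zero {π : X → F} {B : X → X → F} {k : X} {ω : F} (hω : Big ω)
    (hk : k ∈ normalizer (C : Set X))
    (hπ : ∀ d ∈ C, ∀ d' ∈ C, π (d * d') = π d + π d') (hs : ∀ r, ∃ d ∈ C, π d = r)
    (hπk : ∀ d ∈ C, π (k * d * k⁻¹) = ω * π d)
    (hB₁ : ∀ u ∈ C, ∀ v ∈ C, ∀ d ∈ C, B (u * v) d = B u d + B v d)
    (hB₂ : ∀ u ∈ C, ∀ d ∈ C, ∀ d' ∈ C, B u (d * d') = B u d + B u d')
    (hB₀ : ∀ u ∈ C, ∀ d ∈ C, π d = 0 → B u d = 0) (hB₀' : ∀ u ∈ C, ∀ d ∈ C, π u = 0 → B u d = 0)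
    (hBk : ∀ u ∈ C, ∀ d ∈ C, B (k * u * k⁻¹) (k * d * k⁻¹) = ω * B u d)
    (halt : ∀ u ∈ C, B u u = 0) : ∀ u ∈ C, ∀ d ∈ C, B u d = 0 := by
  have h1 : ∀ u : C, ∃ T : F →+ F, ∀ d ∈ C, T (π d) = B u d := fun u =>
    exists_addHom_of_factor hπ hs (hB₂ u u.2) (hB₀ u u.2)
  choose T hT using h1
  choose s hs₁ hs₂ using hs
  have key : ∀ u ∈ C, ∀ v ∈ C, π u = π v → ∀ d ∈ C, B u d = B v d := fun u hu v hv e d hd => by
    obtain ⟨T', hT'⟩ := exists_addHom_of_factor hπ (fun r => ⟨s r, hs₁ r, hs₂ r⟩)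
      (g := fun u => B u d) (fun u hu v hv => hB₁ u hu v hv d hd) fun u hu e => hB₀' u hu d hd e
    rw [← hT' u hu, ← hT' v hv, e]
  let B' : F →+ F →+ F := AddMonoidHom.mk' (fun x => T ⟨s x, hs₁ x⟩) fun x y =>
    AddMonoidHom.ext fun z => by
      rw [← hs₂ z, AddMonoidHom.add_apply, hT _ _ (hs₁ z), hT _ _ (hs₁ z), hT _ _ (hs₁ z),
        ← hB₁ _ (hs₁ x) _ (hs₁ y) _ (hs₁ z)]
      exact key _ (hs₁ _) _ (C.mul_mem (hs₁ x) (hs₁ y))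
        (by rw [hπ _ (hs₁ x) _ (hs₁ y), hs₂, hs₂, hs₂]) _ (hs₁ z)
  have hB' : ∀ u ∈ C, ∀ d ∈ C, B' (π u) (π d) = B u d := fun u hu d hd =>
    (hT _ d hd).trans (key _ (hs₁ _) _ hu (hs₂ _) d hd)
  intro u hu d hd
  rw [← hB' u hu d hd]
  refine alt_field hω B' (fun x y => ?_) (fun x => ?_) _ _
  · rw [← hs₂ x, ← hs₂ y, ← hπk _ (hs₁ x), ← hπk _ (hs₁ y), hB' _ (hs₁ x) _ (hs₁ y),
      hB' _ ((mem_normalizer_iff.1 hk _).1 (hs₁ x)) _ ((mem_normalizer_iff.1 hk _).1 (hs₁ y)),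
      hBk _ (hs₁ x) _ (hs₁ y)]
  · rw [← hs₂ x, hB' _ (hs₁ x) _ (hs₁ x), halt _ (hs₁ x)]

/-- Higman's key lemma, for a group `K` acting on `F` through a big element. -/
theorem bilin_form {V : Subgroup X} {f ψ π : X → F} {B : X → X → F} (hA : A ≤ C)
    (hKC : K ≤ normalizer (C : Set X)) (hKD : K ≤ normalizer (D : Set X))
    (hf : FieldCoord V K f ψ) {k₀ : X} (hk₀ : k₀ ∈ K) (hω : Big (ψ k₀))
    (hπ : ∀ d ∈ D, ∀ d' ∈ D, π (d * d') = π d + π d') (hs : ∀ r, ∃ d ∈ D, π d = r)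
    (hπk : ∀ k ∈ K, ∀ d ∈ D, π (k * d * k⁻¹) = ψ k * π d)
    (hB₁ : ∀ u ∈ C, ∀ v ∈ C, ∀ d ∈ D, B (u * v) d = B u d + B v d)
    (hB₂ : ∀ u ∈ C, ∀ d ∈ D, ∀ d' ∈ D, B u (d * d') = B u d + B u d')
    (hB₀ : ∀ u ∈ C, ∀ d ∈ D, π d = 0 → B u d = 0) (hBA : ∀ a ∈ A, ∀ d ∈ D, B a d = 0)
    (hBk : ∀ k ∈ K, ∀ u ∈ C, ∀ d ∈ D, B (k * u * k⁻¹) (k * d * k⁻¹) = ψ k * B u d)
    (hirr : ∀ E : Subgroup X, K ≤ normalizer (E : Set X) → A ≤ E → E ≤ C → E = A ∨ E = C)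
    (hfpf : ∀ k ∈ K, ψ k ≠ 1 → ∀ u ∈ C, k * u * k⁻¹ * u⁻¹ ∈ A → u ∈ A) :
    ∃ (σ : F ≃+* F) (c : X → F), (∀ u ∈ C, ∀ d ∈ D, B u d = c u * σ (π d)) ∧
      (∀ u ∈ C, ∀ v ∈ C, c (u * v) = c u + c v) ∧
      (∀ k ∈ K, ∀ u ∈ C, c (k * u * k⁻¹) = ψ k / σ (ψ k) * c u) ∧
      ((∀ u ∈ C, c u = 0) ∨ ((∀ u ∈ C, c u = 0 → u ∈ A) ∧ ∀ r, ∃ u ∈ C, c u = r)) := by
  classical
  have := Fintype.ofFinite (F ≃+* F)
  have h1 : ∀ u, ∃ c : (F ≃+* F) → F, u ∈ C → ∀ d ∈ D, B u d = ∑ σ, c σ * σ (π d) := fun u => by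
    by_cases hu : u ∈ C
    · obtain ⟨T, hT⟩ := exists_addHom_of_factor hπ hs (hB₂ u hu) (hB₀ u hu)
      obtain ⟨c, hc⟩ := Inv.exists_autComb T
      exact ⟨c, fun _ d hd => by rw [← hT d hd, hc]⟩
    · exact ⟨0, fun h => absurd h hu⟩
  choose c hc using h1
  have huniq : ∀ c c' : (F ≃+* F) → F, (∀ d ∈ D, ∑ σ, c σ * σ (π d) = ∑ σ, c' σ * σ (π d)) →
      c = c' := fun c c' h => Inv.autComb_unique fun x => by
    obtain ⟨d, hd, rfl⟩ := hs x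
    exact h d hd
  have hψ0 : ∀ k ∈ K, ψ k ≠ 0 := fun k hk => hf.psi_ne_zero hk
  have hadd : ∀ σ, ∀ u ∈ C, ∀ v ∈ C, c (u * v) σ = c u σ + c v σ := fun σ u hu v hv =>
    congrFun (huniq (c (u * v)) (c u + c v) fun d hd => by
      rw [← hc _ (C.mul_mem hu hv) d hd, hB₁ u hu v hv d hd, hc u hu d hd, hc v hv d hd,
        ← Finset.sum_add_distrib]
      simp [add_mul]) σ
  have hzero : ∀ σ, ∀ a ∈ A, c a σ = 0 := fun σ a ha =>
    congrFun (huniq (c a) 0 fun d hd => by rw [← hc a (hA ha) d hd, hBA a ha d hd]; simp) σ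
  have hconj : ∀ σ, ∀ k ∈ K, ∀ u ∈ C, c (k * u * k⁻¹) σ = ψ k / σ (ψ k) * c u σ := by
    intro σ k hk u hu
    have hu' := (mem_normalizer_iff.1 (hKC hk) u).1 hu
    have := congrFun (huniq (fun σ => c (k * u * k⁻¹) σ * σ (ψ k)) (fun σ => ψ k * c u σ)
      fun d hd => by
        have := hBk k hk u hu d hd
        rw [hc _ hu' _ ((mem_normalizer_iff.1 (hKD hk) d).1 hd), hπk k hk d hd, hc u hu d hd,
          Finset.mul_sum] at this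
        simpa [mul_assoc] using this) σ
    have h0 : σ (ψ k) ≠ 0 := (map_ne_zero σ).2 (hψ0 k hk)
    field_simp
    linear_combination this
  have hsurj : ∀ σ, ∀ u ∈ C, c u σ ≠ 0 → ∀ r, ∃ v ∈ C, c v σ = r := by
    intro σ u hu h0 r
    have hm := mem_of_eq_zero hKC (hadd σ) hA (hzero σ) (hconj σ) hirr hu h0
    have hinv : ∀ v ∈ C, c v⁻¹ σ = -c v σ := fun v hv => eq_neg_of_add_eq_zero_right (by
      rw [← hadd σ v hv _ (C.inv_mem hv), mul_inv_cancel, hzero σ 1 A.one_mem])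
    have hμ : Big (ψ k₀ / σ (ψ k₀)) := hω.of_orderOf (orderOf_eq_orderOf_iff.2 fun n =>
      ⟨fun e => by_contra fun hne => by
        have hk := K.pow_mem hk₀ n
        refine h0 (hzero σ u (hfpf _ hk (by rwa [hf.psi_pow hk₀]) u hu (hm _ (C.mul_mem
          ((mem_normalizer_iff.1 (hKC hk) u).1 hu) (C.inv_mem hu)) ?_)))
        rw [hadd σ _ ((mem_normalizer_iff.1 (hKC hk) u).1 hu) _ (C.inv_mem hu), hconj σ _ hk u hu,
          hinv u hu, hf.psi_pow hk₀, map_pow, ← div_pow, e, one_mul, add_neg_cancel],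
      fun e => by rw [div_pow, ← map_pow, e, map_one, div_one]⟩)
    let R : AddSubgroup F :=
      { carrier := {r | ∃ v ∈ C, c v σ = r}
        add_mem' := by
          rintro _ _ ⟨v, hv, rfl⟩ ⟨w, hw, rfl⟩
          exact ⟨_, C.mul_mem hv hw, hadd σ v hv w hw⟩
        zero_mem' := ⟨1, C.one_mem, hzero σ 1 A.one_mem⟩
        neg_mem' := by
          rintro _ ⟨v, hv, rfl⟩
          exact ⟨_, C.inv_mem hv, hinv v hv⟩ }
    refine hμ.mem_of_stable (R := R) ?_ ⟨u, hu, rfl⟩ h0 r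
    rintro _ ⟨v, hv, rfl⟩
    exact ⟨_, (mem_normalizer_iff.1 (hKC hk₀) v).1 hv, hconj σ k₀ hk₀ v hv⟩
  by_cases hz : ∀ σ, ∀ u ∈ C, c u σ = 0
  · exact ⟨RingEquiv.refl F, 0, fun u hu d hd => by simp [hc u hu d hd, hz _ u hu], by simp, by simp,
      Or.inl fun _ _ => rfl⟩
  push Not at hz
  obtain ⟨σ, u₀, hu₀, h0⟩ := hz
  have hm := mem_of_eq_zero hKC (hadd σ) hA (hzero σ) (hconj σ) hirr hu₀ h0
  refine ⟨σ, fun u => c u σ, fun u hu d hd => ?_, hadd σ, hconj σ,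
    Or.inr ⟨hm, hsurj σ u₀ hu₀ h0⟩⟩
  rw [hc u hu d hd]
  refine Finset.sum_eq_single σ (fun τ _ hτ => ?_) (by simp)
  by_contra hne
  have h1 := left_ne_zero_of_mul hne
  obtain ⟨T, hT⟩ := exists_addHom_of_factor (hadd σ) (hsurj σ u₀ hu₀ h0) (hadd τ)
    fun v hv e => hzero τ v (hm v hv e)
  have hTk : ∀ r, T (ψ k₀ / σ (ψ k₀) * r) = ψ k₀ / τ (ψ k₀) * T r := fun r => by
    obtain ⟨v, hv, rfl⟩ := hsurj σ u₀ hu₀ h0 r
    rw [← hconj σ k₀ hk₀ v hv, hT _ ((mem_normalizer_iff.1 (hKC hk₀) v).1 hv), hT v hv,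
      hconj τ k₀ hk₀ v hv]
  obtain ⟨t, ht⟩ := Inv.exists_autComb T
  obtain ⟨ρ, hρ⟩ : ∃ ρ, t ρ ≠ 0 := by
    by_contra! e
    exact h1 (by rw [← hT u hu, ht]; simp [e])
  have h2 := congrFun (Inv.autComb_unique (c := fun ρ => t ρ * ρ (ψ k₀ / σ (ψ k₀)))
    (d := fun ρ => ψ k₀ / τ (ψ k₀) * t ρ) fun x => by
      have := hTk x
      rw [ht, ht, Finset.mul_sum] at this
      simpa [mul_assoc] using this) ρ
  have h3 := mul_left_cancel₀ hρ (h2.trans (mul_comm _ _))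
  have h4 : ρ (σ (ψ k₀)) ≠ 0 := (map_ne_zero ρ).2 ((map_ne_zero σ).2 hω.ne_zero)
  have h5 : τ (ψ k₀) ≠ 0 := (map_ne_zero τ).2 hω.ne_zero
  rw [map_div₀, div_eq_div_iff h4 h5] at h3
  exact hτ ((hω.inj σ τ).2 ρ h3).symm

end Cfsg.Lib.Perm.Shaw
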